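import Mathlib

/-!
The field with four elements and the affine group over it.
-/

set_option autoImplicit false
set_option linter.style.haveILetI false

namespace Cfsg.Agent.Lib.InvChar.OrdersFive

open Matrix

/-- The field with four elements, `x + yω`. -/
structure F4 where
  /-- coefficient of one -/
  x : Bool
  /-- coefficient of `ω` -/
  y : Bool
deriving DecidableEq

instance : Fintype F4 :=
  Fintype.ofEquiv (Bool × Bool) ⟨fun p => ⟨p.1, p.2⟩, fun a => (a.x, a.y), fun _ => rfl, fun _ => rfl⟩

instance : Zero F4 := ⟨⟨false, false⟩⟩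
instance : One F4 := ⟨⟨true, false⟩⟩
instance : Add F4 := ⟨fun a b => ⟨xor a.x b.x, xor a.y b.y⟩⟩
instance : Neg F4 := ⟨fun a => a⟩
instance : Mul F4 :=
  ⟨fun a b => ⟨xor (a.x && b.x) (a.y && b.y), xor (xor (a.x && b.y) (a.y && b.x)) (a.y && b.y)⟩⟩
instance : Inv F4 := ⟨fun a => a * a⟩

theorem add_assoc' : ∀ a b c : F4, a + b + c = a + (b + c) := by decide
theorem zero_add' : ∀ a : F4, 0 + a = a := by decide
theorem add_comm' : ∀ a b : F4, a + b = b + a := by decide
theorem mul_assoc' : ∀ a b c : F4, a * b * c = a * (b * c) := by decide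
theorem mul_comm' : ∀ a b : F4, a * b = b * a := by decide
theorem one_mul' : ∀ a : F4, 1 * a = a := by decide
theorem left_distrib' : ∀ a b c : F4, a * (b + c) = a * b + a * c := by decide
theorem neg_add_cancel' : ∀ a : F4, -a + a = 0 := by decide
theorem zero_mul' : ∀ a : F4, 0 * a = 0 := by decide

instance : Field F4 where
  add_assoc := add_assoc'
  zero_add := zero_add'
  add_zero a := (add_comm' a 0).trans (zero_add' a)
  add_comm := add_comm'
  nsmul := nsmulRec
  zsmul := zsmulRec
  neg_add_cancel := neg_add_cancel'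
  mul_assoc := mul_assoc'
  one_mul := one_mul'
  mul_one a := (mul_comm' a 1).trans (one_mul' a)
  mul_comm := mul_comm'
  left_distrib := left_distrib'
  right_distrib a b c := by rw [mul_comm', left_distrib', mul_comm' c a, mul_comm' c b]
  zero_mul := zero_mul'
  mul_zero a := (mul_comm' a 0).trans (zero_mul' a)
  exists_pair_ne := ⟨0, 1, by decide⟩
  mul_inv_cancel := by decide
  inv_zero := by decide
  nnqsmul := _
  qsmul := _

theorem card_F4 : Fintype.card F4 = 4 := rfl

namespace F4

/-- The generator. -/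
def omega : F4 := ⟨false, true⟩

theorem omega_sq : omega * omega = omega + 1 := by decide

theorem exists_rep : ∀ c : F4, c = 0 ∨ c = 1 ∨ c = omega ∨ c = omega + 1 := by decide

end F4

/-- The matrices with last row `(0, 0, 1)`. -/
def affineSet : Set (Matrix.SpecialLinearGroup (Fin 3) F4) :=
  {M | (M : Matrix (Fin 3) (Fin 3) F4) 2 0 = 0 ∧ (M : Matrix (Fin 3) (Fin 3) F4) 2 1 = 0 ∧
    (M : Matrix (Fin 3) (Fin 3) F4) 2 2 = 1}

theorem affineSet_mul {M N : Matrix.SpecialLinearGroup (Fin 3) F4} (hM : M ∈ affineSet) (hN : N ∈ affineSet) :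
    M * N ∈ affineSet := by
  obtain ⟨a, b, c⟩ := hM
  obtain ⟨a', b', c'⟩ := hN
  refine ⟨?_, ?_, ?_⟩ <;>
    simp [Matrix.SpecialLinearGroup.coe_mul, Matrix.mul_apply, Fin.sum_univ_three, a, b, c, a', b', c']

theorem affineSet_one : (1 : Matrix.SpecialLinearGroup (Fin 3) F4) ∈ affineSet := by
  refine ⟨?_, ?_, ?_⟩ <;> simp

/-- The affine group. -/
def affineGroup : Subgroup (Matrix.SpecialLinearGroup (Fin 3) F4) where
  carrier := affineSet
  one_mem' := affineSet_one
  mul_mem' := affineSet_mul
  inv_mem' := fun {M} hM => by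
    have key : ∀ n : ℕ, M ^ n ∈ affineSet := fun n => by
      induction n with
      | zero => simpa using affineSet_one
      | succ n ih => rw [pow_succ]; exact affineSet_mul ih hM
    have h : M⁻¹ = M ^ (orderOf M - 1) := by
      rw [inv_eq_iff_mul_eq_one, ← pow_succ',
        Nat.sub_add_cancel (orderOf_pos M : 0 < orderOf M), pow_orderOf_eq_one]
    rw [h]
    exact key _

theorem closure_affineSet : Subgroup.closure affineSet = affineGroup :=
  Subgroup.closure_eq affineGroup

theorem card_det_one :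
    Fintype.card {v : F4 × F4 × F4 × F4 // v.1 * v.2.2.2 + v.2.1 * v.2.2.1 = 1} = 60 := by
  decide +kernel

theorem card_affineGroup_le : Nat.card affineGroup ≤ 960 := by
  let f : affineGroup → {v : F4 × F4 × F4 × F4 // v.1 * v.2.2.2 + v.2.1 * v.2.2.1 = 1} × (F4 × F4) := fun M =>
    (⟨((M.1.1 0 0), (M.1.1 0 1), (M.1.1 1 0), (M.1.1 1 1)), by
      obtain ⟨a, b, c⟩ := M.2
      have h := M.1.2
      rw [Matrix.det_fin_three, a, b, c] at h
      have hn : ∀ p q : F4, p - q = p + q := fun p q => rfl
      simpa [hn] using h⟩, (M.1.1 0 2, M.1.1 1 2))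
  have hf : Function.Injective f := fun M N h => by
    obtain ⟨a, b, c⟩ := M.2
    obtain ⟨a', b', c'⟩ := N.2
    simp only [f, Prod.mk.injEq, Subtype.mk.injEq] at h
    obtain ⟨⟨h1, h2, h3, h4⟩, h5, h6⟩ := h
    refine Subtype.ext (Subtype.ext ?_)
    ext i j
    fin_cases i <;> fin_cases j <;> simp_all
  refine (Nat.card_le_card_of_injective f hf).trans ?_
  rw [Nat.card_eq_fintype_card, Fintype.card_prod, card_det_one, Fintype.card_prod, card_F4]

end Cfsg.Agent.Lib.InvChar.OrdersFive
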