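import Cfsg.Agent.Lib.InvChar.OrdersFive.Main
import Cfsg.Agent.Lib.InvChar.OrdersFive.FieldFour
import Cfsg.Agent.Lib.ThreeTransp.IcoPres

/-!
The critical extension of `A₅` is the affine group over the field with four elements.
-/

set_option autoImplicit false
set_option linter.unusedSectionVars false
set_option linter.style.haveILetI false

namespace Cfsg.Agent.Lib.InvChar.OrdersFive

open Subgroup

universe u

section Module

variable {A : Type u} [AddCommGroup A]

/-- The action of the field with four elements given by a root of `X² + X + 1`. -/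
def scal (φ : A →+ A) (c : F4) (a : A) : A := cond c.x a 0 + cond c.y (φ a) 0

variable {φ : A →+ A} (h2 : ∀ a : A, a + a = 0) (hφ : ∀ a, φ (φ a) = φ a + a)
include h2

theorem scal_add (c d : F4) (a : A) : scal φ (c + d) a = scal φ c a + scal φ d a := by
  obtain ⟨c1, c2⟩ := c; obtain ⟨d1, d2⟩ := d
  change scal φ ⟨xor c1 d1, xor c2 d2⟩ a = _
  have h2' : ∀ a b : A, a + (a + b) = b := fun a b => by rw [← add_assoc, h2, zero_add]
  cases c1 <;> cases c2 <;> cases d1 <;> cases d2 <;> simp [scal, h2, add_comm, add_left_comm, h2']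

omit h2 in
theorem scal_map_add (c : F4) (a b : A) : scal φ c (a + b) = scal φ c a + scal φ c b := by
  obtain ⟨c1, c2⟩ := c
  cases c1 <;> cases c2 <;> simp [scal, map_add] <;> abel

include hφ in
theorem scal_mul (c d : F4) (a : A) : scal φ (c * d) a = scal φ c (scal φ d a) := by
  obtain ⟨c1, c2⟩ := c; obtain ⟨d1, d2⟩ := d
  change scal φ ⟨xor (c1 && d1) (c2 && d2), xor (xor (c1 && d2) (c2 && d1)) (c2 && d2)⟩ a = _
  have h2' : ∀ a b : A, a + (a + b) = b := fun a b => by rw [← add_assoc, h2, zero_add]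
  cases c1 <;> cases c2 <;> cases d1 <;> cases d2 <;>
    simp [scal, map_add, hφ, h2, add_comm, add_left_comm, h2']

omit h2 in
theorem scal_comm (y : A →+ A) (hy : ∀ a, y (φ a) = φ (y a)) (c : F4) (a : A) :
    y (scal φ c a) = scal φ c (y a) := by
  obtain ⟨c1, c2⟩ := c
  cases c1 <;> cases c2 <;> simp [scal, map_add, hy]

omit h2 in
theorem scal_one (a : A) : scal φ 1 a = a := by
  change scal φ ⟨true, false⟩ a = a
  simp [scal]

omit h2 in
theorem scal_zero (a : A) : scal φ 0 a = 0 := by
  change scal φ ⟨false, false⟩ a = 0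
  simp [scal]

omit h2 in
theorem scal_map_zero (c : F4) : scal φ c (0 : A) = 0 := by
  obtain ⟨c1, c2⟩ := c
  cases c1 <;> cases c2 <;> simp [scal]

omit h2 in
theorem scal_omega (a : A) : scal φ F4.omega a = φ a := by
  change scal φ ⟨false, true⟩ a = φ a
  simp [scal]

include hφ in
theorem scal_eq_zero {c : F4} {a : A} (h : scal φ c a = 0) (ha : a ≠ 0) : c = 0 := by
  by_contra hc
  apply ha
  calc a = scal φ (c⁻¹ * c) a := by rw [inv_mul_cancel₀ hc, scal_one]
    _ = 0 := by rw [scal_mul h2 hφ, h, scal_map_zero]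

omit hφ

variable (x t : A →+ A) (hx : ∀ a, x (x a) = x a + a) (ht : ∀ a, t (t a) = a)
  (hx1 : ∀ a, x a = a → a = 0) (hf5 : ∀ a, (t.comp x)^[5] a = a) (hfix : ∀ a, t (x a) = a → a = 0)
include hx ht

/-- The element `tx + xt + t`. -/
theorem phi_comm (a : A) :
    x (t (x a) + x (t a) + t a) = t (x (x a)) + x (t (x a)) + t (x a) ∧
      t (t (x a) + x (t a) + t a) = t (x (t a)) + x (t (t a)) + t (t a) := by
  have h2' : ∀ a b : A, a + (a + b) = b := fun a b => by rw [← add_assoc, h2, zero_add]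
  constructor <;> simp [map_add, hx, ht, h2, add_comm, add_left_comm, h2']

include hf5 hfix in
theorem phi_sq (a : A) :
    let P := fun b : A => t (x b) + x (t b) + t b
    P (P a) = P a + a := by
  intro P
  have h2' : ∀ a b : A, a + (a + b) = b := fun a b => by rw [← add_assoc, h2, zero_add]
  set f := fun b : A => t (x b) with hf
  set g := fun b : A => x (x (t b)) with hg
  have hP : ∀ b, P b = f b + g b := fun b => by simp [P, hf, hg, hx, add_assoc]
  have hfg : ∀ b, f (g b) = b := fun b => by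
    simp [hf, hg, hx, map_add, ht, h2, add_comm, add_left_comm, h2']
  have hgf : ∀ b, g (f b) = b := fun b => by simp [hf, hg, ht, hx, h2, add_comm, add_left_comm, h2']
  have hfadd : ∀ b c, f (b + c) = f b + f c := fun b c => by simp [hf, map_add]
  have hgadd : ∀ b c, g (b + c) = g b + g c := fun b c => by simp [hg, map_add, add_comm, add_left_comm]
  have h5 : ∀ b, f (f (f (f (f b)))) = b := hf5
  have hS : ∀ b, f (f (f (f b))) + f (f (f b)) + f (f b) + f b + b = 0 := fun b => hfix _ (by
    change f _ = _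
    simp only [hfadd, h5]
    abel)
  have hg4 : ∀ b, g b = f (f (f (f b))) := fun b => by
    conv_lhs => rw [← h5 b, hgf]
  have hS' := hS a
  have e2 : g (g a) = f (f (f a)) := by
    rw [hg4 a, hgf]
  rw [hP, hP, hfadd, hgadd, hfg, hgf, e2, hg4 a]
  calc f (f a) + a + (a + f (f (f a))) = (f (f a) + f (f (f a))) + (a + a) := by abel
    _ = f (f a) + f (f (f a)) + 0 := by rw [h2]
    _ = (f (f a) + f (f (f a))) + (f (f (f (f a))) + f (f (f a)) + f (f a) + f a + a) := by rw [hS']
    _ = f a + f (f (f (f a))) + a + ((f (f a) + f (f a)) + (f (f (f a)) + f (f (f a)))) := by abel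
    _ = f a + f (f (f (f a))) + a := by rw [h2, h2, add_zero, add_zero]

include hx1 hf5 hfix in
theorem exists_basis [Nontrivial A] :
    ∃ (φ : A →+ A) (v : A), (∀ a, φ (φ a) = φ a + a) ∧ (∀ a, x (φ a) = φ (x a)) ∧ (∀ a, t (φ a) = φ (t a)) ∧
      v ≠ 0 ∧ t v = v ∧ t (x v) = scal φ (F4.omega + 1) v + x v ∧
      (∀ a b : F4, scal φ a v + scal φ b (x v) = 0 → a = 0 ∧ b = 0) := by
  have h2' : ∀ a b : A, a + (a + b) = b := fun a b => by rw [← add_assoc, h2, zero_add]
  let φ : A →+ A := t.comp x + x.comp t + t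
  have hφa : ∀ a, φ a = t (x a) + x (t a) + t a := fun a => rfl
  have hφ : ∀ a, φ (φ a) = φ a + a := fun a => phi_sq h2 x t hx ht hf5 hfix a
  have hφx : ∀ a, x (φ a) = φ (x a) := fun a => (phi_comm h2 x t hx ht a).1
  have hφt : ∀ a, t (φ a) = φ (t a) := fun a => (phi_comm h2 x t hx ht a).2
  obtain ⟨v, hv0, hv⟩ : ∃ v : A, v ≠ 0 ∧ t v = v := by
    obtain ⟨a, ha⟩ := exists_ne (0 : A)
    by_cases h : t a + a = 0
    · exact ⟨a, ha, by rw [← add_right_inj a, add_comm a (t a), h, h2]⟩
    · exact ⟨t a + a, h, by rw [map_add, ht, add_comm]⟩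
  have htw : t (x v) = scal φ (F4.omega + 1) v + x v := by
    rw [scal_add h2, scal_omega, scal_one, hφa, hv]
    calc t (x v) = t (x v) + (x v + x v) + (v + v) := by rw [h2, h2, add_zero, add_zero]
      _ = _ := by abel
  refine ⟨φ, v, hφ, hφx, hφt, hv0, hv, htw, fun a b hab => ?_⟩
  by_cases hb : b = 0
  · subst hb
    rw [scal_zero, add_zero] at hab
    exact ⟨scal_eq_zero h2 hφ hab hv0, rfl⟩
  exfalso
  -- then `x v` is a multiple of `v`
  obtain ⟨c, hc⟩ : ∃ c : F4, x v = scal φ c v := by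
    refine ⟨b⁻¹ * a, ?_⟩
    have h : scal φ b (x v) = scal φ a v := by
      rw [← add_right_inj (scal φ a v), hab, h2]
    rw [scal_mul h2 hφ, ← h, ← scal_mul h2 hφ, inv_mul_cancel₀ hb, scal_one]
  have hftv : ∀ d : F4, t (x (scal φ d v)) = scal φ (d * c) v := fun d => by
    rw [scal_comm x hφx, scal_comm t hφt, hc, scal_comm t hφt, hv, scal_mul h2 hφ]
  have h5 : scal φ (((((1 * c) * c) * c) * c) * c) v = v := by
    have := hf5 (scal φ 1 v)
    simp only [Function.iterate_succ, Function.iterate_zero, Function.comp_apply, id_eq,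
      AddMonoidHom.coe_comp, hftv] at this
    rw [scal_one] at this
    exact this
  have h6 : ((((1 * c) * c) * c) * c) * c + 1 = 0 :=
    scal_eq_zero h2 hφ (by rw [scal_add h2, h5, scal_one, h2]) hv0
  have key : ∀ c : F4, ((((1 * c) * c) * c) * c) * c + 1 = 0 → c = 1 := by decide
  rw [key c h6, scal_one] at hc
  exact hv0 (hx1 v hc)

end Module

end Cfsg.Agent.Lib.InvChar.OrdersFive
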