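import Cfsg.Agent.Lib.Coprime.Generation
import Cfsg.Agent.Lib.OddLocal.UniquenessPassing
import Cfsg.Agent.Lib.Characters.Burnside
import Cfsg.Agent.S0225
import Cfsg.Agent.Lib.Cores.PCore

/-!
Finite groups all of whose element orders are at most five: coprime actions and solvability.
-/

set_option autoImplicit false
set_option linter.unusedSectionVars false
set_option linter.style.haveILetI false

namespace Cfsg.Agent.Lib.InvChar.OrdersFive

open Subgroup

universe u v

/-- All element orders are at most five. -/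
def Five (G : Type u) [Group G] : Prop := ∀ g : G, orderOf g ≤ 5

variable {G : Type u} [Group G]

theorem Five.subgroup (h : Five G) (H : Subgroup G) : Five ↥H := fun g => by
  rw [← Subgroup.orderOf_coe]
  exact h g

theorem Five.of_surjective [Finite G] (h : Five G) {Q : Type v} [Group Q] (f : G →* Q)
    (hf : Function.Surjective f) : Five Q := fun q => by
  obtain ⟨g, rfl⟩ := hf q
  exact (Nat.le_of_dvd (orderOf_pos g) (orderOf_map_dvd f g)).trans (h g)

variable [Finite G]

/-- Commuting elements of coprime orders are trivial. -/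
theorem not_commute (h : Five G) {a b : G} (ha : a ≠ 1) (hb : b ≠ 1)
    (hc : (orderOf a).Coprime (orderOf b)) (hab : a * b = b * a) : False := by
  have h1 := h (a * b)
  rw [Commute.orderOf_mul_eq_mul_orderOf_of_coprime hab hc] at h1
  have ha2 : 2 ≤ orderOf a := by
    have := orderOf_pos a
    have : orderOf a ≠ 1 := fun e => ha (orderOf_eq_one_iff.mp e)
    omega
  have hb2 : 2 ≤ orderOf b := by
    have := orderOf_pos b
    have : orderOf b ≠ 1 := fun e => hb (orderOf_eq_one_iff.mp e)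
    omega
  have hne : orderOf a ≠ orderOf b := fun e => by
    rw [e, Nat.coprime_self] at hc
    omega
  rcases Nat.lt_or_gt_of_ne hne with hl | hl
  · have := Nat.mul_le_mul ha2 (show 3 ≤ orderOf b by omega)
    omega
  · have := Nat.mul_le_mul (show 3 ≤ orderOf a by omega) hb2
    omega

theorem prime_cases (h : Five G) {p : ℕ} (hp : p.Prime) (hd : p ∣ Nat.card G) :
    p = 2 ∨ p = 3 ∨ p = 5 := by
  haveI : Fact p.Prime := ⟨hp⟩
  obtain ⟨g, hg⟩ := exists_prime_orderOf_dvd_card' p hd
  have := h g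
  rw [hg] at this
  have := hp.two_le
  interval_cases p <;> first | omega | (exact absurd hp (by norm_num))

theorem primeFactors_subset (h : Five G) : (Nat.card G).primeFactors ⊆ {2, 3, 5} := fun p hp => by
  rw [Nat.mem_primeFactors] at hp
  rcases prime_cases h hp.1 hp.2.1 with rfl | rfl | rfl <;> simp

/-- Elements of odd prime power order have prime order. -/
theorem pow_eq_one_of_isPGroup (h : Five G) {p : ℕ} (hp : p.Prime) (hp2 : p ≠ 2) {P : Subgroup G}
    (hP : IsPGroup p ↥P) {x : G} (hx : x ∈ P) : x ^ p = 1 := by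
  haveI : Fact p.Prime := ⟨hp⟩
  obtain ⟨k, hk⟩ := IsPGroup.iff_orderOf.mp hP ⟨x, hx⟩
  rw [Subgroup.orderOf_mk] at hk
  apply orderOf_dvd_iff_pow_eq_one.mp
  rw [hk]
  refine (pow_dvd_pow p (show k ≤ 1 from ?_)).trans (by rw [pow_one])
  by_contra hk1
  have h9 : 9 ≤ p ^ k := calc
    9 = 3 ^ 2 := by norm_num
    _ ≤ p ^ 2 := Nat.pow_le_pow_left (by have := hp.two_le; omega) 2
    _ ≤ p ^ k := Nat.pow_le_pow_right hp.pos (by omega)
  have := h x
  omega

theorem orderOf_two_power (h : Five G) {x : G} (hx : IsPGroup 2 ↥(zpowers x)) : x ^ 4 = 1 := by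
  haveI : Fact (Nat.Prime 2) := ⟨Nat.prime_two⟩
  obtain ⟨k, hk⟩ := IsPGroup.iff_orderOf.mp hx ⟨x, mem_zpowers x⟩
  rw [Subgroup.orderOf_mk] at hk
  apply orderOf_dvd_iff_pow_eq_one.mp
  rw [hk, show (4 : ℕ) = 2 ^ 2 by norm_num]
  refine pow_dvd_pow 2 ?_
  by_contra hk2
  have : 8 ≤ 2 ^ k := calc
    8 = 2 ^ 3 := by norm_num
    _ ≤ 2 ^ k := Nat.pow_le_pow_right two_pos (by omega)
  have := h x
  omega

theorem centralizer_isPGroup (h : Five G) {a : G} {p : ℕ} (hp : p.Prime) (ha : orderOf a = p) :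
    IsPGroup p ↥(centralizer ({a} : Set G)) := by
  rw [isPGroup_iff_primeFactors_card_subset hp.ne_zero, hp.primeFactors]
  intro r hr
  rw [Nat.mem_primeFactors] at hr
  rw [Finset.mem_singleton]
  by_contra hne
  haveI : Fact r.Prime := ⟨hr.1⟩
  obtain ⟨x, hx⟩ := exists_prime_orderOf_dvd_card' r hr.2.1
  have hxo : orderOf (x : G) = r := by rw [Subgroup.orderOf_coe, hx]
  refine not_commute h (a := (x : G)) (b := a)
    (fun e => by rw [e, orderOf_one] at hxo; exact hr.1.ne_one hxo.symm)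
    (fun e => by rw [e, orderOf_one] at ha; exact hp.ne_one ha.symm) ?_ (mem_centralizer_singleton_iff.mp x.2)
  rw [hxo, ha]
  exact (Nat.coprime_primes hr.1 hp).mpr hne

theorem solvable_of_two_primes (h : Five G) {r : ℕ} (hr : r = 2 ∨ r = 3 ∨ r = 5)
    (hd : ¬ r ∣ Nat.card G) : Group.IsSolvable G := by
  have hsub := primeFactors_subset h
  have hn := Nat.prod_factorization_pow_eq_self (n := Nat.card G) Nat.card_pos.ne'
  obtain ⟨p, q, hp, hq, hne, hpq⟩ : ∃ p q : ℕ, p.Prime ∧ q.Prime ∧ p ≠ q ∧ (Nat.card G).primeFactors ⊆ {p, q} := by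
    have key : ∀ x ∈ (Nat.card G).primeFactors, x ≠ r := fun x hx e => hd (e ▸ Nat.dvd_of_mem_primeFactors hx)
    rcases hr with rfl | rfl | rfl
    · exact ⟨3, 5, Nat.prime_three, Nat.prime_five, by norm_num, fun x hx => by
        have := hsub hx; have := key x hx; simp_all⟩
    · exact ⟨2, 5, Nat.prime_two, Nat.prime_five, by norm_num, fun x hx => by
        have := hsub hx; have := key x hx; simp_all⟩
    · exact ⟨2, 3, Nat.prime_two, Nat.prime_three, by norm_num, fun x hx => by
        have := hsub hx; have := key x hx; simp_all⟩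
  refine Characters.isSolvable_of_card_eq_pow_mul_pow (a := (Nat.card G).factorization p)
    (b := (Nat.card G).factorization q) hp hq ?_
  rw [Finsupp.prod, Nat.support_factorization, Finset.prod_subset (s₂ := {p, q}) hpq (fun x _ hx => by
    rw [Finsupp.notMem_support_iff.mp (by rwa [Nat.support_factorization]), pow_zero]), Finset.prod_pair hne] at hn
  exact hn.symm

/-- A noncyclic abelian group cannot act fixed-point-freely. -/
theorem no_noncyclic_fpf (h : Five G) {V A : Subgroup G} (hV : V ≠ ⊥) [IsMulCommutative A]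
    (hA : ¬ IsCyclic ↥A) (hAV : A ≤ normalizer (V : Set G))
    (hc : (Nat.card A).Coprime (Nat.card V)) : False := by
  have hgen := Coprime.iSup_centralizer_eq hA hAV hc
  refine hV (le_bot_iff.mp ?_)
  rw [← hgen]
  refine iSup₂_le fun a ha c hc' => ?_
  rw [mem_bot]
  by_contra hc1
  exact not_commute h hc1 ha.2
    ((hc.coprime_dvd_left (A.orderOf_dvd_natCard ha.1)).coprime_dvd_right (V.orderOf_dvd_natCard hc'.1)).symm
    (mem_centralizer_singleton_iff.mp hc'.2)

/-- An odd `p`-group normalising a nontrivial subgroup of coprime order has order at most `p`. -/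
theorem card_dvd_of_fpf (h : Five G) {p : ℕ} [hp : Fact p.Prime] (hp2 : p ≠ 2) {P V : Subgroup G}
    (hP : IsPGroup p ↥P) (hV : V ≠ ⊥) (hPV : P ≤ normalizer (V : Set G))
    (hc : ¬ p ∣ Nat.card V) : Nat.card P ∣ p := by
  by_cases hcy : IsCyclic ↥P
  · obtain ⟨g, hg⟩ := IsCyclic.exists_ofOrder_eq_natCard (α := ↥P)
    rw [← hg]
    exact orderOf_dvd_of_pow_eq_one (Subtype.ext (by simpa using pow_eq_one_of_isPGroup h hp.out hp2 hP g.2))
  · exfalso
    obtain ⟨W, hW, hWe, hWc⟩ := OddLocal.exists_elementary_sq_of_not_cyclic hp2 P hP hcy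
    haveI := hWe.1
    refine no_noncyclic_fpf h hV (A := W) (fun hcW => ?_) (hW.trans hPV) ?_
    · obtain ⟨g, hg⟩ := IsCyclic.exists_ofOrder_eq_natCard (α := ↥W)
      have h1 : orderOf g ∣ p := orderOf_dvd_of_pow_eq_one (Subtype.ext (by simpa using hWe.2 g g.2))
      rw [hg, hWc] at h1
      have := Nat.le_of_dvd hp.out.pos h1
      have := lt_mul_self hp.out.one_lt
      rw [sq] at *
      omega
    · rw [hWc]
      exact Nat.Coprime.pow_left 2 (hp.out.coprime_iff_not_dvd.mpr hc)

theorem not_isCyclic_klein {E : Subgroup G} (hE : IsKleinFour E) : ¬ IsCyclic ↥E := fun hc => by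
  haveI := hE
  have := IsCyclic.exponent_eq_card (α := ↥E)
  rw [IsKleinFour.exponent_two, IsKleinFour.card_four] at this
  omega

theorem no_klein_fpf (h : Five G) {E V : Subgroup G} (hE : IsKleinFour E) (hV : V ≠ ⊥)
    (hEV : E ≤ normalizer (V : Set G)) (hc : Odd (Nat.card V)) : False := by
  haveI := hE
  haveI : IsMulCommutative E := ⟨⟨mul_comm_of_exponent_two IsKleinFour.exponent_two⟩⟩
  refine no_noncyclic_fpf h hV (not_isCyclic_klein hE) hEV ?_
  rw [IsKleinFour.card_four, show 4 = 2 ^ 2 by norm_num]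
  exact (Nat.coprime_two_left.mpr hc).pow_left 2

/-- Without Klein four-subgroups the group is solvable. -/
theorem solvable_of_rank_one (h : Five G) (hr : ∀ E : Subgroup G, ¬ IsKleinFour E) :
    Group.IsSolvable G := by
  haveI : Fact (Nat.Prime 2) := ⟨Nat.prime_two⟩
  rcases Nat.even_or_odd (Nat.card G) with he | ho
  swap
  · exact solvable_of_two_primes h (Or.inl rfl) (Nat.two_dvd_ne_zero.mpr (Nat.odd_iff.mp ho))
  obtain ⟨z, hz, N, hN, hNo, hcomm⟩ := Cfsg.Agent.S0225.result he hr
  haveI : Group.IsSolvable ↥N := solvable_of_two_primes (h.subgroup N) (Or.inl rfl)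
    (Nat.two_dvd_ne_zero.mpr (Nat.odd_iff.mp hNo))
  -- the quotient is covered by the centraliser of `z`
  have hcov : ∀ g : G, ∃ n ∈ N, ∃ c ∈ centralizer ({z} : Set G), g = n * c := by
    intro g
    let W := N ⊔ zpowers z
    have hzW : z ∈ W := mem_sup_right (mem_zpowers z)
    have hgz : g * z * g⁻¹ ∈ W := by
      have h1 := hcomm g
      have : g * z * g⁻¹ = (z * g * z⁻¹ * g⁻¹)⁻¹ * z := by group
      rw [this]
      exact mul_mem (inv_mem (mem_sup_left h1)) hzW
    have hT : ∀ w : G, orderOf w = 2 → w ∈ W → ∃ T : Sylow 2 ↥W, (T : Subgroup ↥W) = (zpowers w).subgroupOf W := by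
      intro w hw hwW
      have hle : zpowers w ≤ W := zpowers_le.mpr hwW
      have hp : IsPGroup 2 ↥((zpowers w).subgroupOf W) := IsPGroup.of_card (n := 1) (by
        rw [Nat.card_congr (subgroupOfEquivOfLe hle).toEquiv, Nat.card_zpowers, hw, pow_one])
      refine ⟨hp.toSylow ?_, hp.toSylow_coe _⟩
      intro hd
      have h1 : Nat.card W = Nat.card N * 2 := by
        have h2 := Cores.card_sup_mul_card_inf (zpowers z) N
        have h3 : zpowers z ⊓ N = ⊥ := by
          refine Subgroup.card_eq_one.mp (Nat.Coprime.eq_one_of_dvd ?_ (card_dvd_of_le inf_le_right))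
          refine Nat.Coprime.coprime_dvd_left (card_dvd_of_le inf_le_left) ?_
          rw [Nat.card_zpowers, hz]
          exact Nat.coprime_two_left.mpr hNo
        rw [h3, card_bot, mul_one, Nat.card_zpowers, hz, sup_comm] at h2
        rw [h2, mul_comm]
      have h4 := ((zpowers w).subgroupOf W).card_mul_index
      rw [Nat.card_congr (subgroupOfEquivOfLe hle).toEquiv, Nat.card_zpowers, hw, h1, mul_comm _ 2] at h4
      have := Nat.eq_of_mul_eq_mul_left two_pos h4
      rw [this] at hd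
      exact Nat.two_dvd_ne_zero.mpr (Nat.odd_iff.mp hNo) hd
    obtain ⟨T₁, hT₁⟩ := hT z hz hzW
    obtain ⟨T₂, hT₂⟩ := hT _ (by rw [← MulAut.conj_apply g z, MulEquiv.orderOf_eq]; exact hz) hgz
    obtain ⟨w, hw⟩ := MulAction.exists_smul_eq ↥W T₁ T₂
    have hw2 : (w : G) * z * (w : G)⁻¹ = g * z * g⁻¹ := by
      have h5 : w * ⟨z, hzW⟩ * w⁻¹ ∈ (T₂ : Subgroup ↥W) := by
        rw [← hw]
        exact ⟨⟨z, hzW⟩, by rw [hT₁]; exact mem_zpowers z, rfl⟩
      rw [hT₂] at h5
      have h6 : (w : G) * z * (w : G)⁻¹ ∈ zpowers (g * z * g⁻¹) := h5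
      have h7 : orderOf (g * z * g⁻¹) = 2 := by rw [← MulAut.conj_apply g z, MulEquiv.orderOf_eq]; exact hz
      obtain ⟨i, hi⟩ := mem_zpowers_iff.mp h6
      rw [← zpow_mod_orderOf, h7] at hi
      rcases Int.emod_two_eq i with e | e <;> rw [show ((2 : ℕ) : ℤ) = 2 from rfl, e] at hi
      · exfalso
        rw [zpow_zero, eq_mul_inv_iff_mul_eq, one_mul] at hi
        have : z = 1 := mul_left_cancel (hi.symm.trans (mul_one _).symm)
        rw [this, orderOf_one] at hz
        omega
      · rw [← hi, zpow_one]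
    obtain ⟨n, hn, y, hy, hny⟩ := Subgroup.mem_sup_of_normal_left.mp w.2
    have hyc : y * z = z * y := by
      obtain ⟨i, rfl⟩ := mem_zpowers_iff.mp hy
      exact ((Commute.refl z).zpow_left i).eq
    refine ⟨n, hn, n⁻¹ * g, ?_, by group⟩
    rw [← hny] at hw2
    rw [mem_centralizer_singleton_iff]
    have hw3 : n * z * n⁻¹ = g * z * g⁻¹ := by
      rw [← hw2, mul_inv_rev]
      calc n * z * n⁻¹ = n * (z * y * y⁻¹) * n⁻¹ := by group
        _ = n * y * z * (y⁻¹ * n⁻¹) := by rw [← hyc]; group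
    calc n⁻¹ * g * z = n⁻¹ * (g * z * g⁻¹) * g := by group
      _ = z * (n⁻¹ * g) := by rw [← hw3]; group
  haveI := hN
  have hq : IsPGroup 2 (G ⧸ N) := by
    intro q
    obtain ⟨g, rfl⟩ := QuotientGroup.mk_surjective q
    obtain ⟨n, hn, c, hc, rfl⟩ := hcov g
    obtain ⟨k, hk⟩ := centralizer_isPGroup h Nat.prime_two hz ⟨c, hc⟩
    refine ⟨k, ?_⟩
    rw [QuotientGroup.mk_mul, (QuotientGroup.eq_one_iff n).mpr hn, one_mul, ← QuotientGroup.mk_pow,
      show c ^ 2 ^ k = 1 from congrArg Subtype.val hk, QuotientGroup.mk_one]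
  haveI : Group.IsNilpotent (G ⧸ N) := hq.isNilpotent
  exact Group.isSolvable_of_ker_le_range N.subtype (QuotientGroup.mk' N)
    (by rw [QuotientGroup.ker_mk', Subgroup.range_subtype])

end Cfsg.Agent.Lib.InvChar.OrdersFive
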