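import Cfsg.Agent.Lib.InvChar.OrdersFive.Red

/-!
Sylow subgroups of odd order intersect trivially; the resulting order counting.
-/

set_option autoImplicit false
set_option linter.unusedSectionVars false
set_option linter.style.haveILetI false

namespace Cfsg.Agent.Lib.InvChar.OrdersFive

open Subgroup

universe u

/-- A common multiple of the orbit lengths divides the number of points. -/
theorem index_dvd_card {H : Type*} [Group H] [Finite H] {X : Type*} [MulAction H X] [Finite X]
    (K : Subgroup H) (hK : ∀ x : X, MulAction.stabilizer H x ≤ K) : K.index ∣ Nat.card X := by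
  haveI := Fintype.ofFinite (MulAction.orbitRel.Quotient H X)
  rw [Nat.card_congr (MulAction.selfEquivSigmaOrbitsQuotientStabilizer H X), Nat.card_sigma]
  refine Finset.dvd_sum fun ω _ => ?_
  rw [← Subgroup.index_eq_card]
  exact index_dvd_of_le (hK _)

variable {G : Type u} [Group G] [Finite G]

/-- In the normaliser of a nontrivial subgroup of odd prime exponent the Sylow subgroup is normal. -/
theorem normalizer_sylow_normal (h : Five G) {p : ℕ} [hp : Fact p.Prime] (hp35 : p = 3 ∨ p = 5)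
    {D : Subgroup G} (hDp : IsPGroup p ↥D) (hD1 : D ≠ ⊥) :
    ∀ R : Sylow p ↥(normalizer (D : Set G)), (R : Subgroup ↥(normalizer (D : Set G))).Normal := by
  set N := normalizer (D : Set G) with hNdef
  intro R
  have hN : Five ↥N := h.subgroup N
  set V := D.subgroupOf N with hV
  haveI hVn : V.Normal := normal_in_normalizer
  have hVp : IsPGroup p ↥V := hDp.comap_subtype
  have hV1 : V ≠ ⊥ := fun e => hD1 (by
    rw [hV, subgroupOf_eq_bot, disjoint_iff, inf_eq_left.mpr le_normalizer] at e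
    exact e)
  have hVnorm : ∀ A : Subgroup ↥N, A ≤ normalizer (V : Set ↥N) := fun A => by
    rw [Subgroup.normalizer_eq_top]; exact le_top
  have hp2 : p ≠ 2 := by omega
  have hndV : ∀ q : ℕ, q.Prime → q ≠ p → ¬ q ∣ Nat.card V := fun q hq hne hd => by
    obtain ⟨k, hk⟩ := IsPGroup.iff_card.mp hVp
    rw [hk] at hd
    exact hne ((Nat.prime_dvd_prime_iff_eq hq hp.out).mp (hq.dvd_of_dvd_pow hd))
  haveI hNs : Group.IsSolvable ↥N := solvable_of_rank_one hN fun E hE =>
    no_klein_fpf hN hE hV1 (hVnorm E) (by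
      obtain ⟨k, hk⟩ := IsPGroup.iff_card.mp hVp
      rw [hk]; exact (hp.out.odd_of_ne_two hp2).pow)
  set W := Cfsg.pCore p ↥N with hW
  have hWp : IsPGroup p ↥W := Cores.pCore_isPGroup p ↥N
  have hWR : W ≤ (R : Subgroup ↥N) :=
    (R.is_maximal' (hWp.to_sup_of_normal_left R.2) le_sup_right) ▸ le_sup_left
  suffices hnd : ¬ p ∣ Nat.card (↥N ⧸ W) by
    obtain ⟨j, hj⟩ := IsPGroup.iff_card.mp hWp
    obtain ⟨k, hk⟩ := IsPGroup.iff_card.mp R.2
    have h1 : p ^ k ∣ W.index * p ^ j := by
      rw [← hj, mul_comm, W.card_mul_index, ← hk]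
      exact card_subgroup_dvd_card _
    have h2 : p ^ k ∣ p ^ j := Nat.Coprime.dvd_of_dvd_mul_left
      ((hp.out.coprime_iff_not_dvd.mpr (by rwa [← Subgroup.index_eq_card] at hnd)).pow_left k) h1
    have h3 : W = (R : Subgroup ↥N) := eq_of_le_of_card_ge hWR (by
      rw [hj, hk]; exact Nat.le_of_dvd (Nat.pow_pos hp.out.pos) h2)
    have hWn : W.Normal := inferInstance
    exact h3 ▸ hWn
  intro hd
  haveI : Nontrivial (↥N ⧸ W) := Finite.one_lt_card_iff_nontrivial.mp
    (lt_of_lt_of_le hp.out.one_lt (Nat.le_of_dvd Nat.card_pos hd))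
  obtain ⟨q, V', hq, hV'n, hV'1, hV'c, hV'q⟩ := exists_abelian_normal (G := ↥N ⧸ W)
  haveI := hV'n
  haveI : Fact q.Prime := ⟨hq⟩
  set M := V'.comap (QuotientGroup.mk' W) with hM
  have hqp : q ≠ p := by
    rintro rfl
    apply hV'1
    have h1 : IsPGroup q ↥M := (isPGroup_of_pow hV'q).comap_of_ker_isPGroup _ (by rw [QuotientGroup.ker_mk']; exact hWp)
    have h2 : M ≤ W := Cores.le_pCore inferInstance h1
    rw [← map_comap_eq_self_of_surjective (QuotientGroup.mk'_surjective W) V', ← hM, Subgroup.map_eq_bot_iff,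
      QuotientGroup.ker_mk']
    exact h2
  -- the complement of `W` in `M` is cyclic of order `q`
  have hV'card : Nat.card V' = q := by
    obtain ⟨k, hk⟩ := IsPGroup.iff_card.mp (isPGroup_of_pow hV'q)
    have hk0 : k ≠ 0 := fun e => hV'1 (card_eq_one.mp (by rw [hk, e, pow_zero]))
    have hk1 : k ≤ 1 := by
      by_contra hk1
      let S : Sylow q ↥M := default
      set A := (S : Subgroup ↥M).map M.subtype with hA
      have hAp : IsPGroup q ↥A := S.2.map _
      have hAW : ∀ a ∈ A, a ∈ W → a = 1 := fun a ha haW => by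
        have h1 := IsPGroup.disjoint_of_ne q p hqp A W hAp hWp
        exact Subgroup.disjoint_def.mp h1 ha haW
      have hAc : ∀ a ∈ A, ∀ b ∈ A, a * b = b * a := fun a ha b hb => by
        have hm : ∀ c ∈ A, QuotientGroup.mk' W c ∈ V' := fun c hc => by
          obtain ⟨d, -, rfl⟩ := hc
          exact d.2
        rw [← commutatorElement_eq_one_iff_mul_comm]
        refine hAW _ (mul_mem (mul_mem (mul_mem ha hb) (inv_mem ha)) (inv_mem hb)) ?_
        rw [← QuotientGroup.eq_one_iff, ← QuotientGroup.mk'_apply, map_commutatorElement,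
          commutatorElement_eq_one_iff_mul_comm]
        exact hV'c _ (hm a ha) _ (hm b hb)
      haveI : IsMulCommutative A := ⟨⟨fun a b => Subtype.ext (hAc a a.2 b b.2)⟩⟩
      have hAq : ∀ a ∈ A, a ^ q = 1 := fun a ha => hAW _ (pow_mem ha q) (by
        rw [← QuotientGroup.eq_one_iff, QuotientGroup.mk_pow]
        obtain ⟨d, -, rfl⟩ := ha
        exact hV'q _ d.2)
      have hAcard : q ^ 2 ∣ Nat.card A := by
        rw [hA, card_map_of_injective M.subtype_injective]
        refine S.pow_dvd_card_of_pow_dvd_card ((pow_dvd_pow q (show 2 ≤ k by omega)).trans (hk ▸ ?_))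
        have h1 := card_map_dvd M (QuotientGroup.mk' W)
        rwa [hM, map_comap_eq_self_of_surjective (QuotientGroup.mk'_surjective W) V'] at h1
      refine no_noncyclic_fpf hN hV1 (A := A) (fun hc => ?_) (hVnorm A) ?_
      · haveI := hc
        obtain ⟨g, hg⟩ := IsCyclic.exists_ofOrder_eq_natCard (α := ↥A)
        have h1 : orderOf g ∣ q := orderOf_dvd_of_pow_eq_one (Subtype.ext (by simpa using hAq g g.2))
        rw [hg] at h1
        have h2 := Nat.le_of_dvd hq.pos (hAcard.trans h1)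
        have := lt_mul_self hq.one_lt
        rw [sq] at h2
        omega
      · obtain ⟨j, hj⟩ := IsPGroup.iff_card.mp hAp
        rw [hj]
        exact (hq.coprime_iff_not_dvd.mpr (hndV q hq hqp)).pow_left j
    rw [hk, show k = 1 by omega, pow_one]
  obtain ⟨y, hy⟩ := exists_prime_orderOf_dvd_card' (G := ↥N ⧸ W) p hd
  have hQ : Five (↥N ⧸ W) := hN.of_surjective (QuotientGroup.mk' W) (QuotientGroup.mk'_surjective W)
  have hmod := card_modEq_one hQ hy (V := V') (by rw [Subgroup.normalizer_eq_top]; exact mem_top y) (by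
    rw [hV'card]; exact fun hd' => hqp ((Nat.prime_dvd_prime_iff_eq hp.out hq).mp hd').symm)
  rw [hV'card] at hmod
  rcases prime_cases hQ hq (hV'card ▸ card_subgroup_dvd_card V') with rfl | rfl | rfl <;>
    rcases hp35 with rfl | rfl <;> first | exact hqp rfl | exact absurd hmod (by decide)

/-- Distinct Sylow subgroups for `3` and `5` intersect trivially. -/
theorem sylow_inf_eq_bot (h : Five G) {p : ℕ} [hp : Fact p.Prime] (hp35 : p = 3 ∨ p = 5)
    (P Q : Sylow p G) (hne : P ≠ Q) : (P : Subgroup G) ⊓ Q = ⊥ := by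
  by_contra hPQ
  haveI : Nonempty {z : Sylow p G × Sylow p G // z.1 ≠ z.2} := ⟨⟨(P, Q), hne⟩⟩
  obtain ⟨⟨⟨A, B⟩, hAB⟩, hmax⟩ := Finite.exists_max
    fun z : {z : Sylow p G × Sylow p G // z.1 ≠ z.2} => Nat.card ↥((z.1.1 : Subgroup G) ⊓ z.1.2)
  set D := (A : Subgroup G) ⊓ B with hD
  have hD1 : D ≠ ⊥ := fun e => hPQ (card_eq_one.mp (le_antisymm (by
    have h0 := hmax ⟨(P, Q), hne⟩
    simp only [← hD] at h0
    rw [e, card_bot] at h0
    exact h0) Nat.card_pos))
  have hDp : IsPGroup p ↥D := A.2.to_le inf_le_left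
  set N := normalizer (D : Set G) with hN
  let R : Sylow p ↥N := default
  haveI hRn := normalizer_sylow_normal h hp35 hDp hD1 R
  obtain ⟨R', hR'⟩ := (R.2.map N.subtype).exists_le_sylow
  -- `R'` contains everything of `p`-power order in `N`
  have hin : ∀ T : Subgroup G, IsPGroup p ↥T → T ≤ N → T ≤ (R' : Subgroup G) := fun T hT hTN => by
    refine le_trans ?_ hR'
    have h1 : T.subgroupOf N ≤ (R : Subgroup ↥N) :=
      (R.is_maximal' ((hT.comap_subtype (K := N)).to_sup_of_normal_right R.2) le_sup_right) ▸ le_sup_left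
    calc T = (T.subgroupOf N).map N.subtype := (map_subgroupOf_eq_of_le hTN).symm
      _ ≤ _ := map_mono h1
  have key : ∀ A B : Sylow p G, A ≠ B → (A : Subgroup G) ⊓ B = D → R' = A := fun A B hAB' hABD => by
    by_contra hne'
    haveI : Group.IsNilpotent ↥(A : Subgroup G) := A.2.isNilpotent
    have hlt : D.subgroupOf (A : Subgroup G) < ⊤ := by
      rw [lt_top_iff_ne_top, Ne, subgroupOf_eq_top]
      intro hle
      have h1 : (A : Subgroup G) ≤ B := hle.trans (hABD ▸ inf_le_right)
      exact hAB' (Sylow.ext (A.is_maximal' B.2 h1).symm)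
    obtain ⟨g, hg, hgD⟩ := Set.exists_of_ssubset (Group.normalizerCondition_of_isNilpotent _ hlt)
    have hDA : D ≤ (A : Subgroup G) := hABD ▸ inf_le_left
    have hgN : (g : G) ∈ N := InvChar.SelfThree.mem_normalizer_of_forall fun x hx =>
      ((mem_normalizer_iff.mp hg) ⟨x, hDA hx⟩).mp hx
    have hT : IsPGroup p ↥(D ⊔ zpowers (g : G) : Subgroup G) := A.2.to_le (sup_le hDA (zpowers_le.mpr g.2))
    have hTR := hin _ hT (sup_le le_normalizer (zpowers_le.mpr hgN))
    have h2 : D ⊔ zpowers (g : G) ≤ (R' : Subgroup G) ⊓ A := le_inf hTR (sup_le hDA (zpowers_le.mpr g.2))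
    have h3 := hmax ⟨(R', A), hne'⟩
    have h4 : D = (R' : Subgroup G) ⊓ A := eq_of_le_of_card_ge (le_sup_left.trans h2) h3
    exact hgD (h4.symm ▸ h2 (mem_sup_right (mem_zpowers _)))
  exact hAB ((key A B hAB rfl).symm.trans (key B A hAB.symm (inf_comm _ _)))

/-- The index of the Sylow subgroup in its normaliser, and the number of Sylow subgroups. -/
theorem sylow_numbers [IsSimpleGroup G] (h : Five G) (hns : ¬ Group.IsSolvable G) {p : ℕ} [hp : Fact p.Prime]
    (hp35 : p = 3 ∨ p = 5) (P : Sylow p G) :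
    ∃ n k : ℕ, n * (k * Nat.card P) = Nat.card G ∧ 1 < n ∧ Nat.card P ∣ n - 1 ∧ k ∣ Nat.card P - 1 ∧
      (¬ (2 ∣ k ∧ (8 - p) ∣ k)) ∧ (¬ (8 - p) ^ 2 ∣ k) := by
  have hpd : p ∣ Nat.card G := by
    rcases hp35 with rfl | rfl
    · exact (primes_dvd_of_not_solvable h hns).2.1
    · exact (primes_dvd_of_not_solvable h hns).2.2
  have hP1 : (P : Subgroup G) ≠ ⊥ := P.ne_bot_of_dvd_card hpd
  set N := normalizer ((P : Subgroup G) : Set G) with hN
  set P' := (P : Subgroup G).subgroupOf N with hP'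
  have hPN : (P : Subgroup G) ≤ N := le_normalizer
  have hP'c : Nat.card P' = Nat.card P := Nat.card_congr (subgroupOfEquivOfLe hPN).toEquiv
  refine ⟨Nat.card (Sylow p G), P'.index, ?_, ?_, ?_, ?_, ?_, ?_⟩
  · rw [P.card_eq_index_normalizer, ← hP'c, mul_comm P'.index, P'.card_mul_index, mul_comm]
    exact N.card_mul_index
  · by_contra hle
    have h1 : Nat.card (Sylow p G) = 1 := by
      have := Nat.card_pos (α := Sylow p G)
      omega
    haveI : Subsingleton (Sylow p G) := (Nat.card_eq_one_iff_unique.mp h1).1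
    rcases P.normal_of_subsingleton.eq_bot_or_eq_top with e | e
    · exact hP1 e
    · apply hns
      haveI : Group.IsNilpotent G := (IsPGroup.of_equiv (e ▸ P.2) Subgroup.topEquiv).isNilpotent
      infer_instance
  · classical
    let X := {R : Sylow p G // R ≠ P}
    letI : MulAction ↥(P : Subgroup G) X :=
      { smul := fun g R => ⟨(g : G) • R.1, fun e => R.2 (by
          have hfix : (g : G)⁻¹ • P = P :=
            Sylow.smul_eq_iff_mem_normalizer.mpr (inv_mem (le_normalizer g.2))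
          rw [← inv_smul_smul (g : G) R.1, e, hfix])⟩
        one_smul := fun R => Subtype.ext (one_smul G R.1)
        mul_smul := fun g g' R => Subtype.ext (mul_smul (g : G) (g' : G) R.1) }
    have h1 := index_dvd_card (X := X) (⊥ : Subgroup ↥(P : Subgroup G)) fun R x hx => by
      have hx' : (x : G) • R.1 = R.1 := congrArg Subtype.val hx
      rw [Sylow.smul_eq_iff_mem_normalizer] at hx'
      have hxp : IsPGroup p ↥(zpowers (x : G) ⊔ (R.1 : Subgroup G) : Subgroup G) :=
        (P.2.to_le (zpowers_le.mpr x.2)).to_sup_of_normal_right' R.1.2 (zpowers_le.mpr hx')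
      have hxR : (x : G) ∈ (R.1 : Subgroup G) :=
        (R.1.is_maximal' hxp le_sup_right) ▸ mem_sup_left (mem_zpowers _)
      have h2 : (x : G) ∈ ((P : Subgroup G) ⊓ R.1) := ⟨x.2, hxR⟩
      rw [sylow_inf_eq_bot h hp35 P R.1 R.2.symm, mem_bot] at h2
      exact mem_bot.mpr (Subtype.ext h2)
    rw [index_bot] at h1
    refine dvd_trans h1 (dvd_of_eq ?_)
    haveI := Fintype.ofFinite (Sylow p G)
    rw [Nat.card_eq_fintype_card, Nat.card_eq_fintype_card, Fintype.card_subtype_compl, Fintype.card_subtype_eq]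
  · classical
    let X := {v : ↥(P : Subgroup G) // v ≠ 1}
    letI : MulAction ↥N X :=
      { smul := fun g v => ⟨⟨(g : G) * v.1 * (g : G)⁻¹, (mem_normalizer_iff.mp g.2 _).mp v.1.2⟩,
          fun e => v.2 (Subtype.ext (conj_eq_one_iff.mp (congrArg Subtype.val e)))⟩
        one_smul := fun v => Subtype.ext (Subtype.ext (show ((1 : ↥N) : G) * (v.1 : G) * ((1 : ↥N) : G)⁻¹ = v.1 by simp))
        mul_smul := fun g g' v => Subtype.ext (Subtype.ext
          (show ((g * g' : ↥N) : G) * (v.1 : G) * ((g * g' : ↥N) : G)⁻¹ =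
            (g : G) * ((g' : G) * v.1 * (g' : G)⁻¹) * (g : G)⁻¹ by rw [Subgroup.coe_mul]; group)) }
    have h1 := index_dvd_card (X := X) P' fun v g hg => by
      have hg' : (g : G) * (v.1 : G) * (g : G)⁻¹ = v.1 :=
        congrArg (fun v : X => ((v.1 : ↥(P : Subgroup G)) : G)) hg
      have hgv := mem_centralizer_singleton_iff.mpr (mul_inv_eq_iff_eq_mul.mp hg')
      have hvo : orderOf (v.1 : G) = p := orderOf_eq_prime
        (pow_eq_one_of_isPGroup h hp.out (by omega) P.2 v.1.2) (fun e => v.2 (Subtype.ext e))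
      have hgp : IsPGroup p ↥(zpowers (g : G)) :=
        (centralizer_isPGroup h hp.out hvo).to_le (zpowers_le.mpr hgv)
      exact mem_subgroupOf.mpr
        ((P.is_maximal' (hgp.to_sup_of_normal_right' P.2 (zpowers_le.mpr g.2)) le_sup_right) ▸
          mem_sup_left (mem_zpowers _))
    refine dvd_trans h1 (dvd_of_eq ?_)
    haveI := Fintype.ofFinite ↥(P : Subgroup G)
    show Nat.card {v : ↥(P : Subgroup G) // v ≠ 1} = Nat.card ↥(P : Subgroup G) - 1
    rw [Nat.card_eq_fintype_card, Nat.card_eq_fintype_card, Fintype.card_subtype_compl, Fintype.card_subtype_eq]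
  · rintro ⟨h2, hr⟩
    have hNs : Group.IsSolvable ↥N := solvable_of_rank_one (h.subgroup N) fun E hE => by
      refine no_klein_fpf (h.subgroup N) hE (V := P') (fun e => hP1 ?_) ?_ ?_
      · rw [hP', subgroupOf_eq_bot, disjoint_iff, inf_eq_left.mpr hPN] at e
        exact e
      · haveI : P'.Normal := normal_in_normalizer
        rw [Subgroup.normalizer_eq_top]; exact le_top
      · obtain ⟨j, hj⟩ := IsPGroup.iff_card.mp P.2
        rw [hP'c, show Nat.card P = p ^ j from hj]
        exact (hp.out.odd_of_ne_two (by omega)).pow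
    have hkN : P'.index ∣ Nat.card ↥N := (Subgroup.index_dvd_card P')
    have hpN : p ∣ Nat.card ↥N := by
      refine dvd_trans ?_ (card_dvd_of_le hPN)
      exact P.dvd_card_of_dvd_card hpd
    rcases hp35 with rfl | rfl
    · exact not_three_primes_aux _ ↥N rfl (h.subgroup N) hNs (h2.trans hkN) hpN (hr.trans hkN)
    · exact not_three_primes_aux _ ↥N rfl (h.subgroup N) hNs (h2.trans hkN) (hr.trans hkN) hpN
  · intro hr2
    have hq : (8 - p).Prime := by rcases hp35 with rfl | rfl <;> norm_num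
    haveI : Fact (8 - p).Prime := ⟨hq⟩
    let R : Sylow (8 - p) ↥N := default
    have h1 := card_dvd_of_fpf h (p := 8 - p) (by omega) (R.2.map N.subtype) hP1 (map_subtype_le _) (fun hd => by
      obtain ⟨j, hj⟩ := IsPGroup.iff_card.mp P.2
      rw [show Nat.card (P : Subgroup G) = p ^ j from hj] at hd
      have := (Nat.prime_dvd_prime_iff_eq hq hp.out).mp (hq.dvd_of_dvd_pow hd)
      omega)
    rw [card_map_of_injective N.subtype_injective] at h1
    have h2 := (R.pow_dvd_card_of_pow_dvd_card (hr2.trans ((Subgroup.index_dvd_card P')))).trans h1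
    have h3 := Nat.le_of_dvd hq.pos h2
    have h4 := lt_mul_self hq.one_lt
    rw [sq] at h3
    omega

/-- The admissible values. -/
def valsThree : List ℕ := [1, 2, 4, 8, 16, 32, 64, 5]

/-- The admissible values. -/
def valsFive : List ℕ := [1, 2, 4, 8, 16, 32, 64, 3]

/-- The check. -/
def okPair (b c k l : ℕ) : Bool :=
  ((64 * 5 ^ c) % k != 0) || ((3 ^ b - 1) % k != 0) || ((64 * 5 ^ c / k - 1) % 3 ^ b != 0) ||
    ((64 * 3 ^ b) % l != 0) || ((5 ^ c - 1) % l != 0) || ((64 * 3 ^ b / l - 1) % 5 ^ c != 0)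

theorem okPair_all : ((List.range 16).all fun b => (List.range 8).all fun c =>
    valsThree.all fun k => valsFive.all fun l => b < 2 || c < 1 || okPair b c k l) = true := by
  decide +kernel

theorem vals_of_dvd {r k c : ℕ} (hr : r.Prime) (hr2 : r ≠ 2) (hd : k ∣ 64 * r ^ c)
    (h1 : ¬ (2 ∣ k ∧ r ∣ k)) (h2 : ¬ r ^ 2 ∣ k) : k ∈ [1, 2, 4, 8, 16, 32, 64, r] := by
  obtain ⟨k₁, k₂, hk₁, hk₂, rfl⟩ := Nat.dvd_mul.mp hd
  obtain ⟨i, hi, rfl⟩ := (Nat.dvd_prime_pow Nat.prime_two).mp (show k₁ ∣ 2 ^ 6 by simpa using hk₁)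
  obtain ⟨j, -, rfl⟩ := (Nat.dvd_prime_pow hr).mp hk₂
  have hj : j ≤ 1 := by
    by_contra hj
    exact h2 (dvd_mul_of_dvd_right (pow_dvd_pow r (by omega)) _)
  interval_cases j
  · simp only [pow_zero, mul_one]
    interval_cases i <;> simp
  · have : i = 0 := by
      by_contra hi0
      exact h1 ⟨dvd_mul_of_dvd_left (dvd_pow_self 2 hi0) _, dvd_mul_left _ _ |>.trans (by rw [pow_one])⟩
    subst this
    simp

/-- There is no simple group of order `64 · 3 ^ b · 5 ^ c` of the present kind. -/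
theorem arith {b c k l n m : ℕ} (hb : 2 ≤ b) (hc : 1 ≤ c) (hn : n * k = 64 * 5 ^ c) (hm : m * l = 64 * 3 ^ b)
    (hn1 : 1 < n) (hm1 : 1 < m) (hXn : 3 ^ b ∣ n - 1) (hYm : 5 ^ c ∣ m - 1) (hk : k ∣ 3 ^ b - 1)
    (hl : l ∣ 5 ^ c - 1) (hk' : k ∈ valsThree) (hl' : l ∈ valsFive) : False := by
  obtain ⟨a, ha⟩ := hXn
  obtain ⟨a', ha'⟩ := hYm
  have hk64 : 1 ≤ k ∧ k ≤ 64 := by simp [valsThree] at hk'; omega
  have hl64 : 1 ≤ l ∧ l ≤ 64 := by simp [valsFive] at hl'; omega
  set X := 3 ^ b with hX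
  set Y := 5 ^ c with hY
  have hn' : n = X * a + 1 := by omega
  have hm' : m = Y * a' + 1 := by omega
  have hX0 : 0 < X := by positivity
  have hY0 : 0 < Y := by positivity
  have e1 : X * (a * k) + k = 64 * Y := by rw [← hn, hn']; ring
  have e2 : Y * (a' * l) + l = 64 * X := by rw [← hm, hm']; ring
  have ha0 : 1 ≤ a := by
    by_contra h0
    have : a = 0 := by omega
    rw [this, mul_zero] at ha
    omega
  have hA : 1 ≤ a * k := Nat.mul_pos ha0 hk64.1
  have hB0 : 1 ≤ a' := by
    by_contra h0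
    have : a' = 0 := by omega
    rw [this, mul_zero] at ha'
    omega
  have hB : 1 ≤ a' * l := Nat.mul_pos hB0 hl64.1
  have e3 : (a * k) * (a' * l) * Y + ((a * k) * l + 64 * k) = 4096 * Y := by
    calc (a * k) * (a' * l) * Y + ((a * k) * l + 64 * k) = (a * k) * (Y * (a' * l) + l) + 64 * k := by ring
      _ = (a * k) * (64 * X) + 64 * k := by rw [e2]
      _ = 64 * (X * (a * k) + k) := by ring
      _ = 4096 * Y := by rw [e1]; ring
  have hAB : (a * k) * (a' * l) < 4096 := by
    by_contra hAB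
    have h0 : 4096 * Y ≤ (a * k) * (a' * l) * Y := Nat.mul_le_mul_right Y (by omega)
    omega
  have hA' : a * k < 4096 := lt_of_le_of_lt (Nat.le_mul_of_pos_right _ hB) hAB
  have hYle : Y ≤ 266240 := by
    obtain ⟨d, hd⟩ : ∃ d, 4096 = (a * k) * (a' * l) + (d + 1) := ⟨4096 - (a * k) * (a' * l) - 1, by omega⟩
    have h0 : (d + 1) * Y = (a * k) * l + 64 * k := by
      have h5 : 4096 * Y = (a * k) * (a' * l) * Y + (d + 1) * Y := by rw [← add_mul, ← hd]
      omega
    have h6 : (a * k) * l ≤ 4096 * 64 := Nat.mul_le_mul hA'.le hl64.2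
    have h7 : Y ≤ (d + 1) * Y := Nat.le_mul_of_pos_left _ (Nat.succ_pos d)
    omega
  have hc8 : c < 8 := by
    by_contra hc8
    have : 5 ^ 8 ≤ 5 ^ c := Nat.pow_le_pow_right (by norm_num) (by omega)
    rw [← hY] at this
    omega
  have hXle : X ≤ 64 * Y := by
    have : X ≤ X * (a * k) := Nat.le_mul_of_pos_right _ hA
    omega
  have hb16 : b < 16 := by
    by_contra hb16
    have : 3 ^ 16 ≤ 3 ^ b := Nat.pow_le_pow_right (by norm_num) (by omega)
    rw [← hX] at this
    omega
  have key := okPair_all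
  rw [List.all_eq_true] at key
  have key1 := key b (List.mem_range.mpr hb16)
  rw [List.all_eq_true] at key1
  have key2 := key1 c (List.mem_range.mpr hc8)
  rw [List.all_eq_true] at key2
  have key3 := key2 k hk'
  rw [List.all_eq_true] at key3
  have key4 := key3 l hl'
  have hnk : 64 * Y / k = n := Nat.div_eq_of_eq_mul_left hk64.1 hn.symm
  have hml : 64 * X / l = m := Nat.div_eq_of_eq_mul_left hl64.1 hm.symm
  simp only [okPair, ← hX, ← hY, hnk, hml, Bool.or_eq_true, decide_eq_true_eq, bne_iff_ne] at key4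
  have r1 : (64 * Y) % k = 0 := Nat.mod_eq_zero_of_dvd ⟨n, by rw [← hn, mul_comm]⟩
  have r2 : (64 * X) % l = 0 := Nat.mod_eq_zero_of_dvd ⟨m, by rw [← hm, mul_comm]⟩
  have r3 : (n - 1) % X = 0 := Nat.mod_eq_zero_of_dvd ⟨a, ha⟩
  have r4 : (m - 1) % Y = 0 := Nat.mod_eq_zero_of_dvd ⟨a', ha'⟩
  have r5 : (X - 1) % k = 0 := Nat.mod_eq_zero_of_dvd hk
  have r6 : (Y - 1) % l = 0 := Nat.mod_eq_zero_of_dvd hl
  simp only [r1, r2, r3, r4, r5, r6, ne_eq, not_true_eq_false, or_false] at key4
  omega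

/-- No simple group of this kind has Sylow `2`-subgroups of order `64`. -/
theorem false_of_sylow_sixty_four [IsSimpleGroup G] (h : Five G) (hns : ¬ Group.IsSolvable G)
    (h9 : 9 ∣ Nat.card G) (S : Sylow 2 G) (hS : Nat.card (S : Subgroup G) = 64) : False := by
  haveI : Fact (Nat.Prime 2) := ⟨Nat.prime_two⟩
  haveI : Fact (Nat.Prime 3) := ⟨Nat.prime_three⟩
  haveI : Fact (Nat.Prime 5) := ⟨Nat.prime_five⟩
  obtain ⟨-, -, h5d⟩ := primes_dvd_of_not_solvable h hns
  have hn := Nat.prod_factorization_pow_eq_self (n := Nat.card G) Nat.card_pos.ne'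
  rw [Finsupp.prod, Nat.support_factorization, Finset.prod_subset (s₂ := {2, 3, 5}) (primeFactors_subset h)
    (fun x _ hx => by rw [Finsupp.notMem_support_iff.mp (by rwa [Nat.support_factorization]), pow_zero]),
    Finset.prod_insert (by simp), Finset.prod_pair (by norm_num)] at hn
  have h2 : 2 ^ (Nat.card G).factorization 2 = 64 := by
    rw [← Sylow.card_eq_multiplicity S]; exact hS
  rw [h2] at hn
  let P : Sylow 3 G := default
  let Q : Sylow 5 G := default
  set b := (Nat.card G).factorization 3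
  set c := (Nat.card G).factorization 5
  have hP : Nat.card P = 3 ^ b := P.card_eq_multiplicity
  have hQ : Nat.card Q = 5 ^ c := Q.card_eq_multiplicity
  have hb : 2 ≤ b := (Nat.Prime.pow_dvd_iff_le_factorization Nat.prime_three Nat.card_pos.ne').mp (by simpa using h9)
  have hc : 1 ≤ c := Nat.prime_five.factorization_pos_of_dvd Nat.card_pos.ne' h5d
  obtain ⟨n, k, hnk, hn1, hXn, hk, hk1, hk2⟩ := sylow_numbers h hns (Or.inl rfl) P
  obtain ⟨m, l, hml, hm1, hYm, hl, hl1, hl2⟩ := sylow_numbers h hns (Or.inr rfl) Q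
  rw [hP] at hnk hXn hk
  rw [hQ] at hml hYm hl
  have en : n * k = 64 * 5 ^ c := Nat.eq_of_mul_eq_mul_right (show 0 < 3 ^ b by positivity) (by
    calc n * k * 3 ^ b = n * (k * 3 ^ b) := by ring
      _ = _ := by rw [hnk, ← hn]; ring)
  have em : m * l = 64 * 3 ^ b := Nat.eq_of_mul_eq_mul_right (show 0 < 5 ^ c by positivity) (by
    calc m * l * 5 ^ c = m * (l * 5 ^ c) := by ring
      _ = _ := by rw [hml, ← hn]; ring)
  exact arith hb hc en em hn1 hm1 hXn hYm hk hl
    (vals_of_dvd Nat.prime_five (by norm_num) (Dvd.intro_left n en) hk1 hk2)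
    (vals_of_dvd Nat.prime_three (by norm_num) (Dvd.intro_left m em) hl1 hl2)

end Cfsg.Agent.Lib.InvChar.OrdersFive
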