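import Cfsg.Agent.Lib.InvChar.OrdersFive.Affine

/-!
The minimal extension of an elementary abelian `2`-group by `A₅`.
-/

set_option autoImplicit false
set_option linter.unusedSectionVars false
set_option linter.style.haveILetI false

namespace Cfsg.Agent.Lib.InvChar.OrdersFive

open Subgroup

universe u

variable {G : Type u} [Group G] [Finite G]

/-- A property closed under products holds everywhere as soon as it holds for generators. -/
theorem gen_induction {P : G → Prop} (h1 : P 1) (hm : ∀ a b, P a → P b → P (a * b)) {s : Set G}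
    (hs : ∀ a ∈ s, P a) {g : G} (hg : g ∈ Subgroup.closure s) : P g := by
  have hpow : ∀ a, P a → ∀ n : ℕ, P (a ^ n) := fun a ha n => by
    induction n with
    | zero => rw [pow_zero]; exact h1
    | succ n ih => rw [pow_succ]; exact hm _ _ ih ha
  let H : Subgroup G :=
    { carrier := {a | P a}
      one_mem' := h1
      mul_mem' := fun {a b} ha hb => hm a b ha hb
      inv_mem' := fun {a} ha => by
        have e : a⁻¹ = a ^ (orderOf a - 1) := by
          rw [inv_eq_iff_mul_eq_one, ← pow_succ',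
            Nat.sub_add_cancel (orderOf_pos a : 0 < orderOf a), pow_orderOf_eq_one]
        show P a⁻¹
        rw [e]
        exact hpow a ha _ }
  exact (show Subgroup.closure s ≤ H from (closure_le H).mpr hs) hg

set_option maxRecDepth 100000 in
theorem A5_inverted : ∃ c s : ↥(alternatingGroup (Fin 5)),
    c ^ 3 = 1 ∧ c ≠ 1 ∧ s * s = 1 ∧ s ≠ 1 ∧ s * c * s = c⁻¹ := by decide +kernel

set_option maxRecDepth 100000 in
theorem A5_partner : ∀ s : ↥(alternatingGroup (Fin 5)), s * s = 1 → s ≠ 1 →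
    ∃ a : ↥(alternatingGroup (Fin 5)), a ^ 3 = 1 ∧ a ≠ 1 ∧ (s * a) ^ 5 = 1 ∧ s * a ≠ 1 := by decide +kernel

theorem affine_of (h : Full G) (π : G →* ↥(alternatingGroup (Fin 5))) (hπ : Function.Surjective π)
    (hcomm : ∀ a ∈ π.ker, ∀ b ∈ π.ker, a * b = b * a) (hsq : ∀ a ∈ π.ker, a * a = 1)
    (hmin : ∀ L : Subgroup G, L.Normal → L ≤ π.ker → L ≠ ⊥ → L = π.ker) :
    Nonempty (G ≃* ↥affineGroup) := by
  classical
  haveI : Fact (Nat.Prime 3) := ⟨Nat.prime_three⟩
  haveI : Fact (Nat.Prime 5) := ⟨Nat.prime_five⟩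
  -- orders of lifts and free action
  have hlift : ∀ (p : ℕ), p = 3 ∨ p = 5 → ∀ g : G, orderOf (π g) = p → orderOf g = p := by
    intro p hp g hg
    have h1 : p ∣ orderOf g := hg ▸ orderOf_map_dvd π g
    have h3 := orderOf_pos g
    have h4 := h.five g
    rcases hp with rfl | rfl <;> omega
  have hfree : ∀ g m : G, m ∈ π.ker → (orderOf g = 3 ∨ orderOf g = 5) → g * m = m * g → m = 1 := by
    intro g m hm hg hgm
    by_contra hm1
    refine not_commute h.five (a := g) (b := m) (fun e => ?_) hm1 ?_ hgm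
    · rw [e, orderOf_one] at hg; omega
    · rw [Involutions.orderOf_eq_two_of_mul_self (hsq m hm) hm1]
      rcases hg with e | e <;> rw [e] <;> decide
  -- an involution outside the kernel
  obtain ⟨t, htt, htπ⟩ : ∃ t : G, t * t = 1 ∧ π t ≠ 1 := by
    obtain ⟨c, s, hc3, hc1, hs2, hs1, hsc⟩ := A5_inverted
    obtain ⟨x, hx⟩ := hπ c
    obtain ⟨g, hg⟩ := hπ s
    have hxo : orderOf x = 3 := hlift 3 (Or.inl rfl) x (by rw [hx]; exact orderOf_eq_prime hc3 hc1)
    let F : ↥π.ker → ↥π.ker := fun m => ⟨m * x * (m : G)⁻¹ * x⁻¹, by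
      rw [MonoidHom.mem_ker, map_mul, map_mul, map_mul, map_inv, map_inv, MonoidHom.mem_ker.mp m.2]
      group⟩
    have hF : Function.Injective F := fun m n e => by
      have e' : (m : G) * x * (m : G)⁻¹ = n * x * (n : G)⁻¹ := mul_right_cancel (congrArg Subtype.val e)
      refine Subtype.ext (inv_mul_eq_one.mp ?_).symm
      refine hfree x _ (mul_mem (inv_mem n.2) m.2) (Or.inl hxo) ?_
      calc x * ((n : G)⁻¹ * m) = (n : G)⁻¹ * (n * x * (n : G)⁻¹) * m := by group
        _ = (n : G)⁻¹ * m * x := by rw [← e']; group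
    obtain ⟨m, hm⟩ := Finite.surjective_of_injective hF ⟨g * x⁻¹ * g⁻¹ * x⁻¹, by
      rw [MonoidHom.mem_ker, map_mul, map_mul, map_mul, map_inv, map_inv, hg, hx,
        inv_eq_of_mul_eq_one_right hs2]
      have : s * c⁻¹ * s = c := by
        rw [← hsc]
        calc s * (s * c * s) * s = (s * s) * c * (s * s) := by group
          _ = c := by rw [hs2, one_mul, mul_one]
      rw [this, mul_inv_cancel]⟩
    have hm' : (m : G) * x * (m : G)⁻¹ = g * x⁻¹ * g⁻¹ := mul_right_cancel (congrArg Subtype.val hm)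
    refine ⟨(m : G)⁻¹ * g, ?_, by rw [map_mul, map_inv, MonoidHom.mem_ker.mp m.2, inv_one, one_mul, hg]; exact hs1⟩
    set t := (m : G)⁻¹ * g with ht
    have htx : t * x⁻¹ * t⁻¹ = x := by
      rw [ht]
      calc (m : G)⁻¹ * g * x⁻¹ * ((m : G)⁻¹ * g)⁻¹ = (m : G)⁻¹ * (g * x⁻¹ * g⁻¹) * m := by group
        _ = x := by rw [← hm']; group
    refine hfree x _ ?_ (Or.inl hxo) ?_
    · rw [MonoidHom.mem_ker, ht, map_mul, map_mul, map_inv, MonoidHom.mem_ker.mp m.2, inv_one, one_mul, hg, hs2]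
    · calc x * (t * t) = t * x⁻¹ * t⁻¹ * (t * t) := by rw [htx]
        _ = t * x⁻¹ * t := by group
        _ = t * (t * x⁻¹ * t⁻¹)⁻¹ * t := by rw [htx]
        _ = t * t * x := by group
  obtain ⟨a, ha3, ha1, hsa5, hsa1⟩ := A5_partner (π t) (by rw [← map_mul, htt, map_one]) htπ
  obtain ⟨x, hx⟩ := hπ a
  have hxo : orderOf x = 3 := hlift 3 (Or.inl rfl) x (by rw [hx]; exact orderOf_eq_prime ha3 ha1)
  have hfo : orderOf (t * x) = 5 := hlift 5 (Or.inr rfl) _ (by
    rw [map_mul, hx]; exact orderOf_eq_prime hsa5 hsa1)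
  -- a complement
  set U := Subgroup.closure ({x, t} : Set G) with hU
  set b := (t * x)⁻¹ with hb
  have htinv : t⁻¹ = t := inv_eq_of_mul_eq_one_right htt
  have hUb : Subgroup.closure ({x, b} : Set G) = U := by
    rw [hU]
    refine le_antisymm ((closure_le _).mpr ?_) ((closure_le _).mpr ?_) <;>
      rintro y (rfl | rfl)
    · exact subset_closure (Or.inl rfl)
    · exact inv_mem (mul_mem (subset_closure (by simp)) (subset_closure (by simp)))
    · exact subset_closure (Or.inl rfl)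
    · have : y = b⁻¹ * x⁻¹ := by rw [hb]; group
      rw [SetLike.mem_coe, this]
      exact mul_mem (inv_mem (subset_closure (by simp))) (inv_mem (subset_closure (by simp)))
  have hx3 : x * x * x = 1 := by rw [← pow_three', ← hxo, pow_orderOf_eq_one]
  have hb5 : b ^ 5 = 1 := by rw [hb, inv_pow, ← hfo, pow_orderOf_eq_one, inv_one]
  have hU60 : Nat.card U ≤ 60 := by
    have hcov : ∀ u : ↥U, ∃ q : Fin 5 × Fin 12,
        (u : G) = b ^ (q.1 : ℕ) * ThreeTransp.IcoPres.reps x b q.2 := by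
      intro u
      obtain ⟨k, i, hk⟩ := ThreeTransp.IcoPres.cover (a := x) (b := b) hx3
        (by simpa only [pow_succ, pow_zero, one_mul] using hb5)
        (by
          have e : x * b = t := by rw [hb, mul_inv_rev, htinv]; group
          rw [mul_assoc (x * b), e, htt]) u (hUb.symm ▸ u.2)
      refine ⟨(⟨(k % 5).toNat, by omega⟩, i), ?_⟩
      rw [hk]
      congr 1
      rw [← zpow_natCast, Int.toNat_of_nonneg (Int.emod_nonneg k (by norm_num : (5 : ℤ) ≠ 0))]
      conv_lhs => rw [← Int.emod_add_mul_ediv k 5, zpow_add, zpow_mul,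
        show b ^ (5 : ℤ) = 1 from (by exact_mod_cast hb5), one_zpow, mul_one]
    choose q hq using hcov
    refine (Nat.card_le_card_of_injective q fun u v e => Subtype.ext ?_).trans
      (by rw [Nat.card_prod, Nat.card_fin, Nat.card_fin])
    rw [hq u, hq v, e]
  have hA : Nat.card ↥(alternatingGroup (Fin 5)) = 60 := by
    rw [nat_card_alternatingGroup, Nat.card_fin]; rfl
  have hmap : U.map π = ⊤ := by
    have m1 : ∀ u ∈ U, orderOf (π u) ∣ Nat.card (U.map π) := fun u hu =>
      (U.map π).orderOf_dvd_natCard (mem_map_of_mem π hu)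
    have h2 := m1 t (subset_closure (by simp))
    rw [orderOf_eq_prime (p := 2) (by rw [sq, ← map_mul, htt, map_one]) htπ] at h2
    have h3 := m1 x (subset_closure (by simp))
    rw [hx, orderOf_eq_prime ha3 ha1] at h3
    have h5 := m1 (t * x) (mul_mem (subset_closure (by simp)) (subset_closure (by simp)))
    rw [map_mul, hx, orderOf_eq_prime hsa5 hsa1] at h5
    have h30 : 30 ∣ Nat.card (U.map π) := by omega
    obtain ⟨d, hd⟩ := h30
    have hi := (U.map π).card_mul_index
    rw [hA, hd, mul_assoc] at hi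
    have hi2 : d * (U.map π).index = 2 := by omega
    have hle : (U.map π).index ∣ 2 := Dvd.intro_left d hi2
    rcases (Nat.dvd_prime Nat.prime_two).mp hle with e | e
    · exact index_eq_one.mp e
    · haveI := normal_of_index_eq_two e
      refine (inferInstance : (U.map π).Normal).eq_bot_or_eq_top.resolve_left fun e' => ?_
      rw [e', card_bot] at hd
      omega
  let πU : ↥U →* ↥(alternatingGroup (Fin 5)) := π.comp U.subtype
  have hπUs : Function.Surjective πU := fun y => by
    obtain ⟨u, hu, rfl⟩ := (hmap ▸ mem_top y : y ∈ U.map π)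
    exact ⟨⟨u, hu⟩, rfl⟩
  have hπUb : Function.Bijective πU := (Nat.bijective_iff_surjective_and_card πU).mpr
    ⟨hπUs, le_antisymm (hA ▸ hU60) (Nat.card_le_card_of_surjective _ hπUs)⟩
  let e := MulEquiv.ofBijective πU hπUb
  let s : G →* G := U.subtype.comp (e.symm.toMonoidHom.comp π)
  have hsU : ∀ g, s g ∈ U := fun g => (e.symm (π g)).2
  have hsπ : ∀ g, π (s g) = π g := fun g => e.apply_symm_apply (π g)
  have hsu : ∀ u ∈ U, s u = u := fun u hu => congrArg Subtype.val (e.symm_apply_apply ⟨u, hu⟩)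
  -- the module
  letI : CommGroup ↥π.ker :=
    { (inferInstance : Group ↥π.ker) with mul_comm := fun a b => Subtype.ext (hcomm a a.2 b b.2) }
  let co : Additive ↥π.ker → G := fun a => ((Additive.toMul a : ↥π.ker) : G)
  have co_inj : Function.Injective co := fun a b e => Additive.toMul.injective (Subtype.ext e)
  have co_add : ∀ a b, co (a + b) = co a * co b := fun a b => rfl
  have co_zero : co 0 = 1 := rfl
  have co_mem : ∀ a, co a ∈ π.ker := fun a => (Additive.toMul a).2
  let ρ : G → Additive ↥π.ker →+ Additive ↥π.ker := fun g =>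
    MonoidHom.toAdditive (MulAut.conjNormal (H := π.ker) g).toMonoidHom
  have co_ρ : ∀ g a, co (ρ g a) = g * co a * g⁻¹ := fun g a =>
    MulAut.conjNormal_apply g (Additive.toMul a)
  have ρmul : ∀ g k a, ρ (g * k) a = ρ g (ρ k a) := fun g k a => co_inj (by
    rw [co_ρ, co_ρ, co_ρ]; group)
  have ρone : ∀ a, ρ 1 a = a := fun a => co_inj (by rw [co_ρ]; group)
  have ρker : ∀ m ∈ π.ker, ∀ a, ρ m a = a := fun m hm a => co_inj (by
    rw [co_ρ, hcomm m hm _ (co_mem a), mul_inv_cancel_right])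
  have h2 : ∀ a : Additive ↥π.ker, a + a = 0 := fun a => co_inj (by
    rw [co_add, co_zero]; exact hsq _ (co_mem a))
  have hρfix : ∀ g, (orderOf g = 3 ∨ orderOf g = 5) → ∀ a, ρ g a = a → a = 0 := fun g hg a ha => co_inj (by
    refine (hfree g _ (co_mem a) hg ?_).trans co_zero.symm
    exact mul_inv_eq_iff_eq_mul.mp ((co_ρ g a).symm.trans (congrArg co ha)))
  have hX : ∀ a, ρ x (ρ x a) = ρ x a + a := fun a => by
    have h3 : ρ x (ρ x (ρ x a)) = a := by rw [← ρmul, ← ρmul, hx3, ρone]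
    have hz := hρfix x (Or.inl hxo) (ρ x (ρ x a) + ρ x a + a) (by
      rw [map_add, map_add, h3]; abel)
    calc ρ x (ρ x a) = ρ x (ρ x a) + (ρ x a + ρ x a) + (a + a) := by rw [h2, h2, add_zero, add_zero]
      _ = (ρ x (ρ x a) + ρ x a + a) + (ρ x a + a) := by abel
      _ = ρ x a + a := by rw [hz, zero_add]
  have hT : ∀ a, ρ t (ρ t a) = a := fun a => by rw [← ρmul, htt, ρone]
  have h5 : ∀ a, ((ρ t).comp (ρ x))^[5] a = a := fun a => by
    simp only [Function.iterate_succ, Function.iterate_zero, Function.comp_apply, id_eq,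
      AddMonoidHom.coe_comp, ← ρmul]
    rw [show t * (x * (t * (x * (t * (x * (t * (x * (t * x)))))))) = (t * x) ^ 5 by
      simp only [pow_succ, pow_zero, one_mul, mul_assoc],
      (congrArg ((t * x) ^ ·) hfo).symm.trans (pow_orderOf_eq_one _), ρone]
  obtain ⟨g4, hg4⟩ := h.four
  have hker1 : g4 ^ 2 ∈ π.ker := by
    rw [MonoidHom.mem_ker]
    have h1 : orderOf (π g4) ∣ 2 ^ 2 := by
      rw [show (2 : ℕ) ^ 2 = 4 by norm_num, ← hg4]; exact orderOf_map_dvd π g4
    obtain ⟨j, hj, hj'⟩ := (Nat.dvd_prime_pow Nat.prime_two).mp h1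
    have hj2 : j ≠ 2 := fun e => A5_no_four (π g4) (by rw [hj', e]; norm_num)
    rw [map_pow]
    apply orderOf_dvd_iff_pow_eq_one.mp
    rw [hj']
    exact (pow_dvd_pow 2 (show j ≤ 1 by omega)).trans (by rw [pow_one])
  haveI : Nontrivial (Additive ↥π.ker) := ⟨⟨Additive.ofMul ⟨g4 ^ 2, hker1⟩, 0, fun e => by
    have h1 : g4 ^ 2 = 1 := congrArg co e
    have := orderOf_dvd_of_pow_eq_one h1
    rw [hg4] at this
    norm_num at this⟩⟩
  obtain ⟨φ, v, hφ, hφx, hφt, hv0, htv, htw, hind⟩ := exists_basis h2 (ρ x) (ρ t) hX hT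
    (hρfix x (Or.inl hxo)) h5 (fun a ha => hρfix (t * x) (Or.inr hfo) a (by rw [ρmul, ha]))
  set w := ρ x v with hw
  let θ : F4 × F4 → Additive ↥π.ker := fun p => scal φ p.1 v + scal φ p.2 w
  have θadd : ∀ p q, θ (p + q) = θ p + θ q := fun p q => by
    simp only [θ, Prod.fst_add, Prod.snd_add, scal_add h2]
    abel
  have θinj : Function.Injective θ := fun p q e => by
    obtain ⟨e1, e2⟩ := hind (p + q).1 (p + q).2 (by
      change θ (p + q) = 0
      rw [θadd, e, h2])
    have key : ∀ a b : F4, a + b = 0 → a = b := by decide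
    exact Prod.ext (key _ _ e1) (key _ _ e2)
  have hgen : ∀ g : G, g ∈ Subgroup.closure ((π.ker : Set G) ∪ {x, t}) := fun g => by
    have h1 : g * (s g)⁻¹ ∈ π.ker := by rw [MonoidHom.mem_ker, map_mul, map_inv, hsπ, mul_inv_cancel]
    have h2' : s g ∈ Subgroup.closure ((π.ker : Set G) ∪ {x, t}) :=
      closure_mono Set.subset_union_right (hsU g)
    simpa using mul_mem (subset_closure (Set.mem_union_left _ h1)) h2'
  have hlin : ∀ g c a, ρ g (scal φ c a) = scal φ c (ρ g a) := fun g => by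
    refine gen_induction (P := fun g => ∀ c a, ρ g (scal φ c a) = scal φ c (ρ g a))
      (fun c a => by rw [ρone, ρone]) (fun p q hp hq c a => by rw [ρmul, hq, hp, ρmul]) ?_ (hgen g)
    rintro y (hy | rfl | rfl)
    · intro c a; rw [ρker y hy, ρker y hy]
    · exact scal_comm _ hφx
    · exact scal_comm _ hφt
  have θscal : ∀ c p, scal φ c (θ p) = θ (c * p.1, c * p.2) := fun c p => by
    simp only [θ, scal_map_add, scal_mul h2 hφ]
  have hρθ : ∀ (g : G) (p q : F4 × F4), ρ g v = θ p → ρ g w = θ q → ∀ r : F4 × F4,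
      ρ g (θ r) = θ (r.1 * p.1 + r.2 * q.1, r.1 * p.2 + r.2 * q.2) := fun g p q hp hq r => by
    have : ρ g (θ r) = scal φ r.1 (ρ g v) + scal φ r.2 (ρ g w) := by
      simp only [θ, map_add, hlin]
    rw [this, hp, hq, θscal, θscal, ← θadd]
    rfl
  have θv : θ (1, 0) = v := by simp [θ, scal_one, scal_zero]
  have θw : θ (0, 1) = w := by simp [θ, scal_one, scal_zero]
  have hxw : ρ x w = θ (1, 1) := by
    rw [hw, hX, ← hw]; simp [θ, scal_one, add_comm]
  have htw' : ρ t w = θ (F4.omega + 1, 1) := by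
    rw [hw, htw]; simp [θ, scal_one, hw]
  have hinv : ∀ (g : G) (r : F4 × F4), ∃ r', ρ g (θ r) = θ r' := fun g => by
    refine gen_induction (P := fun g => ∀ r : F4 × F4, ∃ r', ρ g (θ r) = θ r')
      (fun r => ⟨r, ρone _⟩) (fun p q hp hq r => ?_) ?_ (hgen g)
    · obtain ⟨r1, h1⟩ := hq r
      obtain ⟨r2, h2'⟩ := hp r1
      exact ⟨r2, by rw [ρmul, h1, h2']⟩
    · rintro y (hy | rfl | rfl) r
      · exact ⟨r, ρker y hy _⟩
      · exact ⟨_, hρθ _ _ _ (hw.symm.trans θw.symm) hxw r⟩
      · exact ⟨_, hρθ _ _ _ (htv.trans θv.symm) htw' r⟩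
  have θsurj : Function.Surjective θ := by
    let L : Subgroup G :=
      { carrier := {g | ∃ r, g = co (θ r)}
        one_mem' := ⟨0, by simp [θ, scal_zero, co_zero]⟩
        mul_mem' := by
          rintro _ _ ⟨r, rfl⟩ ⟨r', rfl⟩
          exact ⟨r + r', (co_add _ _).symm.trans (congrArg co (θadd r r').symm)⟩
        inv_mem' := by
          rintro _ ⟨r, rfl⟩
          exact ⟨r, inv_eq_of_mul_eq_one_right (hsq _ (co_mem _))⟩ }
    have hL : L = π.ker := by
      refine hmin L ⟨?_⟩ ?_ ?_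
      · rintro _ ⟨r, rfl⟩ g
        obtain ⟨r', hr'⟩ := hinv g r
        exact ⟨r', by rw [← hr', co_ρ]⟩
      · rintro _ ⟨r, rfl⟩
        exact co_mem _
      · intro e'
        have : co v ∈ L := ⟨(1, 0), by rw [θv]⟩
        rw [e', mem_bot] at this
        exact hv0 (co_inj (this.trans co_zero.symm))
    intro a
    obtain ⟨r, hr⟩ := (hL.symm ▸ co_mem a : co a ∈ L)
    exact ⟨r, (co_inj hr).symm⟩
  let Θ := Equiv.ofBijective θ ⟨θinj, θsurj⟩
  let P : G → F4 × F4 := fun g => Θ.symm (ρ g v)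
  let Q : G → F4 × F4 := fun g => Θ.symm (ρ g w)
  let τ : G → Additive ↥π.ker := fun g => Additive.ofMul ⟨g * (s g)⁻¹, by
    rw [MonoidHom.mem_ker, map_mul, map_inv, hsπ, mul_inv_cancel]⟩
  let R : G → F4 × F4 := fun g => Θ.symm (τ g)
  have hP : ∀ g, θ (P g) = ρ g v := fun g => Θ.apply_symm_apply _
  have hQ : ∀ g, θ (Q g) = ρ g w := fun g => Θ.apply_symm_apply _
  have hR : ∀ g, θ (R g) = τ g := fun g => Θ.apply_symm_apply _
  have hτ : ∀ g k, τ (g * k) = τ g + ρ g (τ k) := fun g k => co_inj (by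
    rw [co_add, co_ρ]
    change g * k * (s (g * k))⁻¹ = g * (s g)⁻¹ * (g * (k * (s k)⁻¹) * g⁻¹)
    rw [map_mul]
    have h1 : g * (s g)⁻¹ ∈ π.ker := by rw [MonoidHom.mem_ker, map_mul, map_inv, hsπ, mul_inv_cancel]
    have h3 : k * (s k)⁻¹ ∈ π.ker := by rw [MonoidHom.mem_ker, map_mul, map_inv, hsπ, mul_inv_cancel]
    rw [hcomm _ h1 (g * (k * (s k)⁻¹) * g⁻¹) ((inferInstance : π.ker.Normal).conj_mem _ h3 g)]
    group)
  have hP' : ∀ g k, P (g * k) = ((P k).1 * (P g).1 + (P k).2 * (Q g).1, (P k).1 * (P g).2 + (P k).2 * (Q g).2) :=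
    fun g k => θinj (by rw [hP, ρmul, ← hP k]; exact hρθ g _ _ (hP g).symm (hQ g).symm _)
  have hQ' : ∀ g k, Q (g * k) = ((Q k).1 * (P g).1 + (Q k).2 * (Q g).1, (Q k).1 * (P g).2 + (Q k).2 * (Q g).2) :=
    fun g k => θinj (by rw [hQ, ρmul, ← hQ k]; exact hρθ g _ _ (hP g).symm (hQ g).symm _)
  have hR' : ∀ g k, R (g * k) =
      R g + ((R k).1 * (P g).1 + (R k).2 * (Q g).1, (R k).1 * (P g).2 + (R k).2 * (Q g).2) :=
    fun g k => θinj (by rw [hR, θadd, hR, hτ, ← hR k, hρθ g _ _ (hP g).symm (hQ g).symm])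
  let Γ : G → Matrix (Fin 3) (Fin 3) F4 := fun g =>
    !![(P g).1, (Q g).1, (R g).1; (P g).2, (Q g).2, (R g).2; 0, 0, 1]
  have hΓmul : ∀ g k, Γ (g * k) = Γ g * Γ k := fun g k => by
    ext i j
    fin_cases i <;> fin_cases j <;>
      simp [Γ, hP', hQ', hR', Matrix.mul_apply, Fin.sum_univ_three] <;> ring
  have hP1 : ∀ m, (∀ a, ρ m a = a) → P m = (1, 0) ∧ Q m = (0, 1) := fun m hm =>
    ⟨θinj (by rw [hP, hm, θv]), θinj (by rw [hQ, hm, θw])⟩
  have hdet : ∀ g, (Γ g).det = 1 := fun g => by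
    refine gen_induction (P := fun g => (Γ g).det = 1) ?_
      (fun p q hp hq => by rw [hΓmul, Matrix.det_mul, hp, hq, one_mul]) ?_ (hgen g)
    · obtain ⟨e1, e2⟩ := hP1 1 ρone
      rw [Matrix.det_fin_three]
      simp [Γ, e1, e2]
    · rintro y (hy | rfl | rfl)
      · obtain ⟨e1, e2⟩ := hP1 y (ρker y hy)
        rw [Matrix.det_fin_three]
        simp [Γ, e1, e2]
      · have e1 : P y = (0, 1) := θinj (by rw [hP, θw, hw])
        have e2 : Q y = (1, 1) := θinj (by rw [hQ, hxw])
        rw [Matrix.det_fin_three]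
        simp [Γ, e1, e2]
        decide
      · have e1 : P y = (1, 0) := θinj (by rw [hP, θv, htv])
        have e2 : Q y = (F4.omega + 1, 1) := θinj (by rw [hQ, htw'])
        rw [Matrix.det_fin_three]
        simp [Γ, e1, e2]
  let Φ : G →* ↥affineGroup :=
    { toFun := fun g => ⟨⟨Γ g, hdet g⟩, ⟨rfl, rfl, rfl⟩⟩
      map_one' := by
        obtain ⟨e1, e2⟩ := hP1 1 ρone
        have e3 : R 1 = 0 := θinj (by
          rw [hR, show θ 0 = 0 by simp [θ, scal_zero]]
          refine co_inj ?_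
          change (1 : G) * (s 1)⁻¹ = 1
          rw [map_one, inv_one, one_mul])
        refine Subtype.ext (Subtype.ext ?_)
        change Γ 1 = 1
        ext i j
        fin_cases i <;> fin_cases j <;> simp [Γ, e1, e2, e3]
      map_mul' := fun g k => Subtype.ext (Subtype.ext (hΓmul g k)) }
  have hcard : Nat.card G = 960 := by
    have h1 := π.ker.card_mul_index
    rw [index_ker, MonoidHom.range_eq_top.mpr hπ, card_top, hA,
      ← Nat.card_congr (Additive.ofMul : ↥π.ker ≃ _).symm, ← Nat.card_congr Θ,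
      Nat.card_eq_fintype_card, Fintype.card_prod, card_F4] at h1
    omega
  have hinjΦ : Function.Injective Φ := (injective_iff_map_eq_one Φ).mpr fun g hg => by
    have hΓ : Γ g = 1 := congrArg (fun M : ↥affineGroup => M.1.1) hg
    have k00 : (P g).1 = 1 := congrFun (congrFun hΓ 0) 0
    have k10 : (P g).2 = 0 := congrFun (congrFun hΓ 1) 0
    have k01 : (Q g).1 = 0 := congrFun (congrFun hΓ 0) 1
    have k11 : (Q g).2 = 1 := congrFun (congrFun hΓ 1) 1
    have k02 : (R g).1 = 0 := congrFun (congrFun hΓ 0) 2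
    have k12 : (R g).2 = 0 := congrFun (congrFun hΓ 1) 2
    have hρg : ∀ a, ρ g a = a := fun a => by
      obtain ⟨r, rfl⟩ := θsurj a
      rw [hρθ g _ _ (hP g).symm (hQ g).symm, k00, k10, k01, k11]
      simp
    let K := centralizer (π.ker : Set G)
    have hgK : g ∈ K := fun m hm => by
      have := congrArg co (hρg (Additive.ofMul ⟨m, hm⟩))
      rw [co_ρ] at this
      exact (mul_inv_eq_iff_eq_mul.mp this).symm
    have hgM : g ∈ π.ker := by
      haveI : (K.map π).Normal := (inferInstance : K.Normal).map π hπ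
      rcases (inferInstance : (K.map π).Normal).eq_bot_or_eq_top with e' | e'
      · rw [MonoidHom.mem_ker, ← mem_bot, ← e']
        exact mem_map_of_mem π hgK
      · exfalso
        obtain ⟨k, hk, hkx⟩ := (e'.symm ▸ mem_top (π x) : π x ∈ K.map π)
        have hxk : x * k⁻¹ ∈ π.ker := by rw [MonoidHom.mem_ker, map_mul, map_inv, hkx, mul_inv_cancel]
        have hxK : x ∈ K := fun m hm => by
          calc m * x = (m * (x * k⁻¹)) * k := by group
            _ = x * k⁻¹ * (m * k) := by rw [hcomm m hm _ hxk]; group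
            _ = x * k⁻¹ * (k * m) := by rw [hk m hm]
            _ = x * m := by group
        exact hv0 (hρfix x (Or.inl hxo) v (co_inj (by
          rw [co_ρ, ← hxK _ (co_mem v), mul_inv_cancel_right])))
    have hτ0 : τ g = 0 := by
      rw [← hR, show R g = 0 from Prod.ext k02 k12]
      simp [θ, scal_zero]
    have h1 : g * (s g)⁻¹ = 1 := congrArg co hτ0
    have hs1 : s g = 1 := by
      have hs' : π (s g) = 1 := (hsπ g).trans hgM
      have := hsu (s g) (hsU g)
      rw [← this]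
      show U.subtype (e.symm (π (s g))) = 1
      rw [hs', map_one, map_one]
    rwa [hs1, inv_one, mul_one] at h1
  refine ⟨MulEquiv.ofBijective Φ ((Nat.bijective_iff_injective_and_card Φ).mpr ⟨hinjΦ, ?_⟩)⟩
  exact le_antisymm (Nat.card_le_card_of_injective Φ hinjΦ) (hcard ▸ card_affineGroup_le)

/-- A minimal group of this type is the affine group. -/
theorem affine_of_hasType (h : Full G) (hT : HasType G)
    (hquot : ∀ (L : Subgroup G) [L.Normal], L ≠ ⊥ → ¬ Full (G ⧸ L)) :
    Nonempty (G ≃* ↥affineGroup) := by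
  obtain ⟨N, hN, hNe, ⟨e⟩⟩ := hT
  haveI := hN
  set π := e.toMonoidHom.comp (QuotientGroup.mk' N) with hπdef
  have hker : π.ker = N := by
    ext g
    rw [MonoidHom.mem_ker, hπdef, MonoidHom.comp_apply, MulEquiv.coe_toMonoidHom, MulEquiv.map_eq_one_iff,
      QuotientGroup.mk'_apply, QuotientGroup.eq_one_iff]
  have hsq : ∀ a ∈ π.ker, a * a = 1 := fun a ha => by rw [← sq]; exact hNe.2 a (hker ▸ ha)
  refine affine_of h π (e.surjective.comp (QuotientGroup.mk'_surjective N)) (fun a ha b hb => ?_) hsq ?_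
  · haveI := hNe.1
    exact congrArg Subtype.val (IsMulCommutative.is_comm.comm (⟨a, hker ▸ ha⟩ : ↥N) ⟨b, hker ▸ hb⟩)
  intro L hL hLN hL1
  haveI := hL
  by_contra hne
  rw [hker] at hLN hne
  have hfive : Five (G ⧸ L) := h.five.of_surjective (QuotientGroup.mk' L) (QuotientGroup.mk'_surjective L)
  let f : G ⧸ L →* ↥(alternatingGroup (Fin 5)) := QuotientGroup.lift L π (hker.symm ▸ hLN)
  have hns : ¬ Group.IsSolvable (G ⧸ L) := fun hs => by
    haveI := hs
    have hsA : Group.IsSolvable ↥(alternatingGroup (Fin 5)) := by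
      refine Group.isSolvable_of_surjective (f := f) fun y => ?_
      obtain ⟨g, hg⟩ := (e.surjective.comp (QuotientGroup.mk'_surjective N)) y
      exact ⟨QuotientGroup.mk g, hg⟩
    haveI := hsA
    obtain ⟨a, ha⟩ : ∃ a : ↥(alternatingGroup (Fin 5)), orderOf a = 3 := by
      haveI : Fact (Nat.Prime 3) := ⟨Nat.prime_three⟩
      exact exists_prime_orderOf_dvd_card' 3 (by rw [nat_card_alternatingGroup, Nat.card_fin]; decide)
    obtain ⟨b, hb⟩ : ∃ b : ↥(alternatingGroup (Fin 5)), orderOf b = 5 := by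
      haveI : Fact (Nat.Prime 5) := ⟨Nat.prime_five⟩
      exact exists_prime_orderOf_dvd_card' 5 (by rw [nat_card_alternatingGroup, Nat.card_fin]; decide)
    refine not_three_primes_aux _ ↥(alternatingGroup (Fin 5)) rfl ?_ hsA ?_ (ha ▸ orderOf_dvd_natCard a)
      ((dvd_of_eq hb.symm).trans (_root_.orderOf_dvd_natCard b))
    · exact h.five.of_surjective π (e.surjective.comp (QuotientGroup.mk'_surjective N))
    · rw [nat_card_alternatingGroup, Nat.card_fin]; decide
  by_cases h4 : ∃ q : G ⧸ L, orderOf q = 4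
  · exact hquot L hL1 (full_of_not_solvable hfive hns h4)
  · push Not at h4
    set T := N.map (QuotientGroup.mk' L) with hT
    have hT1 : T ≠ ⊥ := fun e' => hne (le_antisymm hLN ((QuotientGroup.ker_mk' L) ▸ (map_eq_bot_iff N).mp e'))
    have hTp : IsPGroup 2 ↥T := (isPGroup_of_pow hNe.2).map _
    have hTn : normalizer (T : Set (G ⧸ L)) = ⊤ := by
      haveI : T.Normal := hN.map _ (QuotientGroup.mk'_surjective L)
      exact normalizer_eq_top T
    have := twoLocal_solvable_of_no_four hfive hTp hT1 fun g _ => h4 g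
    rw [hTn] at this
    haveI := this
    exact hns (Group.isSolvable_of_surjective (f := (Subgroup.topEquiv (G := G ⧸ L)).toMonoidHom)
      Subgroup.topEquiv.surjective)

end Cfsg.Agent.Lib.InvChar.OrdersFive
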