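import Cfsg.Agent.Lib.InvChar.OrdersFive.Count

/-!
No extension of an elementary abelian `2`-group by `A₅` is a `2`-local subgroup of the simple groups
considered.
-/

set_option autoImplicit false
set_option linter.unusedSectionVars false
set_option linter.style.haveILetI false

namespace Cfsg.Agent.Lib.InvChar.OrdersFive

open Subgroup Cfsg.Agent.Lib.Involutions

universe u

set_option maxRecDepth 100000 in
theorem A5_five_partner : ∀ s : ↥(alternatingGroup (Fin 5)), s * s = 1 → s ≠ 1 →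
    ∃ a : ↥(alternatingGroup (Fin 5)), (s * (a * s * a⁻¹)) ^ 5 = 1 ∧ s * (a * s * a⁻¹) ≠ 1 := by decide +kernel

set_option maxRecDepth 100000 in
theorem A5_card_invol : Nat.card {s : ↥(alternatingGroup (Fin 5)) // s * s = 1 ∧ s ≠ 1} = 15 := by
  rw [Nat.card_eq_fintype_card]; decide +kernel

variable {G : Type u} [Group G] [Finite G]

set_option maxHeartbeats 1600000 in
theorem false_of_local [IsSimpleGroup G] (h : Five G) (hns : ¬ Group.IsSolvable G) (h9 : 9 ∣ Nat.card G)
    (M : Subgroup G) (π : ↥M →* ↥(alternatingGroup (Fin 5))) (hπ : Function.Surjective π)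
    (hπsq : ∀ a ∈ π.ker, a * a = 1) (hE1 : π.ker ≠ ⊥)
    (hNE : normalizer ((π.ker.map M.subtype : Subgroup G) : Set G) = M) : False := by
  classical
  haveI : Fact (Nat.Prime 2) := ⟨Nat.prime_two⟩
  haveI : Fact (Nat.Prime 3) := ⟨Nat.prime_three⟩
  haveI : Fact (Nat.Prime 5) := ⟨Nat.prime_five⟩
  set E := π.ker.map M.subtype with hEdef
  have hEM : E ≤ M := map_subtype_le _
  have hmemE : ∀ (g : G) (hg : g ∈ M), g ∈ E ↔ π ⟨g, hg⟩ = 1 := fun g hg => by
    constructor
    · rintro ⟨a, ha, e⟩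
      rw [show (⟨g, hg⟩ : ↥M) = a from Subtype.ext e.symm]
      exact ha
    · exact fun e => ⟨⟨g, hg⟩, e, rfl⟩
  have hEsq : ∀ a ∈ E, a * a = 1 := by
    rintro _ ⟨a, ha, rfl⟩
    rw [← map_mul, hπsq a ha, map_one]
  have hinvE : ∀ a ∈ E, a⁻¹ = a := fun a ha => inv_eq_of_mul_eq_one_right (hEsq a ha)
  have hEc : ∀ a ∈ E, ∀ b ∈ E, a * b = b * a := fun a ha b hb => by
    calc a * b = (a * b)⁻¹ := (hinvE _ (mul_mem ha hb)).symm
      _ = b * a := by rw [mul_inv_rev, hinvE a ha, hinvE b hb]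
  have hME : ∀ g ∈ M, ∀ a ∈ E, g * a * g⁻¹ ∈ E := fun g hg a ha =>
    (mem_normalizer_iff.mp (by rw [hNE]; exact hg) a).mp ha
  have hEcard : Nat.card π.ker = Nat.card E := (card_map_of_injective M.subtype_injective).symm
  have hEne : E ≠ ⊥ := fun e => hE1 ((Subgroup.map_eq_bot_iff_of_injective _ M.subtype_injective).mp e)
  have hEp : IsPGroup 2 ↥E := fun a => ⟨1, Subtype.ext (by simpa [sq] using hEsq a a.2)⟩
  obtain ⟨j, hj⟩ := IsPGroup.iff_card.mp hEp
  have hA : Nat.card ↥(alternatingGroup (Fin 5)) = 60 := by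
    rw [nat_card_alternatingGroup, Nat.card_fin]; rfl
  have hMcard : Nat.card M = 2 ^ j * 60 := by
    have h1 := π.ker.card_mul_index
    rw [index_ker, MonoidHom.range_eq_top.mpr hπ, card_top, hA, hEcard, hj] at h1
    exact h1.symm
  have hlift : ∀ (p : ℕ), p = 3 ∨ p = 5 → ∀ g : ↥M, orderOf (π g) = p → orderOf (g : G) = p := by
    intro p hp g hg
    rw [Subgroup.orderOf_coe]
    have h1 : p ∣ orderOf g := hg ▸ orderOf_map_dvd π g
    have h3 := orderOf_pos g
    have h4 := h.subgroup M g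
    rcases hp with rfl | rfl <;> omega
  -- the order of `E`
  have hmod : ∀ p : ℕ, (p = 3 ∨ p = 5) → 2 ^ j % p = 1 := by
    intro p hp
    haveI : Fact p.Prime := ⟨by rcases hp with rfl | rfl <;> norm_num⟩
    obtain ⟨a, ha⟩ := exists_prime_orderOf_dvd_card' (G := ↥(alternatingGroup (Fin 5))) p
      (by rw [hA]; rcases hp with rfl | rfl <;> norm_num)
    obtain ⟨g, hg⟩ := hπ a
    have h1 := card_modEq_one h (hlift p hp g (by rw [hg, ha])) (V := E) (by rw [hNE]; exact g.2) (by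
      rw [hj]
      intro hd
      have := (Nat.prime_dvd_prime_iff_eq (Fact.out : p.Prime) Nat.prime_two).mp
        ((Fact.out : p.Prime).dvd_of_dvd_pow hd)
      omega)
    rw [hj] at h1
    rw [h1]
    rcases hp with rfl | rfl <;> rfl
  have hj4 : 4 ∣ j := by
    have h3 := hmod 3 (Or.inl rfl)
    have h5 := hmod 5 (Or.inr rfl)
    rw [← Nat.div_add_mod j 4, pow_add, pow_mul, Nat.mul_mod, Nat.pow_mod] at h5
    simp only [show (2 : ℕ) ^ 4 % 5 = 1 by norm_num, one_pow, Nat.one_mod, one_mul] at h5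
    have hlt := Nat.mod_lt j (show 4 > 0 by norm_num)
    apply Nat.dvd_of_mod_eq_zero
    interval_cases hr : j % 4 <;> simp_all
  have hj0 : j ≠ 0 := fun e => hEne (card_eq_one.mp (by rw [hj, e, pow_zero]))
  -- fixed points of an element outside `E`
  have hbound : ∀ (g : G) (hg : g ∈ M), π ⟨g, hg⟩ * π ⟨g, hg⟩ = 1 → π ⟨g, hg⟩ ≠ 1 →
      Nat.card ↥(centralizer ({g} : Set G) ⊓ E) * Nat.card ↥(centralizer ({g} : Set G) ⊓ E) ≤ 2 ^ j := by
    intro g hg hs hs1
    obtain ⟨a, ha5, ha1⟩ := A5_five_partner _ hs hs1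
    obtain ⟨c, hc⟩ := hπ a
    set g' := (c : G) * g * (c : G)⁻¹ with hg'
    have hf : orderOf (g * g') = 5 := by
      have := hlift 5 (Or.inr rfl) (⟨g, hg⟩ * (c * ⟨g, hg⟩ * c⁻¹)) (by
        rw [map_mul, map_mul, map_mul, map_inv, hc]
        exact orderOf_eq_prime ha5 ha1)
      exact this
    set C := centralizer ({g} : Set G) ⊓ E
    set C' := centralizer ({g'} : Set G) ⊓ E
    have hCC' : Nat.card C = Nat.card C' := by
      refine (card_map_of_injective (K := C) (f := (MulAut.conj (c : G)).toMonoidHom)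
        (MulAut.conj (c : G)).injective).symm.trans ?_
      congr 1
      refine congrArg (fun H : Subgroup G => ↥H) ?_
      ext z
      change z ∈ C.map (MulAut.conj (c : G)).toMonoidHom ↔ _
      rw [mem_map_equiv, MulAut.conj_symm_apply]
      constructor
      · rintro ⟨h1, h2⟩
        refine ⟨mem_centralizer_singleton_iff.mpr ?_, ?_⟩
        · have h1' := mem_centralizer_singleton_iff.mp h1
          rw [hg']
          calc z * ((c : G) * g * (c : G)⁻¹) = (c : G) * ((c : G)⁻¹ * z * c * g) * (c : G)⁻¹ := by group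
            _ = (c : G) * g * (c : G)⁻¹ * z := by rw [h1']; group
        · have := hME _ c.2 _ h2
          simpa [mul_assoc] using this
      · rintro ⟨h1, h2⟩
        refine ⟨mem_centralizer_singleton_iff.mpr ?_, ?_⟩
        · have h1' := mem_centralizer_singleton_iff.mp h1
          rw [hg'] at h1'
          calc (c : G)⁻¹ * z * c * g = (c : G)⁻¹ * (z * ((c : G) * g * (c : G)⁻¹)) * c := by group
            _ = g * ((c : G)⁻¹ * z * c) := by rw [h1']; group
        · simpa using hME _ (inv_mem c.2) _ h2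
    have hinj : Function.Injective (fun q : ↥C × ↥C' => (⟨(q.1 : G) * q.2, mul_mem q.1.2.2 q.2.2.2⟩ : ↥E)) := by
      rintro ⟨p, q⟩ ⟨p', q'⟩ e
      have e' : (p : G) * q = p' * q' := congrArg Subtype.val e
      have e2 : (p' : G)⁻¹ * p = q' * (q : G)⁻¹ := by
        calc (p' : G)⁻¹ * p = (p' : G)⁻¹ * ((p : G) * q) * (q : G)⁻¹ := by group
          _ = q' * (q : G)⁻¹ := by rw [e']; group
      have hd : (p' : G)⁻¹ * p = 1 := by
        by_contra hd1
        have m1 : (p' : G)⁻¹ * p ∈ C := mul_mem (inv_mem p'.2) p.2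
        have m2 : (p' : G)⁻¹ * p ∈ C' := e2 ▸ mul_mem q'.2 (inv_mem q.2)
        have k1 := mem_centralizer_singleton_iff.mp m1.1
        have k2 := mem_centralizer_singleton_iff.mp m2.1
        refine not_commute h (a := g * g') (b := (p' : G)⁻¹ * p) (fun e => ?_) hd1 ?_ ?_
        · rw [e, orderOf_one] at hf; omega
        · rw [hf, orderOf_eq_two_of_mul_self (hEsq _ m1.2) hd1]; decide
        · exact ((Commute.symm k1).mul_left (Commute.symm k2)).eq
      have hd2 : (q' : G) * (q : G)⁻¹ = 1 := e2 ▸ hd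
      exact Prod.ext (Subtype.ext (inv_mul_eq_one.mp hd).symm) (Subtype.ext (mul_inv_eq_one.mp hd2).symm)
    have h1 := Nat.card_le_card_of_injective _ hinj
    rwa [Nat.card_prod, ← hCC', hj] at h1
  -- the preimage of a four-group
  set W := InvChar.SelfThree.FiveData.fourSub 3 (Or.inl rfl) with hWdef
  set T := (W.comap π).map M.subtype with hTdef
  have hTM : T ≤ M := map_subtype_le _
  have hmemT : ∀ (g : G) (hg : g ∈ M), g ∈ T ↔ π ⟨g, hg⟩ ∈ W := fun g hg => by
    constructor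
    · rintro ⟨a, ha, e⟩
      rw [show (⟨g, hg⟩ : ↥M) = a from Subtype.ext e.symm]
      exact ha
    · exact fun e => ⟨⟨g, hg⟩, e, rfl⟩
  have hET : E ≤ T := fun g hg => (hmemT g (hEM hg)).mpr (by rw [(hmemE g (hEM hg)).mp hg]; exact one_mem _)
  have hTcard : Nat.card T = 2 ^ (j + 2) := by
    rw [hTdef, card_map_of_injective M.subtype_injective]
    have h1 := (W.comap π).card_mul_index
    have h2 := W.card_mul_index
    rw [InvChar.SelfThree.FiveData.card_fourSub, hA] at h2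
    rw [index_comap_of_surjective W hπ, show W.index = 15 by omega, hMcard] at h1
    rw [pow_add]; omega
  have hTp : IsPGroup 2 ↥T := IsPGroup.of_card hTcard
  have hWsq : ∀ w ∈ W, w * w = 1 := fun w hw => by rw [← sq]; exact hw.1
  -- a second normal elementary subgroup
  have hsecond : ∀ g : G, E.map (MulAut.conj g).toMonoidHom ≤ T → E.map (MulAut.conj g).toMonoidHom ≠ E →
      j = 4 ∧ (∀ w ∈ T, ∃ a ∈ E, ∃ b ∈ E.map (MulAut.conj g).toMonoidHom, w = a * b) ∧
      (∀ b ∈ E.map (MulAut.conj g).toMonoidHom, b ∉ E → ∀ a ∈ E, a * b = b * a →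
        a ∈ E.map (MulAut.conj g).toMonoidHom) ∧
      Nat.card ↥(E.map (MulAut.conj g).toMonoidHom ⊓ E) = 4 := by
    intro g hFT hFE
    set F := E.map (MulAut.conj g).toMonoidHom with hFdef
    have hFcard : Nat.card F = 2 ^ j := by rw [hFdef, card_map_of_injective (MulAut.conj g).injective, hj]
    have hFc : ∀ a ∈ F, ∀ b ∈ F, a * b = b * a := by
      rintro _ ⟨a, ha, rfl⟩ _ ⟨b, hb, rfl⟩
      rw [← map_mul, hEc a ha b hb, map_mul]
    have hFM : F ≤ M := hFT.trans hTM
    obtain ⟨f, hf, hfE⟩ : ∃ f ∈ F, f ∉ E := by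
      by_contra hc
      push Not at hc
      exact hFE (eq_of_le_of_card_ge hc (by rw [hFcard, hj]))
    let r : ↥F →* ↥(alternatingGroup (Fin 5)) := π.comp (Subgroup.inclusion hFM)
    have hrker : Nat.card r.ker = Nat.card ↥(F ⊓ E) := by
      refine Nat.card_congr
        { toFun := fun a => ⟨(a.1 : G), a.1.2, (hmemE _ (hFM a.1.2)).mpr a.2⟩
          invFun := fun a => ⟨⟨a.1, a.2.1⟩, (hmemE _ (hFM a.2.1)).mp a.2.2⟩
          left_inv := fun a => rfl
          right_inv := fun a => rfl }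
    have hrW : r.range ≤ W := by
      rintro _ ⟨a, rfl⟩
      exact (hmemT _ (hFM a.2)).mp (hFT a.2)
    have hrr : Nat.card r.range ≤ 4 :=
      (Subgroup.card_le_of_le hrW).trans (InvChar.SelfThree.FiveData.card_fourSub _ _).le
    have heq : Nat.card ↥(F ⊓ E) * Nat.card r.range = 2 ^ j := by
      rw [← hrker, ← index_ker, r.ker.card_mul_index, hFcard]
    have hCb : ∀ b ∈ F, b ∉ E → Nat.card ↥(F ⊓ E) ≤ Nat.card ↥(centralizer ({b} : Set G) ⊓ E) ∧
        Nat.card ↥(centralizer ({b} : Set G) ⊓ E) * Nat.card ↥(centralizer ({b} : Set G) ⊓ E) ≤ 2 ^ j := by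
      intro b hb hbE
      refine ⟨Subgroup.card_le_of_le fun a ha => ⟨mem_centralizer_singleton_iff.mpr (hFc a ha.1 b hb), ha.2⟩, ?_⟩
      exact hbound b (hFM hb) (hWsq _ ((hmemT b (hFM hb)).mp (hFT hb))) fun e => hbE ((hmemE b (hFM hb)).mpr e)
    obtain ⟨h1, h2⟩ := hCb f hf hfE
    have h3 : 2 ^ j ≤ 4 * Nat.card ↥(F ⊓ E) := by
      rw [← heq, mul_comm 4]; exact Nat.mul_le_mul_left _ hrr
    have h16 : 2 ^ j ≤ 16 := by
      by_contra hlt
      have h4 : 2 ^ j * 2 ^ j ≤ (4 * Nat.card ↥(centralizer ({f} : Set G) ⊓ E)) *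
          (4 * Nat.card ↥(centralizer ({f} : Set G) ⊓ E)) :=
        Nat.mul_le_mul (h3.trans (Nat.mul_le_mul_left _ h1)) (h3.trans (Nat.mul_le_mul_left _ h1))
      have h5 : 2 ^ j * 2 ^ j ≤ 16 * 2 ^ j := h4.trans (by
        calc _ = 16 * (Nat.card ↥(centralizer ({f} : Set G) ⊓ E) * Nat.card ↥(centralizer ({f} : Set G) ⊓ E)) := by ring
          _ ≤ _ := Nat.mul_le_mul_left _ h2)
      have := Nat.le_of_mul_le_mul_right h5 (by positivity)
      omega
    have hj' : j = 4 := by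
      have : j ≤ 4 := (Nat.pow_le_pow_iff_right (by norm_num)).mp (h16.trans (by norm_num))
      omega
    rw [hj'] at heq h2 h3
    simp only [Nat.reducePow] at heq h2 h3
    have hle4 : ∀ x : ℕ, x * x ≤ 16 → x ≤ 4 := fun x hx => by
      by_contra h0
      have := Nat.mul_le_mul (show 5 ≤ x by omega) (show 5 ≤ x by omega)
      omega
    have hI : Nat.card ↥(F ⊓ E) = 4 := le_antisymm (h1.trans (hle4 _ h2)) (by omega)
    have hR : r.range = W := eq_of_le_of_card_ge hrW (by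
      rw [hI] at heq
      have hW4 : Nat.card W = 4 := InvChar.SelfThree.FiveData.card_fourSub 3 (Or.inl rfl)
      omega)
    refine ⟨hj', fun w hw => ?_, fun b hb hbE a ha hab => ?_, hI⟩
    · have hwM := hTM hw
      obtain ⟨b, hb⟩ := (hR.symm ▸ (hmemT w hwM).mp hw : π ⟨w, hwM⟩ ∈ r.range)
      refine ⟨w * (b : G)⁻¹, (hmemE _ (mul_mem hwM (inv_mem (hFM b.2)))).mpr ?_, b, b.2, by group⟩
      rw [show (⟨w * (b : G)⁻¹, mul_mem hwM (inv_mem (hFM b.2))⟩ : ↥M) =
        ⟨w, hwM⟩ * (⟨(b : G), hFM b.2⟩ : ↥M)⁻¹ from rfl, map_mul, map_inv, mul_inv_eq_one]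
      exact hb.symm
    · obtain ⟨k1, k2⟩ := hCb b hb hbE
      have hle : F ⊓ E ≤ centralizer ({b} : Set G) ⊓ E :=
        fun a ha => ⟨mem_centralizer_singleton_iff.mpr (hFc a ha.1 b hb), ha.2⟩
      rw [hj'] at k2
      have heq' := eq_of_le_of_card_ge hle (by rw [hI]; exact hle4 _ (k2.trans (by norm_num)))
      exact (heq'.symm ▸ (⟨mem_centralizer_singleton_iff.mpr hab, ha⟩ : a ∈ centralizer ({b} : Set G) ⊓ E) : a ∈ F ⊓ E).1
  -- `T` is a Sylow subgroup
  obtain ⟨S, hTS⟩ := hTp.exists_le_sylow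
  have hST : (S : Subgroup G) = T := by
    by_contra hne
    haveI : Group.IsNilpotent ↥(S : Subgroup G) := S.2.isNilpotent
    have hlt : T.subgroupOf (S : Subgroup G) < ⊤ := by
      rw [lt_top_iff_ne_top, Ne, subgroupOf_eq_top]
      exact fun hle => hne (le_antisymm hle hTS)
    obtain ⟨g₀, hg₀, hg₀'⟩ := Set.exists_of_ssubset (Group.normalizerCondition_of_isNilpotent _ hlt)
    obtain ⟨y, hyS, hyN, hyT, hy2⟩ : ∃ g : G, g ∈ (S : Subgroup G) ∧
        g ∈ normalizer (T : Set G) ∧ g ∉ T ∧ g * g ∈ T := by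
      have hN : (g₀ : G) ∈ normalizer (T : Set G) := by
        refine InvChar.SelfThree.mem_normalizer_of_forall fun x hx => ?_
        exact ((mem_normalizer_iff.mp hg₀) ⟨x, hTS hx⟩).mp hx
      by_cases h2 : (g₀ : G) * g₀ ∈ T
      · exact ⟨g₀, g₀.2, hN, hg₀', h2⟩
      · refine ⟨g₀ * g₀, mul_mem g₀.2 g₀.2, mul_mem hN hN, h2, ?_⟩
        have h4 := orderOf_two_power h (x := (g₀ : G)) (S.2.to_le (zpowers_le.mpr g₀.2))
        rw [show (g₀ : G) * g₀ * (g₀ * g₀) = (g₀ : G) ^ 4 by simp [pow_succ, mul_assoc], h4]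
        exact one_mem _
    have hyM : y ∉ M := fun hyM => by
      obtain ⟨k, hk⟩ := IsPGroup.iff_card.mp (S.2.to_le (sup_le hTS (zpowers_le.mpr hyS)))
      have h1 : 2 ^ k ∣ 2 ^ j * 60 := hMcard ▸ hk ▸ card_dvd_of_le (sup_le hTM (zpowers_le.mpr hyM))
      rw [show 2 ^ j * 60 = 2 ^ (j + 2) * 15 by rw [pow_add]; ring] at h1
      have h2 : 2 ^ k ∣ 2 ^ (j + 2) := ((show Nat.Coprime 2 15 by norm_num).pow_left k).dvd_of_dvd_mul_right h1
      have h3 : T = T ⊔ zpowers y := eq_of_le_of_card_ge le_sup_left (by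
        rw [hTcard, hk]; exact Nat.le_of_dvd (by positivity) h2)
      exact hyT (h3.symm ▸ mem_sup_right (mem_zpowers y))
    set F := E.map (MulAut.conj y).toMonoidHom with hF
    have hyTconj : ∀ x ∈ T, y * x * y⁻¹ ∈ T := fun x hx => (mem_normalizer_iff.mp hyN x).mp hx
    have hFT : F ≤ T := by
      rintro _ ⟨a, ha, rfl⟩
      exact hyTconj a (hET ha)
    have hFne : F ≠ E := fun e => hyM (hNE ▸ InvChar.SelfThree.mem_normalizer_of_forall fun a ha =>
      e ▸ (⟨a, ha, rfl⟩ : (MulAut.conj y).toMonoidHom a ∈ F))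
    obtain ⟨hj', hprod, hcomm, hI⟩ := hsecond y hFT hFne
    have hFc : ∀ a ∈ F, ∀ b ∈ F, a * b = b * a := by
      rintro _ ⟨a, ha, rfl⟩ _ ⟨b, hb, rfl⟩
      rw [← map_mul, hEc a ha b hb, map_mul]
    have hFsq : ∀ a ∈ F, a * a = 1 := by
      rintro _ ⟨a, ha, rfl⟩
      rw [← map_mul, hEsq a ha, map_one]
    have hFnorm : ∀ w ∈ T, ∀ b ∈ F, w * b * w⁻¹ ∈ F := by
      rintro w hw _ ⟨a, ha, rfl⟩
      have hw' : y⁻¹ * w * y ∈ T := by
        have h1 := (mem_normalizer_iff.mp ((normalizer (T : Set G)).inv_mem hyN) w).mp hw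
        rwa [inv_inv] at h1
      refine ⟨(y⁻¹ * w * y) * a * (y⁻¹ * w * y)⁻¹, hME _ (hTM hw') a ha, ?_⟩
      simp only [MulEquiv.coe_toMonoidHom, MulAut.conj_apply]
      group
    have hcI : ∀ c ∈ F ⊓ E, ∀ w ∈ T, c * w = w * c := by
      intro c hc w hw
      obtain ⟨a, ha, b, hb, rfl⟩ := hprod w hw
      calc c * (a * b) = (c * a) * b := by group
        _ = a * (c * b) := by rw [hEc c hc.2 a ha]; group
        _ = a * b * c := by rw [hFc c hc.1 b hb]; group
    have hcommI : ∀ a ∈ E, ∀ b ∈ F, b * a * b⁻¹ * a⁻¹ ∈ F ⊓ E := fun a ha b hb => by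
      refine ⟨?_, E.mul_mem (hME b (hTM (hFT hb)) a ha) (E.inv_mem ha)⟩
      have : b * a * b⁻¹ * a⁻¹ = b * (a * b⁻¹ * a⁻¹) := by group
      rw [this]
      exact F.mul_mem hb (hFnorm a (hET ha) _ (F.inv_mem hb))
    obtain ⟨e₀, he₀, f₀, hf₀, hy2'⟩ := hprod (y * y) hy2
    -- choose the element
    obtain ⟨e, he, he1, hf1⟩ : ∃ e ∈ E, e₀ * e ∉ F ⊓ E ∧ y * e * y⁻¹ * f₀ ∉ F ⊓ E := by
      by_contra hc
      push Not at hc
      let q : ↥E → ↥(F ⊓ E) ⊕ ↥(F ⊓ E) := fun a =>
        if ha : e₀ * (a : G) ∈ F ⊓ E then Sum.inl ⟨_, ha⟩ else Sum.inr ⟨_, hc a a.2 ha⟩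
      have hq : Function.Injective q := fun a b hab => by
        by_cases ha : e₀ * (a : G) ∈ F ⊓ E <;> by_cases hb : e₀ * (b : G) ∈ F ⊓ E <;>
          simp only [q, ha, hb, dif_pos, dif_neg, not_false_eq_true, Sum.inl.injEq, Sum.inr.injEq,
            reduceCtorEq, Subtype.mk.injEq, mul_right_inj, mul_left_inj] at hab
        · exact Subtype.ext hab
        · exact Subtype.ext hab
      have h1 := Nat.card_le_card_of_injective q hq
      rw [Nat.card_sum, hI, hj, hj'] at h1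
      norm_num at h1
    have hf₁ : y * e * y⁻¹ ∈ F := ⟨e, he, rfl⟩
    set f₁ := y * e * y⁻¹
    set E' := e₀ * e with hE'
    set F' := f₁ * f₀ with hF'
    have hEE : E' ∈ E := mul_mem he₀ he
    have hFF : F' ∈ F := mul_mem hf₁ hf₀
    set c := f₁ * e₀ * f₁⁻¹ * e₀⁻¹ with hc_def
    set c' := F' * e * F'⁻¹ * e⁻¹ with hc'_def
    have hc := hcommI e₀ he₀ f₁ hf₁
    have hc' := hcommI e he F' hFF
    have hEE' : E' ∉ F ⊓ E := he1
    have hFF' : F' ∉ F ⊓ E := hf1
    have hz : y * e * (y * e) = c * c' * (E' * F') := by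
      calc y * e * (y * e) = f₁ * (y * y) * e := by simp only [f₁]; group
        _ = f₁ * (e₀ * f₀) * e := by rw [hy2']
        _ = c * (e₀ * (c' * (e * F'))) := by rw [hc_def, hc'_def, hF']; group
        _ = c * ((e₀ * c') * (e * F')) := by group
        _ = c * ((c' * e₀) * (e * F')) := by rw [hcI c' hc' e₀ (hET he₀)]
        _ = c * c' * (E' * F') := by rw [hE']; group
    have h4 := orderOf_two_power h (x := y * e) (S.2.to_le (zpowers_le.mpr (mul_mem hyS (hTS (hET he)))))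
    rw [show (y * e) ^ 4 = (y * e * (y * e)) * (y * e * (y * e)) by simp [pow_succ, mul_assoc], hz] at h4
    set d := c * c' with hd
    have hdI : d ∈ F ⊓ E := mul_mem hc hc'
    set w := E' * F' with hwdef
    have hwT : w ∈ T := mul_mem (hET hEE) (hFT hFF)
    have hww : w * w = 1 := by
      calc w * w = d * d * (w * w) := by rw [hEsq d hdI.2, one_mul]
        _ = d * (d * w) * w := by group
        _ = d * (w * d) * w := by rw [hcI d hdI w hwT]
        _ = 1 := by rw [← h4]; group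
    have hcom : E' * F' = F' * E' := by
      calc E' * F' = w⁻¹ := (inv_eq_of_mul_eq_one_right hww).symm
        _ = F' * E' := by
          rw [hwdef, mul_inv_rev, inv_eq_of_mul_eq_one_right (hFsq _ hFF), hinvE _ hEE]
    exact hEE' ⟨hcomm F' hFF (fun hFE => hFF' ⟨hFF, hFE⟩) E' hEE hcom, hEE⟩
  have hScard : Nat.card (S : Subgroup G) = 2 ^ (j + 2) := by rw [hST, hTcard]
  by_cases hj' : j = 4
  · exact false_of_sylow_sixty_four h hns h9 S (by rw [hScard, hj']; norm_num)
  have hj8 : 8 ≤ j := by omega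
  -- every `2`-subgroup containing `E` lies in `M`
  have hover : ∀ R : Subgroup G, IsPGroup 2 ↥R → E ≤ R → R ≤ M := by
    intro R hR hER
    obtain ⟨R', hR'⟩ := hR.exists_le_sylow
    obtain ⟨g, hg⟩ := MulAction.exists_smul_eq G R' S
    have hmap : ∀ x ∈ (R' : Subgroup G), g * x * g⁻¹ ∈ T := fun x hx => by
      rw [← hST, ← hg]
      exact ⟨x, hx, rfl⟩
    have hFT : E.map (MulAut.conj g).toMonoidHom ≤ T := by
      rintro _ ⟨a, ha, rfl⟩
      exact hmap a (hR' (hER ha))
    have hFE : E.map (MulAut.conj g).toMonoidHom = E := by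
      by_contra hne
      exact hj' (hsecond g hFT hne).1
    have hgM : g ∈ M := hNE ▸ InvChar.SelfThree.mem_normalizer_of_forall fun a ha =>
      hFE ▸ (⟨a, ha, rfl⟩ : (MulAut.conj g).toMonoidHom a ∈ E.map (MulAut.conj g).toMonoidHom)
    intro x hx
    have := mul_mem (mul_mem (inv_mem hgM) (hTM (hmap x (hR' hx)))) hgM
    rwa [show g⁻¹ * (g * x * g⁻¹) * g = x by group] at this
  -- an element of `E` with centraliser `E`
  let ι := {s : ↥(alternatingGroup (Fin 5)) // s * s = 1 ∧ s ≠ 1}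
  choose lift hliftπ using fun s : ι => hπ s.1
  let C : ι → Subgroup G := fun s => centralizer ({((lift s : ↥M) : G)} : Set G) ⊓ E
  obtain ⟨i, hi⟩ : ∃ i, j = 4 * i := hj4
  have hCle : ∀ s, Nat.card (C s) ≤ 2 ^ (2 * i) := fun s => by
    have h1 := hbound _ (lift s).2 (by
      show π (lift s) * π (lift s) = 1
      rw [hliftπ]; exact s.2.1) (by
      show π (lift s) ≠ 1
      rw [hliftπ]; exact s.2.2)
    rw [show j = 2 * i + 2 * i by omega, pow_add] at h1
    by_contra hlt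
    have := Nat.mul_lt_mul'' (Nat.not_le.mp hlt) (Nat.not_le.mp hlt)
    exact absurd h1 (Nat.not_le.mpr this)
  obtain ⟨e, heE, heC⟩ : ∃ e ∈ E, ∀ s, e ∉ C s := by
    by_contra hc
    push Not at hc
    choose f hf using fun a : ↥E => hc a a.2
    have h1 := Nat.card_le_card_of_injective (fun a : ↥E => (⟨f a, ⟨(a : G), hf a⟩⟩ : Σ s, ↥(C s)))
      (fun a b hab => Subtype.ext (congrArg (fun z : Σ s, ↥(C s) => (z.2 : G)) hab))
    haveI := Fintype.ofFinite ι
    rw [Nat.card_sigma, hj] at h1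
    have h2 : ∑ s, Nat.card (C s) ≤ 15 * 2 ^ (2 * i) := by
      refine (Finset.sum_le_card_nsmul _ _ _ fun s _ => hCle s).trans (le_of_eq ?_)
      rw [smul_eq_mul, Finset.card_univ, ← Nat.card_eq_fintype_card, A5_card_invol]
    have h3 : 15 * 2 ^ (2 * i) < 2 ^ j := by
      rw [show j = 2 * i + 2 * i by omega, pow_add]
      refine Nat.mul_lt_mul_of_pos_right ?_ (by positivity)
      calc 15 < 2 ^ 4 := by norm_num
        _ ≤ 2 ^ (2 * i) := Nat.pow_le_pow_right two_pos (by omega)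
    omega
  have he1 : e ≠ 1 := fun e1 => by
    obtain ⟨s, hs, hs1⟩ : ∃ s : ↥(alternatingGroup (Fin 5)), s * s = 1 ∧ s ≠ 1 := by
      obtain ⟨s, hs⟩ := exists_prime_orderOf_dvd_card' (G := ↥(alternatingGroup (Fin 5))) 2 (by rw [hA]; norm_num)
      exact ⟨s, invol_mul_self hs, invol_ne_one hs⟩
    exact heC ⟨s, hs, hs1⟩ (e1 ▸ one_mem _)
  have heo : orderOf e = 2 := orderOf_eq_two_of_mul_self (hEsq e heE) he1
  have hECe : ∀ k ∈ E, E ≤ centralizer ({k} : Set G) := fun k hk a ha =>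
    mem_centralizer_singleton_iff.mpr (hEc a ha k hk)
  have hCe : centralizer ({e} : Set G) = E := by
    refine le_antisymm (fun g hg => ?_) (hECe e heE)
    have hgM : g ∈ M := hover _ (centralizer_isPGroup h Nat.prime_two heo) (hECe e heE) hg
    by_contra hgE
    have hp1 : π ⟨g, hgM⟩ ≠ 1 := fun e' => hgE ((hmemE g hgM).mpr e')
    have hp2 : π ⟨g, hgM⟩ * π ⟨g, hgM⟩ = 1 := by
      have h4 : g ^ 4 = 1 := orderOf_two_power h
        ((centralizer_isPGroup h Nat.prime_two heo).to_le (zpowers_le.mpr hg))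
      have h1 : orderOf (π ⟨g, hgM⟩) ∣ 2 ^ 2 := orderOf_dvd_of_pow_eq_one (by
        rw [← map_pow, show (⟨g, hgM⟩ : ↥M) ^ 2 ^ 2 = 1 from Subtype.ext (by simpa using h4), map_one])
      obtain ⟨l, hl, hl'⟩ := (Nat.dvd_prime_pow Nat.prime_two).mp h1
      have hl2 : l ≠ 2 := fun e => A5_no_four _ (by rw [hl', e]; norm_num)
      rw [← sq]
      apply orderOf_dvd_iff_pow_eq_one.mp
      rw [hl']
      exact (pow_dvd_pow 2 (show l ≤ 1 by omega)).trans (by rw [pow_one])
    set s : ι := ⟨π ⟨g, hgM⟩, hp2, hp1⟩ with hs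
    have hdiff : g * ((lift s : ↥M) : G)⁻¹ ∈ E := by
      refine (hmemE _ (mul_mem hgM (inv_mem (lift s).2))).mpr ?_
      rw [show (⟨g * ((lift s : ↥M) : G)⁻¹, mul_mem hgM (inv_mem (lift s).2)⟩ : ↥M) = ⟨g, hgM⟩ * (lift s)⁻¹ from rfl,
        map_mul, map_inv, hliftπ s]
      exact mul_inv_cancel _
    refine heC s ⟨mem_centralizer_singleton_iff.mpr ?_, heE⟩
    set a := g * ((lift s : ↥M) : G)⁻¹ with hadef
    have hge : g * e = e * g := mem_centralizer_singleton_iff.mp hg
    have hae : a⁻¹ * e = e * a⁻¹ := hEc _ (inv_mem hdiff) e heE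
    have hls : ((lift s : ↥M) : G) = a⁻¹ * g := by rw [hadef]; group
    rw [hls]
    calc e * (a⁻¹ * g) = e * a⁻¹ * g := (mul_assoc _ _ _).symm
      _ = a⁻¹ * (e * g) := by rw [← hae]; group
      _ = a⁻¹ * g * e := by rw [← hge]; group
  -- a central involution of `T`
  haveI : Nontrivial ↥T := Finite.one_lt_card_iff_nontrivial.mp (by
    rw [hTcard]; exact Nat.one_lt_two_pow (by omega))
  haveI := hTp.center_nontrivial
  obtain ⟨⟨⟨z, hzT⟩, hzc⟩, hz⟩ := exists_prime_orderOf_dvd_card' (G := center ↥T) 2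
    ((hTp.to_subgroup _).card_eq_or_dvd.resolve_left (by have := Finite.one_lt_card (α := center ↥T); omega))
  have hzo : orderOf z = 2 := by rw [← hz, ← Subgroup.orderOf_coe, ← Subgroup.orderOf_coe]
  have hCz : T ≤ centralizer ({z} : Set G) := fun w hw =>
    mem_centralizer_singleton_iff.mpr (congrArg Subtype.val (mem_center_iff.mp hzc ⟨w, hw⟩))
  have hnc : ∀ g : G, ¬ IsConj e (g * z * g⁻¹) := by
    intro g hconj
    obtain ⟨a, ha⟩ := isConj_iff.1 hconj
    have hle : T.map (MulAut.conj (a⁻¹ * g)).toMonoidHom ≤ centralizer ({e} : Set G) := by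
      rintro _ ⟨w, hw, rfl⟩
      have hwz := mem_centralizer_singleton_iff.mp (hCz hw)
      have he' : e = (a⁻¹ * g) * z * (a⁻¹ * g)⁻¹ := by
        calc e = a⁻¹ * (a * e * a⁻¹) * a := by group
          _ = _ := by rw [ha]; group
      rw [mem_centralizer_singleton_iff, he', MulEquiv.coe_toMonoidHom, MulAut.conj_apply]
      calc a⁻¹ * g * w * (a⁻¹ * g)⁻¹ * (a⁻¹ * g * z * (a⁻¹ * g)⁻¹) = a⁻¹ * g * (w * z) * (a⁻¹ * g)⁻¹ := by group
        _ = _ := by rw [hwz]; group
    rw [hCe] at hle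
    have h1 := Subgroup.card_le_of_le hle
    rw [card_map_of_injective (MulAut.conj _).injective, hTcard, hj] at h1
    have := (Nat.pow_le_pow_iff_right (by norm_num)).mp h1
    omega
  have hallM : ∀ g : G, g * z * g⁻¹ ∈ M := by
    intro g
    have hzg : orderOf (g * z * g⁻¹) = 2 := by rw [orderOf_conj_eq]; exact hzo
    have heven : Even (orderOf (e * (g * z * g⁻¹))) :=
      (Nat.even_or_odd _).resolve_right fun ho => hnc g (isConj_of_odd heo hzg ho)
    obtain ⟨hko, hke, hkz⟩ := central_invol heo hzg heven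
    set k := (e * (g * z * g⁻¹)) ^ (orderOf (e * (g * z * g⁻¹)) / 2)
    have hkE : k ∈ E := hCe ▸ mem_centralizer_singleton_iff.mpr hke.eq
    exact hover _ (centralizer_isPGroup h Nat.prime_two hko) (hECe k hkE)
      (mem_centralizer_singleton_iff.mpr hkz.eq.symm)
  rcases (inferInstance : (Subgroup.normalClosure ({z} : Set G)).Normal).eq_bot_or_eq_top with e' | e'
  · have hzm : z ∈ (⊥ : Subgroup G) := e' ▸ subset_normalClosure rfl
    exact invol_ne_one hzo (mem_bot.mp hzm)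
  · have hle : Subgroup.normalClosure ({z} : Set G) ≤ M := by
      refine (closure_le M).mpr ?_
      intro x hx
      obtain ⟨z', hz', hconj⟩ := Group.mem_conjugatesOfSet_iff.mp hx
      obtain ⟨g, rfl⟩ := isConj_iff.1 hconj
      rw [Set.mem_singleton_iff] at hz'
      exact hz' ▸ hallM g
    rw [e', top_le_iff] at hle
    -- then `E` would be normal in `G`
    have hEn : E.Normal := normalizer_eq_top_iff.mp (hNE.trans hle)
    rcases hEn.eq_bot_or_eq_top with h0 | h0
    · exact hEne h0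
    · apply hns
      haveI : Group.IsNilpotent G := (IsPGroup.of_equiv (h0 ▸ hEp) Subgroup.topEquiv).isNilpotent
      infer_instance

end Cfsg.Agent.Lib.InvChar.OrdersFive
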