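import Cfsg.Agent.Lib.InvChar.OrdersFive.Simple

/-!
Minimal groups with element orders `1, 2, 3, 4, 5`.
-/

set_option autoImplicit false
set_option linter.unusedSectionVars false
set_option linter.style.haveILetI false

namespace Cfsg.Agent.Lib.InvChar.OrdersFive

open Subgroup

universe u

variable {G : Type u} [Group G] [Finite G]

theorem not_nine_of_no_solvable (h : Full G)
    (hsolv : ∀ V : Subgroup G, V.Normal → Group.IsSolvable ↥V → V = ⊥) : 9 ∣ Nat.card G := by
  by_contra h9
  obtain ⟨N, hN, hNe, ⟨e⟩⟩ := selfThree_case h h9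
  haveI := hN
  haveI : Fact (Nat.Prime 2) := ⟨Nat.prime_two⟩
  haveI : Group.IsNilpotent ↥N := (isPGroup_of_pow hNe.2).isNilpotent
  have hN1 : N = ⊥ := hsolv N hN inferInstance
  subst hN1
  obtain ⟨x, hx⟩ := h.four
  refine A5_no_four (e (QuotientGroup.mk x)) ?_
  rw [MulEquiv.orderOf_eq, ← hx]
  exact (MulEquiv.orderOf_eq (QuotientGroup.quotientBot (G := G)).symm x)

theorem twoLocal_solvable_of_no_four (h : Five G) {T : Subgroup G} (hT : IsPGroup 2 T) (hT1 : T ≠ ⊥)
    (h4 : ∀ g ∈ normalizer (T : Set G), orderOf g ≠ 4) : Group.IsSolvable ↥(normalizer (T : Set G)) := by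
  haveI : Fact (Nat.Prime 2) := ⟨Nat.prime_two⟩
  set N := normalizer (T : Set G) with hNdef
  have hN : Five ↥N := h.subgroup N
  set V := T.subgroupOf N with hV
  haveI hVn : V.Normal := normal_in_normalizer
  have hVp : IsPGroup 2 ↥V := hT.comap_subtype
  obtain ⟨S, hVS⟩ := hVp.exists_le_sylow
  have hexp : ∀ x ∈ (S : Subgroup ↥N), x * x = 1 := by
    intro x hx
    obtain ⟨j, hj, hj'⟩ := (Nat.dvd_prime_pow Nat.prime_two).mp
      (show orderOf x ∣ 2 ^ 2 from orderOf_dvd_of_pow_eq_one
        (orderOf_two_power hN (S.2.to_le (zpowers_le.mpr hx))))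
    have hj2 : j ≠ 2 := fun e => h4 (x : G) x.2 (by rw [Subgroup.orderOf_coe, hj', e]; norm_num)
    rw [← sq]
    apply orderOf_dvd_iff_pow_eq_one.mp
    rw [hj']
    exact (pow_dvd_pow 2 (show j ≤ 1 by omega)).trans (by rw [pow_one])
  obtain ⟨t, ht, ht1⟩ : ∃ t ∈ V, t ≠ 1 := V.bot_or_exists_ne_one.resolve_left fun e => hT1 (by
    rw [hV, subgroupOf_eq_bot, disjoint_iff, inf_eq_left.mpr le_normalizer] at e
    exact e)
  have hto : orderOf t = 2 := Involutions.orderOf_eq_two_of_mul_self (hexp t (hVS ht)) ht1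
  have hC : IsPGroup 2 ↥(centralizer (V : Set ↥N)) :=
    (centralizer_isPGroup hN Nat.prime_two hto).to_le (centralizer_le (by simpa using ht))
  have hSC : (S : Subgroup ↥N) ≤ centralizer (V : Set ↥N) := fun s hs v hv => by
    have e := hexp _ (mul_mem (hVS hv) hs)
    calc v * s = (v * s)⁻¹ := (inv_eq_of_mul_eq_one_right e).symm
      _ = s * v := by rw [mul_inv_rev, inv_eq_of_mul_eq_one_right (hexp v (hVS hv)), inv_eq_of_mul_eq_one_right (hexp s hs)]
  have hS : (S : Subgroup ↥N).Normal := by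
    rw [← S.is_maximal' hC hSC]
    exact inferInstance
  haveI : Group.IsNilpotent ↥(S : Subgroup ↥N) := S.2.isNilpotent
  haveI : Group.IsSolvable (↥N ⧸ (S : Subgroup ↥N)) :=
    solvable_of_two_primes (hN.of_surjective (QuotientGroup.mk' (S : Subgroup ↥N)) (QuotientGroup.mk'_surjective _))
      (Or.inl rfl) (by rw [← Subgroup.index_eq_card]; exact S.not_dvd_index)
  exact Group.isSolvable_of_ker_le_range (S : Subgroup ↥N).subtype (QuotientGroup.mk' (S : Subgroup ↥N))
    (by rw [QuotientGroup.ker_mk', Subgroup.range_subtype])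

/-- A group with the element orders `1, …, 5` none of whose proper subgroups has them. -/
theorem classify_of (h : Full G) (hsub : ∀ H : Subgroup G, H ≠ ⊤ → ¬ Full ↥H) :
    HasType G ∨ Nonempty (G ≃* ↥(alternatingGroup (Fin 6))) := by
  rcases hasType_or_no_solvable h with ht | hsolv
  · exact Or.inl ht
  right
  have h9 := not_nine_of_no_solvable h hsolv
  have hns := h.not_solvable
  haveI : Nontrivial G := by
    obtain ⟨x, hx⟩ := h.three
    exact ⟨x, 1, fun e => by rw [e, orderOf_one] at hx; omega⟩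
  haveI : IsSimpleGroup G := ⟨fun T hT => by
    by_cases hT1 : T = ⊥
    · exact Or.inl hT1
    · exact Or.inr (by_contra fun hne => hsub T hne (normal_full h h9 hsolv hT hT1))⟩
  refine equiv_A6 h h9 ?_ ?_
  · rintro N ⟨T, hT, hT1, rfl⟩
    by_contra hN
    have hne : normalizer (T : Set G) ≠ ⊤ := fun e => by
      rcases (normalizer_eq_top_iff.mp e).eq_bot_or_eq_top with h0 | h0
      · exact hT1 h0
      · apply hns
        haveI : Group.IsNilpotent G := (IsPGroup.of_equiv (h0 ▸ hT) Subgroup.topEquiv).isNilpotent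
        infer_instance
    by_cases h4 : ∀ g ∈ normalizer (T : Set G), orderOf g ≠ 4
    · exact hN (twoLocal_solvable_of_no_four h.five hT hT1 h4)
    · push Not at h4
      obtain ⟨g, hg, hg4⟩ := h4
      exact hsub _ hne (full_of_not_solvable (h.five.subgroup _) hN ⟨⟨g, hg⟩, by rw [Subgroup.orderOf_mk, hg4]⟩)
  · intro K hK
    by_contra hKs
    obtain ⟨x, hx⟩ := h.four
    obtain ⟨t, ht⟩ := Involutions.exists_invol_of_even (G := K) hK.2.1
    have hto : orderOf (t : G) = 2 := by rw [Subgroup.orderOf_coe, ht]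
    have hx2 : orderOf (x ^ 2) = 2 := by rw [orderOf_pow, hx]; rfl
    obtain ⟨g, hg⟩ := isConj_iff.1 (Involutions.se_all_conj hK hx2 hto)
    have hgx : g * x * g⁻¹ ∈ K := Involutions.mem_of_conj_mem hK hto t.2 (by
      have : g * x * g⁻¹ * (t : G) * (g * x * g⁻¹)⁻¹ = (t : G) := by rw [← hg]; group
      rw [this]; exact t.2)
    exact hsub K hK.1 (full_of_not_solvable (h.five.subgroup _) hKs
      ⟨⟨_, hgx⟩, by rw [Subgroup.orderOf_mk, ← MulAut.conj_apply g x, MulEquiv.orderOf_eq, hx]⟩)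

end Cfsg.Agent.Lib.InvChar.OrdersFive
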