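import Cfsg.Agent.Lib.InvChar.OrdersFive.Basic
import Cfsg.Agent.Lib.Involutions.SEAction
import Cfsg.Agent.S3277

/-!
Groups with element orders `1, 2, 3, 5` only.
-/

set_option autoImplicit false
set_option linter.unusedSectionVars false
set_option linter.style.haveILetI false

namespace Cfsg.Agent.Lib.InvChar.OrdersFive

open Subgroup Cfsg.Agent.Lib.Involutions
open scoped Pointwise

universe u

variable {G : Type u} [Group G] [Finite G]

/-- A `p`-element acting fixed-point-freely: the order is congruent to one. -/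
theorem card_modEq_one (h : Five G) {a : G} {p : ℕ} [hp : Fact p.Prime] (ha : orderOf a = p)
    {V : Subgroup G} (haV : a ∈ normalizer (V : Set G)) (hV : ¬ p ∣ Nat.card V) :
    Nat.card V ≡ 1 [MOD p] := by
  letI : MulAction ↥(zpowers a) ↥V :=
    { smul := fun g v => ⟨(g : G) * v * (g : G)⁻¹,
        (mem_normalizer_iff.mp (zpowers_le.mpr haV g.2) _).mp v.2⟩
      one_smul := fun v => Subtype.ext (show ((1 : ↥(zpowers a)) : G) * (v : G) * ((1 : ↥(zpowers a)) : G)⁻¹ = v by simp)
      mul_smul := fun g g' v => Subtype.ext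
        (show ((g * g' : ↥(zpowers a)) : G) * (v : G) * ((g * g' : ↥(zpowers a)) : G)⁻¹ =
          (g : G) * ((g' : G) * v * (g' : G)⁻¹) * (g : G)⁻¹ by rw [Subgroup.coe_mul]; group) }
  have hP : IsPGroup p ↥(zpowers a) := IsPGroup.of_card (n := 1) (by rw [Nat.card_zpowers, ha, pow_one])
  have h1 := hP.card_modEq_card_fixedPoints ↥V
  have h2 : Nat.card (MulAction.fixedPoints ↥(zpowers a) ↥V) = 1 := by
    rw [Nat.card_eq_one_iff_unique]
    refine ⟨⟨fun u v => ?_⟩, ⟨⟨1, fun g => Subtype.ext (show (g : G) * ((1 : ↥V) : G) * (g : G)⁻¹ = (1 : ↥V) by simp)⟩⟩⟩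
    have key : ∀ w : MulAction.fixedPoints ↥(zpowers a) ↥V, (w.1 : G) = 1 := by
      intro w
      by_contra hw
      have h3 : a * (w.1 : G) * a⁻¹ = w.1 := congrArg Subtype.val (w.2 ⟨a, mem_zpowers a⟩)
      refine not_commute h (a := a) (b := (w.1 : G))
        (fun e => by rw [e, orderOf_one] at ha; exact hp.out.ne_one ha.symm) hw ?_
        (mul_inv_eq_iff_eq_mul.mp h3)
      rw [ha]
      exact (hp.out.coprime_iff_not_dvd.mpr hV).coprime_dvd_right (V.orderOf_dvd_natCard w.1.2)
    exact Subtype.ext (Subtype.ext ((key u).trans (key v).symm))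
  rwa [h2] at h1

theorem no_order_fifteen (h : Five G) (hc : Nat.card G = 15) : False := by
  haveI : Fact (Nat.Prime 5) := ⟨Nat.prime_five⟩
  haveI : Fact (Nat.Prime 3) := ⟨Nat.prime_three⟩
  let P : Sylow 5 G := default
  have hP : Nat.card P = 5 := by
    rw [Sylow.card_eq_multiplicity, hc]
    rw [show (15 : ℕ) = 5 * 3 by norm_num, Nat.factorization_mul (by norm_num) (by norm_num),
      Nat.prime_five.factorization, Nat.prime_three.factorization]
    simp
  have h1 : (P : Subgroup G).index = 3 := by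
    have := (P : Subgroup G).card_mul_index
    change Nat.card (P : Subgroup G) = 5 at hP
    rw [hP, hc] at this
    omega
  have h2 : (P : Subgroup G).Normal := by
    have h3 := P.card_dvd_index
    rw [h1] at h3
    have h4 := card_sylow_modEq_one 5 G
    rcases (Nat.dvd_prime Nat.prime_three).mp h3 with e | e <;> rw [e] at h4
    · haveI : Subsingleton (Sylow 5 G) := (Nat.card_eq_one_iff_unique.mp e).1
      exact P.normal_of_subsingleton
    · exact absurd h4 (by decide)
  obtain ⟨a, ha⟩ := exists_prime_orderOf_dvd_card' (G := G) 3 (by rw [hc]; norm_num)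
  have h5 := card_modEq_one h ha (V := P) (by rw [Subgroup.normalizer_eq_top]; exact mem_top a)
    (by change ¬ 3 ∣ Nat.card P; rw [hP]; norm_num)
  rw [show Nat.card (P : Subgroup G) = 5 from hP] at h5
  exact absurd h5 (by decide)

/-- A nonsolvable group without elements of order four and without normal `2`-subgroups is `A₅`. -/
theorem equiv_A5 (h : Five G) (h4 : ∀ g : G, orderOf g ≠ 4) (hns : ¬ Group.IsSolvable G)
    (h2 : ∀ V : Subgroup G, V.Normal → IsPGroup 2 V → V = ⊥) :
    Nonempty (G ≃* ↥(alternatingGroup (Fin 5))) := by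
  haveI : Fact (Nat.Prime 2) := ⟨Nat.prime_two⟩
  obtain ⟨E, hE⟩ : ∃ E : Subgroup G, IsKleinFour E := by
    by_contra hc
    push Not at hc
    exact hns (solvable_of_rank_one h hc)
  have hE2 : IsPGroup 2 ↥E := IsPGroup.of_card (n := 2) (by haveI := hE; rw [IsKleinFour.card_four]; norm_num)
  obtain ⟨S, hES⟩ := hE2.exists_le_sylow
  have hexp : ∀ x ∈ (S : Subgroup G), x * x = 1 := by
    intro x hx
    obtain ⟨j, hj, hj'⟩ := (Nat.dvd_prime_pow Nat.prime_two).mp
      (show orderOf x ∣ 2 ^ 2 from orderOf_dvd_of_pow_eq_one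
        (orderOf_two_power h (S.2.to_le (zpowers_le.mpr hx))))
    have hj2 : j ≠ 2 := fun e => h4 x (by rw [hj', e]; norm_num)
    rw [← sq]
    apply orderOf_dvd_iff_pow_eq_one.mp
    rw [hj']
    exact (pow_dvd_pow 2 (show j ≤ 1 by omega)).trans (by rw [pow_one])
  have hcomm : ∀ x ∈ (S : Subgroup G), ∀ y ∈ (S : Subgroup G), x * y = y * x := fun x hx y hy => by
    have e := hexp _ (mul_mem hx hy)
    calc x * y = (x * y)⁻¹ := (inv_eq_of_mul_eq_one_right e).symm
      _ = y * x := by rw [mul_inv_rev, inv_eq_of_mul_eq_one_right (hexp x hx), inv_eq_of_mul_eq_one_right (hexp y hy)]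
  have hCS : ∀ t ∈ (S : Subgroup G), orderOf t = 2 → centralizer ({t} : Set G) = S := fun t ht hto =>
    S.is_maximal' (centralizer_isPGroup h Nat.prime_two hto)
      fun s hs => mem_centralizer_singleton_iff.mpr (hcomm s hs t ht)
  set H := normalizer ((S : Subgroup G) : Set G) with hHdef
  have hSH : (S : Subgroup G) ≤ H := le_normalizer
  have hIS : ∀ t ∈ H, orderOf t = 2 → t ∈ (S : Subgroup G) := by
    intro t ht hto
    have hz : IsPGroup 2 ↥(zpowers t) := IsPGroup.of_card (n := 1) (by rw [Nat.card_zpowers, hto, pow_one])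
    have := S.is_maximal' (hz.to_sup_of_normal_right' S.2 (zpowers_le.mpr ht)) le_sup_right
    exact this ▸ mem_sup_left (mem_zpowers t)
  have hcard4 : 4 ∣ Nat.card S := by
    haveI := hE
    exact (IsKleinFour.card_four (G := ↥E)) ▸ card_dvd_of_le hES
  have hS1 : (S : Subgroup G) ≠ ⊥ := fun e => by
    change 4 ∣ Nat.card (S : Subgroup G) at hcard4
    rw [e, card_bot] at hcard4
    norm_num at hcard4
  have hHtop : H ≠ ⊤ := fun e => hS1 (h2 _ (normalizer_eq_top_iff.mp e) S.2)
  have hse : Cfsg.IsStronglyEmbedded H := by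
    refine isStronglyEmbedded_of_conj_mem hHtop ?_ ?_
    · exact even_iff_two_dvd.mpr (((show 2 ∣ 4 by norm_num).trans hcard4).trans (card_dvd_of_le hSH))
    · intro t ht hto g hg
      have hto' : orderOf (g * t * g⁻¹) = 2 := by rw [orderOf_conj_eq, hto]
      have e1 := hCS t (hIS t ht hto) hto
      have e2 := hCS _ (hIS _ hg hto') hto'
      rw [hHdef, mem_normalizer_iff]
      intro x
      constructor
      · intro hx
        rw [← e1, mem_centralizer_singleton_iff] at hx
        rw [← e2, mem_centralizer_singleton_iff]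
        calc g * x * g⁻¹ * (g * t * g⁻¹) = g * (x * t) * g⁻¹ := by group
          _ = g * t * g⁻¹ * (g * x * g⁻¹) := by rw [hx]; group
      · intro hx
        rw [← e2, mem_centralizer_singleton_iff] at hx
        rw [← e1, mem_centralizer_singleton_iff]
        calc x * t = g⁻¹ * (g * x * g⁻¹ * (g * t * g⁻¹)) * g := by group
          _ = t * x := by rw [hx]; group
  -- the involutions of `S` form one orbit of `H`
  obtain ⟨t, ht, hto⟩ : ∃ t ∈ (S : Subgroup G), orderOf t = 2 := by
    obtain ⟨t, ht⟩ := exists_prime_orderOf_dvd_card' (G := ↥(S : Subgroup G)) 2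
      ((show 2 ∣ 4 by norm_num).trans hcard4)
    exact ⟨t, t.2, by rw [Subgroup.orderOf_coe, ht]⟩
  set r := ((S : Subgroup G).subgroupOf H).index with hr
  have hrS : r + 1 = Nat.card S := by
    classical
    letI : MulAction ↥H {v : ↥(S : Subgroup G) // v ≠ 1} :=
      { smul := fun g v => ⟨⟨(g : G) * v.1 * (g : G)⁻¹, (mem_normalizer_iff.mp g.2 _).mp v.1.2⟩,
          fun e => v.2 (Subtype.ext (conj_eq_one_iff.mp (congrArg Subtype.val e)))⟩
        one_smul := fun v => Subtype.ext (Subtype.ext (show ((1 : ↥H) : G) * (v.1 : G) * ((1 : ↥H) : G)⁻¹ = v.1 by simp))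
        mul_smul := fun g g' v => Subtype.ext (Subtype.ext
          (show ((g * g' : ↥H) : G) * (v.1 : G) * ((g * g' : ↥H) : G)⁻¹ =
            (g : G) * ((g' : G) * v.1 * (g' : G)⁻¹) * (g : G)⁻¹ by rw [Subgroup.coe_mul]; group)) }
    have hord : ∀ v : {v : ↥(S : Subgroup G) // v ≠ 1}, orderOf (v.1 : G) = 2 := fun v =>
      orderOf_eq_two_of_mul_self (hexp _ v.1.2) fun e => v.2 (Subtype.ext e)
    let t' : {v : ↥(S : Subgroup G) // v ≠ 1} := ⟨⟨t, ht⟩, fun e => invol_ne_one hto (congrArg Subtype.val e)⟩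
    have horb : MulAction.orbit ↥H t' = Set.univ := Set.eq_univ_of_forall fun v => by
      obtain ⟨g, hg⟩ := isConj_iff.1 (se_all_conj hse hto (hord v))
      exact ⟨⟨g, mem_of_conj_mem hse hto (hSH ht) (hg ▸ hSH v.1.2)⟩, Subtype.ext (Subtype.ext hg)⟩
    have hst : MulAction.stabilizer ↥H t' = (S : Subgroup G).subgroupOf H := by
      ext g
      rw [MulAction.mem_stabilizer_iff, mem_subgroupOf, show (g : G) ∈ (S : Subgroup G) ↔ (g : G) ∈ centralizer ({t} : Set G) by rw [hCS t ht hto],
        mem_centralizer_singleton_iff]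
      constructor
      · intro hg
        exact mul_inv_eq_iff_eq_mul.mp (congrArg (fun v => ((v.1 : ↥(S : Subgroup G)) : G)) hg : (g : G) * t * (g : G)⁻¹ = t)
      · intro hg
        exact Subtype.ext (Subtype.ext (mul_inv_eq_iff_eq_mul.mpr hg : (g : G) * t * (g : G)⁻¹ = t))
    have h1 := MulAction.index_stabilizer ↥H t'
    rw [horb, hst, Set.ncard_univ] at h1
    rw [hr, h1]
    haveI := Fintype.ofFinite ↥(S : Subgroup G)
    rw [Nat.card_eq_fintype_card, Nat.card_eq_fintype_card, Fintype.card_subtype_compl, Fintype.card_subtype_eq]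
    have : 0 < Fintype.card ↥(S : Subgroup G) := Fintype.card_pos
    omega
  haveI hn : ((S : Subgroup G).subgroupOf H).Normal := normal_in_normalizer
  have hQ : Five (↥H ⧸ (S : Subgroup G).subgroupOf H) :=
    (h.subgroup H).of_surjective (QuotientGroup.mk' _) (QuotientGroup.mk'_surjective _)
  have hQc : Nat.card (↥H ⧸ (S : Subgroup G).subgroupOf H) = r := (Subgroup.index_eq_card _).symm
  have hHc : Nat.card H = Nat.card S * r := by
    rw [← ((S : Subgroup G).subgroupOf H).card_mul_index, Nat.card_congr (subgroupOfEquivOfLe hSH).toEquiv]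
  have hpart : ∀ p : ℕ, p.Prime → p ≠ 2 → ∃ j ≤ 1, r.factorization p = j := by
    intro p hp hp2
    haveI : Fact p.Prime := ⟨hp⟩
    let R : Sylow p ↥H := default
    have hRp : IsPGroup p ↥((R : Subgroup ↥H).map H.subtype) := R.2.map _
    have hnd : ¬ p ∣ Nat.card S := fun hd => by
      obtain ⟨k, hk⟩ := IsPGroup.iff_card.mp S.2
      rw [hk] at hd
      exact hp2 ((Nat.prime_dvd_prime_iff_eq hp Nat.prime_two).mp (hp.dvd_of_dvd_pow hd))
    have h1 := card_dvd_of_fpf h hp2 hRp hS1 (map_subtype_le _) hnd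
    rw [card_map_of_injective H.subtype_injective] at h1
    have h2 : Nat.card R = p ^ (r.factorization p) := by
      rw [Sylow.card_eq_multiplicity, hHc, Nat.factorization_mul Nat.card_pos.ne' (by omega),
        Finsupp.add_apply, Nat.factorization_eq_zero_of_not_dvd hnd, zero_add]
    change Nat.card (R : Subgroup ↥H) ∣ p at h1
    rw [show Nat.card (R : Subgroup ↥H) = p ^ (r.factorization p) from h2] at h1
    exact ⟨_, (Nat.pow_dvd_pow_iff_le_right hp.one_lt).mp (h1.trans (dvd_of_eq (pow_one p).symm)), rfl⟩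
  have hrodd : ¬ 2 ∣ r := by
    have := hcard4
    omega
  have hr15 : r ∣ 15 := by
    rw [← Nat.factorization_le_iff_dvd (by omega) (by norm_num)]
    intro p
    by_cases hp : p ∈ r.primeFactors
    · rw [Nat.mem_primeFactors] at hp
      obtain ⟨hpp, hpd, -⟩ := hp
      have hp2 : p ≠ 2 := fun e => hrodd (e ▸ hpd)
      obtain ⟨j, hj, hj'⟩ := hpart p hpp hp2
      have : p = 3 ∨ p = 5 := by
        rcases prime_cases hQ hpp (hQc.symm ▸ hpd) with e | e | e <;> omega
      rw [hj']
      refine hj.trans ?_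
      apply Nat.Prime.factorization_pos_of_dvd hpp (by norm_num)
      rcases this with rfl | rfl <;> norm_num
    · rw [← Nat.support_factorization] at hp
      rw [Finsupp.notMem_support_iff.mp hp]
      exact Nat.zero_le _
  have hr3 : r = 3 := by
    obtain ⟨k, hk⟩ := IsPGroup.iff_card.mp S.2
    have hk4 : k ≤ 4 := by
      by_contra hlt
      have : 2 ^ 5 ≤ 2 ^ k := Nat.pow_le_pow_right two_pos (by omega)
      have := Nat.le_of_dvd (by norm_num) hr15
      change Nat.card S = 2 ^ k at hk
      omega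
    change Nat.card S = 2 ^ k at hk
    interval_cases k <;> first
      | omega
      | (exfalso
         have : r = 7 := by omega
         rw [this] at hr15; norm_num at hr15)
      | (exfalso
         have : r = 15 := by omega
         exact no_order_fifteen hQ (hQc.trans this))
  have hCt : centralizer ({t} : Set G) = S := hCS t ht hto
  refine Cfsg.Agent.S3277.result t hto ?_ ?_ ?_ ?_
  · rw [hCt]; change Nat.card S = 4; omega
  · intro c hc; rw [sq]; exact hexp c (hCt ▸ hc)
  · rintro ⟨P, N, hN, hNc⟩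
    apply hns
    haveI := hN
    have hNo : ¬ 2 ∣ Nat.card N := by
      intro hd
      have h1 : N.index = Nat.card P := hNc.symm.index_eq_card
      have h2 := hNc.card_mul_card
      obtain ⟨k, hk⟩ := IsPGroup.iff_card.mp P.2
      have h3 := P.pow_dvd_card_of_pow_dvd_card (n := k + 1) (by
        rw [← h2, pow_succ']
        exact mul_dvd_mul hd (dvd_of_eq hk.symm))
      change 2 ^ (k + 1) ∣ Nat.card (P : Subgroup G) at h3
      rw [hk] at h3
      have := (Nat.pow_dvd_pow_iff_le_right (by norm_num)).mp h3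
      omega
    haveI : Group.IsSolvable ↥N := solvable_of_two_primes (h.subgroup N) (Or.inl rfl) hNo
    have hQ2 : IsPGroup 2 (G ⧸ N) := by
      obtain ⟨k, hk⟩ := IsPGroup.iff_card.mp P.2
      exact IsPGroup.of_card (n := k) (by rw [← Subgroup.index_eq_card, hNc.symm.index_eq_card]; exact hk)
    haveI : Group.IsNilpotent (G ⧸ N) := hQ2.isNilpotent
    exact Group.isSolvable_of_ker_le_range N.subtype (QuotientGroup.mk' N)
      (by rw [QuotientGroup.ker_mk', Subgroup.range_subtype])
  · intro V hV hVe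
    have : V = ⊥ := h2 V hV fun x => ⟨1, Subtype.ext (by simpa using hVe.2 x x.2)⟩
    rw [this, card_bot]
    omega

end Cfsg.Agent.Lib.InvChar.OrdersFive
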