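import Cfsg.Agent.Lib.InvChar.OrdersFive.Swap

/-!
`A₆` is not a proper normal subgroup of a group with element orders at most five.
-/

set_option autoImplicit false
set_option linter.unusedSectionVars false
set_option linter.style.haveILetI false

namespace Cfsg.Agent.Lib.InvChar.OrdersFive

open Subgroup Cfsg.Agent.Lib.Involutions
open Equiv (Perm)

universe u

/-- Second involution of the four-group. -/
def sixB : Perm (Fin 6) := Equiv.swap 0 2 * Equiv.swap 1 3

/-- An element of order three normalising the four-group. -/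
def sixC : ↥(alternatingGroup (Fin 6)) :=
  ⟨Equiv.swap 0 1 * Equiv.swap 1 2, Equiv.Perm.mem_alternatingGroup.mpr (by decide +kernel)⟩

/-- The four-group. -/
def sixFour : Subgroup ↥(alternatingGroup (Fin 6)) where
  carrier := {a | (a : Perm (Fin 6)) = 1 ∨ (a : Perm (Fin 6)) = Cfsg.Agent.S3261.base ∨
    (a : Perm (Fin 6)) = sixB ∨ (a : Perm (Fin 6)) = Cfsg.Agent.S3261.base * sixB}
  one_mem' := Or.inl rfl
  mul_mem' := fun {a b} ha hb => by
    have key : ∀ p ∈ [1, Cfsg.Agent.S3261.base, sixB, Cfsg.Agent.S3261.base * sixB],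
        ∀ q ∈ [1, Cfsg.Agent.S3261.base, sixB, Cfsg.Agent.S3261.base * sixB],
          p * q ∈ [1, Cfsg.Agent.S3261.base, sixB, Cfsg.Agent.S3261.base * sixB] := by decide +kernel
    have h := key (a : Perm (Fin 6)) (by simp only [List.mem_cons, List.not_mem_nil, or_false]; exact ha)
      (b : Perm (Fin 6)) (by simp only [List.mem_cons, List.not_mem_nil, or_false]; exact hb)
    simp only [List.mem_cons, List.not_mem_nil, or_false] at h
    exact h
  inv_mem' := fun {a} ha => by
    have key : ∀ p ∈ [1, Cfsg.Agent.S3261.base, sixB, Cfsg.Agent.S3261.base * sixB],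
        p⁻¹ ∈ [1, Cfsg.Agent.S3261.base, sixB, Cfsg.Agent.S3261.base * sixB] := by decide +kernel
    have h := key (a : Perm (Fin 6)) (by simp only [List.mem_cons, List.not_mem_nil, or_false]; exact ha)
    simp only [List.mem_cons, List.not_mem_nil, or_false] at h
    exact h

instance : DecidablePred fun a : ↥(alternatingGroup (Fin 6)) => a ∈ sixFour := fun a =>
  decidable_of_iff ((a : Perm (Fin 6)) = 1 ∨ (a : Perm (Fin 6)) = Cfsg.Agent.S3261.base ∨
    (a : Perm (Fin 6)) = sixB ∨ (a : Perm (Fin 6)) = Cfsg.Agent.S3261.base * sixB) Iff.rfl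

/-- The dihedral subgroup of `A₆`. -/
def sixDih : DihedralGroup 4 →* ↥(alternatingGroup (Fin 6)) :=
  MonoidHom.mk' (fun x => ⟨Cfsg.Agent.S3261.dih x,
      Equiv.Perm.mem_alternatingGroup.mpr (Cfsg.Agent.S3261.dih_facts.2.1 x).2⟩)
    fun x y => Subtype.ext (Cfsg.Agent.S3261.dih_facts.1 x y)

set_option maxRecDepth 100000 in
theorem six_card : Nat.card sixFour = 4 ∧ (∀ a : ↥(alternatingGroup (Fin 6)), a ∈ sixFour → a * a = 1) := by
  refine ⟨?_, by decide +kernel⟩
  rw [Nat.card_eq_fintype_card]; decide +kernel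

set_option maxRecDepth 100000 in
theorem six_in_dih : ∀ a : ↥(alternatingGroup (Fin 6)), a ∈ sixFour → ∃ x, sixDih x = a := by decide +kernel

set_option maxRecDepth 100000 in
theorem six_cent : ∀ g : ↥(alternatingGroup (Fin 6)),
    (∀ a : Fin 3, g * (![⟨Cfsg.Agent.S3261.base, Equiv.Perm.mem_alternatingGroup.mpr (by decide +kernel)⟩,
      ⟨sixB, Equiv.Perm.mem_alternatingGroup.mpr (by decide +kernel)⟩, 1] a) =
      (![⟨Cfsg.Agent.S3261.base, Equiv.Perm.mem_alternatingGroup.mpr (by decide +kernel)⟩,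
      ⟨sixB, Equiv.Perm.mem_alternatingGroup.mpr (by decide +kernel)⟩, 1] a) * g) → g ∈ sixFour := by decide +kernel

theorem six_cent' {g : ↥(alternatingGroup (Fin 6))} (hg : ∀ v ∈ sixFour, g * v = v * g) : g ∈ sixFour :=
  six_cent g fun a => hg _ (by
    fin_cases a
    · exact Or.inr (Or.inl rfl)
    · exact Or.inr (Or.inr (Or.inl rfl))
    · exact Or.inl rfl)

set_option maxRecDepth 100000 in
theorem six_norm : (∀ x : DihedralGroup 4, ∀ a : ↥(alternatingGroup (Fin 6)), a ∈ sixFour →
      sixDih x * a * (sixDih x)⁻¹ ∈ sixFour) ∧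
    (∀ a : ↥(alternatingGroup (Fin 6)), a ∈ sixFour → sixC * a * sixC⁻¹ ∈ sixFour) ∧
    sixC ^ 3 = 1 ∧ sixC ≠ 1 := by decide +kernel

variable {G : Type u} [Group G] [Finite G]

theorem false_of_six_index {r : ℕ} (hr : r.Prime) (h : Five G) (T : Subgroup G) [hTn : T.Normal]
    (hidx : T.index = r) (φ : ↥T ≃* ↥(alternatingGroup (Fin 6))) : False := by
  haveI : Fact r.Prime := ⟨hr⟩
  haveI : Fact (Nat.Prime 2) := ⟨Nat.prime_two⟩
  haveI : Fact (Nat.Prime 3) := ⟨Nat.prime_three⟩
  haveI : Fact (Nat.Prime 5) := ⟨Nat.prime_five⟩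
  have hT : Nat.card T = 360 := by
    rw [Nat.card_congr φ.toEquiv, nat_card_alternatingGroup, Nat.card_fin]; rfl
  have hG : Nat.card G = 360 * r := by rw [← T.card_mul_index, hT, hidx]
  have hr235 := prime_cases h hr (hG ▸ dvd_mul_left r 360)
  by_cases hr2 : r = 2
  · subst hr2
    let ψ : DihedralGroup 4 →* G := T.subtype.comp (φ.symm.toMonoidHom.comp sixDih)
    have hψ : Function.Injective ψ := by
      intro x y hxy
      have h1 : sixDih x = sixDih y := φ.symm.injective (T.subtype_injective hxy)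
      have h2 : sixDih (x⁻¹ * y) = 1 := by rw [map_mul, map_inv, h1, inv_mul_cancel]
      exact inv_mul_eq_one.mp (Cfsg.Agent.S3261.dih_facts.2.2 _ (congrArg Subtype.val h2))
    set D := ψ.range with hDdef
    have hD8 : Nat.card D = 8 := by
      rw [← Nat.card_congr (MonoidHom.ofInjective hψ).toEquiv, DihedralGroup.nat_card]
    have hDT : D ≤ T := by
      rintro _ ⟨x, rfl⟩
      exact (φ.symm (sixDih x)).2
    have hDp : IsPGroup 2 ↥D := IsPGroup.of_card (n := 3) (by rw [hD8]; norm_num)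
    obtain ⟨S, hDS⟩ := hDp.exists_le_sylow
    have hST : (S : Subgroup G) ⊓ T = D := by
      refine (eq_of_le_of_card_ge (le_inf hDS hDT) ?_).symm
      obtain ⟨k, hk⟩ := IsPGroup.iff_card.mp (S.2.to_le (inf_le_left : (S : Subgroup G) ⊓ T ≤ S))
      have h1 : 2 ^ k ∣ 360 := hT ▸ hk ▸ card_dvd_of_le inf_le_right
      rw [show 360 = 2 ^ 3 * 45 by norm_num] at h1
      rw [hD8, hk]
      exact Nat.le_of_dvd (by norm_num) (((show Nat.Coprime 2 45 by norm_num).pow_left k).dvd_of_dvd_mul_right h1)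
    obtain ⟨g, hgS, hgT⟩ : ∃ g ∈ (S : Subgroup G), g ∉ T := by
      by_contra hc
      push Not at hc
      have h1 : D = (S : Subgroup G) := hST.symm.trans (inf_eq_left.mpr hc)
      have h2 := S.pow_dvd_card_of_pow_dvd_card (n := 4) (by rw [hG]; norm_num)
      change 2 ^ 4 ∣ Nat.card (S : Subgroup G) at h2
      rw [← h1, hD8] at h2
      norm_num at h2
    have hgN : g ∈ normalizer (D : Set G) := InvChar.SelfThree.mem_normalizer_of_forall fun x hx => by
      rw [← hST]
      exact ⟨(S : Subgroup G).mul_mem ((S : Subgroup G).mul_mem hgS (hDS hx)) ((S : Subgroup G).inv_mem hgS), hTn.conj_mem x (hDT hx) g⟩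
    have hg2 : g * g ∈ D := hST ▸ ⟨mul_mem hgS hgS, mul_self_mem_of_index_two hidx g⟩
    set V := (sixFour.map φ.symm.toMonoidHom).map T.subtype with hVdef
    have hVc : Nat.card V = 4 := by
      rw [hVdef, card_map_of_injective T.subtype_injective, card_map_of_injective φ.symm.injective, six_card.1]
    have hVe : ∀ v ∈ V, v * v = 1 := by
      rintro _ ⟨_, ⟨a, ha, rfl⟩, rfl⟩
      rw [← map_mul, ← map_mul, six_card.2 a ha, map_one, map_one]
    have hVD : V ≤ D := by
      rintro _ ⟨_, ⟨a, ha, rfl⟩, rfl⟩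
      obtain ⟨x, rfl⟩ := six_in_dih a ha
      exact ⟨x, rfl⟩
    have hVn : ∀ m ∈ D, ∀ v ∈ V, m * v * m⁻¹ ∈ V := by
      rintro _ ⟨x, rfl⟩ _ ⟨_, ⟨a, ha, rfl⟩, rfl⟩
      exact ⟨_, ⟨_, six_norm.1 x a ha, rfl⟩, by simp [ψ, map_mul, map_inv]⟩
    have hVC : ∀ m ∈ T, (∀ v ∈ V, m * v = v * m) → m ∈ V := by
      intro m hm hc
      refine ⟨⟨m, hm⟩, ⟨φ ⟨m, hm⟩, six_cent' fun v hv => ?_, φ.symm_apply_apply _⟩, rfl⟩
      apply φ.symm.injective
      rw [map_mul, map_mul, MulEquiv.symm_apply_apply]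
      exact Subtype.ext (hc _ ⟨_, ⟨v, hv, rfl⟩, rfl⟩)
    by_cases hgV : g ∈ normalizer (V : Set G)
    swap
    · exact false_of_swap h S.2 hDS (MonoidHom.ofInjective hψ) hVD hVc hVe hVn
        (fun m hm => hVC m (hDT hm)) hgS hgN hg2 hgV
    -- the centraliser of `V` has order eight and admits a fixed-point-free element of order three
    set x : G := T.subtype (φ.symm sixC) with hx
    have hxo : orderOf x = 3 := by
      rw [hx, Subgroup.coe_subtype, Subgroup.orderOf_coe, MulEquiv.orderOf_eq]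
      exact orderOf_eq_prime six_norm.2.2.1 six_norm.2.2.2
    set N := normalizer (V : Set G) with hN
    have hxN : x ∈ N := InvChar.SelfThree.mem_normalizer_of_forall fun v hv => by
      obtain ⟨_, ⟨a, ha, rfl⟩, rfl⟩ := hv
      exact ⟨_, ⟨_, six_norm.2.1 a ha, rfl⟩, by simp [hx, map_mul, map_inv]⟩
    have hDN : D ≤ N := fun d hd => InvChar.SelfThree.mem_normalizer_of_forall fun v hv => hVn d hd v hv
    set NT := N ⊓ T with hNT
    have h24 : 24 ∣ Nat.card NT := by
      have h8 : 8 ∣ Nat.card NT := hD8 ▸ card_dvd_of_le (le_inf hDN hDT)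
      have h3 : 3 ∣ Nat.card NT := hxo ▸ NT.orderOf_dvd_natCard ⟨hxN, (φ.symm sixC).2⟩
      omega
    have h48 : 48 ≤ Nat.card N := by
      have hlt : NT.subgroupOf N ≠ ⊤ := fun e => hgT ((subgroupOf_eq_top.mp e) hgV).2
      have h1 := (NT.subgroupOf N).card_mul_index
      rw [Nat.card_congr (subgroupOfEquivOfLe (inf_le_left : NT ≤ N)).toEquiv] at h1
      have h2 : 2 ≤ (NT.subgroupOf N).index := by
        have := Subgroup.index_ne_zero_of_finite (H := NT.subgroupOf N)
        have : (NT.subgroupOf N).index ≠ 1 := fun e => hlt (index_eq_one.mp e)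
        omega
      have h3 : 24 ≤ Nat.card NT := Nat.le_of_dvd Nat.card_pos h24
      have := Nat.mul_le_mul h3 h2
      replace h1 : Nat.card NT * (NT.subgroupOf N).index = Nat.card N := h1
      omega
    classical
    letI : MulAction ↥N {v : ↥V // v ≠ 1} :=
      { smul := fun g v => ⟨⟨(g : G) * v.1 * (g : G)⁻¹, (mem_normalizer_iff.mp g.2 _).mp v.1.2⟩,
          fun e => v.2 (Subtype.ext (conj_eq_one_iff.mp (congrArg Subtype.val e)))⟩
        one_smul := fun v => Subtype.ext (Subtype.ext (show ((1 : ↥N) : G) * (v.1 : G) * ((1 : ↥N) : G)⁻¹ = v.1 by simp))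
        mul_smul := fun g g' v => Subtype.ext (Subtype.ext
          (show ((g * g' : ↥N) : G) * (v.1 : G) * ((g * g' : ↥N) : G)⁻¹ =
            (g : G) * ((g' : G) * v.1 * (g' : G)⁻¹) * (g : G)⁻¹ by rw [Subgroup.coe_mul]; group)) }
    let f := MulAction.toPermHom ↥N {v : ↥V // v ≠ 1}
    set C := f.ker.map N.subtype with hC
    have hCmem : ∀ c : G, c ∈ C → c ∈ N ∧ ∀ v ∈ V, c * v = v * c := by
      rintro _ ⟨c, hc, rfl⟩
      refine ⟨c.2, fun v hv => ?_⟩
      by_cases hv1 : v = 1
      · rw [hv1]; simp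
      · have h1 := Equiv.ext_iff.mp hc ⟨⟨v, hv⟩, fun e => hv1 (congrArg Subtype.val e)⟩
        exact mul_inv_eq_iff_eq_mul.mp
          (congrArg (fun w : {v : ↥V // v ≠ 1} => ((w.1 : ↥V) : G)) h1 : (c : G) * v * (c : G)⁻¹ = v)
    have hC8 : 8 ≤ Nat.card C := by
      rw [hC, card_map_of_injective N.subtype_injective]
      have h1 := f.ker.card_mul_index
      rw [index_ker] at h1
      have h2 : Nat.card f.range ≤ 6 := by
        refine (Nat.le_of_dvd Nat.card_pos (card_subgroup_dvd_card _)).trans (le_of_eq ?_)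
        haveI := Fintype.ofFinite ↥V
        rw [Nat.card_perm, Nat.card_eq_fintype_card, Fintype.card_subtype_compl, Fintype.card_subtype_eq,
          ← Nat.card_eq_fintype_card, hVc]
        rfl
      by_contra hlt
      have := Nat.mul_le_mul (show Nat.card f.ker ≤ 7 by omega) h2
      omega
    obtain ⟨v, hv, hv1⟩ : ∃ v ∈ V, v ≠ 1 := V.bot_or_exists_ne_one.resolve_left fun e => by
      rw [e, card_bot] at hVc; omega
    have hCp : IsPGroup 2 ↥C :=
      (centralizer_isPGroup h Nat.prime_two (orderOf_eq_two_of_mul_self (hVe v hv) hv1)).to_le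
        fun c hc => mem_centralizer_singleton_iff.mpr ((hCmem c hc).2 v hv)
    have hCT : Nat.card ↥(C ⊓ T : Subgroup G) ≤ 4 := hVc ▸ Subgroup.card_le_of_le fun c hc =>
      hVC c hc.2 (hCmem c hc.1).2
    have hC8' : Nat.card C = 8 := by
      have h1 := Cores.card_sup_mul_card_inf C T
      have h2 := Nat.le_of_dvd Nat.card_pos (card_subgroup_dvd_card (C ⊔ T))
      rw [hG] at h2
      rw [hT] at h1
      have h3 := Nat.mul_le_mul h2 hCT
      omega
    have hxC : x ∈ normalizer (C : Set G) := InvChar.SelfThree.mem_normalizer_of_forall fun c hc => by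
      obtain ⟨c, hc', rfl⟩ := hc
      exact ⟨⟨x, hxN⟩ * c * ⟨x, hxN⟩⁻¹, (inferInstance : f.ker.Normal).conj_mem c hc' _, rfl⟩
    have hmod := card_modEq_one h hxo hxC (by rw [hC8']; norm_num)
    rw [hC8'] at hmod
    exact absurd hmod (by decide)
  -- odd prime index
  obtain ⟨p, hp, hpr, hbad⟩ : ∃ p : ℕ, p.Prime ∧ p ≠ r ∧
      ∀ k, p ^ k = p ^ (Nat.factorization 360 p) → ¬ p ^ k ≡ 1 [MOD r] := by
    rcases hr235 with rfl | rfl | rfl
    · exact absurd rfl hr2
    · refine ⟨5, Nat.prime_five, by norm_num, fun k hk => ?_⟩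
      rw [hk, show Nat.factorization 360 5 = 1 by
        rw [show (360 : ℕ) = 5 ^ 1 * 72 by norm_num, Nat.factorization_mul (by norm_num) (by norm_num),
          Nat.prime_five.factorization_pow, Finsupp.add_apply,
          Nat.factorization_eq_zero_of_not_dvd (by norm_num : ¬ 5 ∣ 72)]
        simp]
      decide
    · refine ⟨3, Nat.prime_three, by norm_num, fun k hk => ?_⟩
      rw [hk, show Nat.factorization 360 3 = 2 by
        rw [show (360 : ℕ) = 3 ^ 2 * 40 by norm_num, Nat.factorization_mul (by norm_num) (by norm_num),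
          Nat.prime_three.factorization_pow, Finsupp.add_apply,
          Nat.factorization_eq_zero_of_not_dvd (by norm_num : ¬ 3 ∣ 40)]
        simp]
      decide
  haveI : Fact p.Prime := ⟨hp⟩
  let R : Sylow p ↥T := default
  have hFr := Sylow.normalizer_sup_eq_top R
  set W := (R : Subgroup ↥T).map T.subtype with hW
  have hWc : Nat.card W = p ^ Nat.factorization 360 p := by
    rw [hW, card_map_of_injective T.subtype_injective, Sylow.card_eq_multiplicity, hT]
  set N := normalizer (W : Set G)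
  have hprod := Cores.card_sup_mul_card_inf N T
  rw [hFr, card_top, hT, hG] at hprod
  have hrN : r ∣ Nat.card N := ⟨Nat.card ↥(N ⊓ T : Subgroup G),
    Nat.eq_of_mul_eq_mul_right (show 0 < 360 by norm_num) (by rw [← hprod]; ring)⟩
  obtain ⟨a, ha⟩ := exists_prime_orderOf_dvd_card' (G := ↥N) r hrN
  have hmod := card_modEq_one h (a := (a : G)) (p := r) (by rw [Subgroup.orderOf_coe, ha]) a.2 (by
    rw [hWc]
    exact fun hd => hpr ((Nat.prime_dvd_prime_iff_eq hr hp).mp (hr.dvd_of_dvd_pow hd)).symm)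
  rw [hWc] at hmod
  exact hbad _ rfl hmod

/-- `A₆` is not a proper normal subgroup. -/
theorem false_of_six (h : Five G) (T : Subgroup G) [hTn : T.Normal] (hne : T ≠ ⊤)
    (φ : ↥T ≃* ↥(alternatingGroup (Fin 6))) : False := by
  set r := (Nat.card (G ⧸ T)).minFac
  have hQ : 1 < Nat.card (G ⧸ T) := by
    rw [← Subgroup.index_eq_card]
    have := Subgroup.index_ne_zero_of_finite (H := T)
    have : T.index ≠ 1 := fun e => hne (index_eq_one.mp e)
    omega
  have hr : r.Prime := Nat.minFac_prime hQ.ne'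
  haveI : Fact r.Prime := ⟨hr⟩
  obtain ⟨q, hq⟩ := exists_prime_orderOf_dvd_card' (G := G ⧸ T) r (Nat.minFac_dvd _)
  set G₀ := (zpowers q).comap (QuotientGroup.mk' T) with hG₀
  have hTG₀ : T ≤ G₀ := fun t ht => by
    rw [hG₀, mem_comap, QuotientGroup.mk'_apply, (QuotientGroup.eq_one_iff t).mpr ht]
    exact one_mem _
  refine false_of_six_index hr (h.subgroup G₀) (T.subgroupOf G₀) ?_
    ((subgroupOfEquivOfLe hTG₀).trans φ)
  have h1 := (T.subgroupOf G₀).card_mul_index
  rw [Nat.card_congr (subgroupOfEquivOfLe hTG₀).toEquiv] at h1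
  have h2 := G₀.card_mul_index
  have h3 : G₀.index = (zpowers q).index := index_comap_of_surjective _ (QuotientGroup.mk'_surjective T)
  have h4 := (zpowers q).card_mul_index
  rw [Nat.card_zpowers, hq, ← Subgroup.index_eq_card] at h4
  have h5 := T.card_mul_index
  rw [h3, ← h1] at h2
  rw [← h5, ← h4] at h2
  have h6 : 0 < (zpowers q).index := Nat.pos_of_ne_zero Subgroup.index_ne_zero_of_finite
  have h7 : 0 < Nat.card T := Nat.card_pos
  have h8 : Nat.card T * (zpowers q).index * (T.subgroupOf G₀).index = Nat.card T * (zpowers q).index * r := by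
    calc Nat.card T * (zpowers q).index * (T.subgroupOf G₀).index
        = Nat.card T * (T.subgroupOf G₀).index * (zpowers q).index := by ring
      _ = Nat.card T * (r * (zpowers q).index) := h2
      _ = Nat.card T * (zpowers q).index * r := by ring
  exact Nat.eq_of_mul_eq_mul_left (Nat.mul_pos h7 h6) h8

end Cfsg.Agent.Lib.InvChar.OrdersFive
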