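import Cfsg.Agent.Lib.InvChar.OrdersFive.NoFour
import Cfsg.Agent.Lib.Geometry.Dickson.Global
import Cfsg.Agent.Lib.InvChar.SelfThree.AFive
import Cfsg.Agent.S3331

/-!
Reduction of the groups with element orders `1, 2, 3, 4, 5` to the simple case.
-/

set_option autoImplicit false
set_option linter.unusedSectionVars false
set_option linter.style.haveILetI false

namespace Cfsg.Agent.Lib.InvChar.OrdersFive

open Subgroup

universe u

/-- The element orders are exactly `1, 2, 3, 4, 5`. -/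
structure Full (G : Type u) [Group G] : Prop where
  five : Five G
  three : ∃ g : G, orderOf g = 3
  four : ∃ g : G, orderOf g = 4
  quint : ∃ g : G, orderOf g = 5

/-- An elementary abelian `2`-group extended by `A₅`. -/
def HasType (G : Type u) [Group G] : Prop :=
  ∃ (N : Subgroup G) (_ : N.Normal), Cfsg.IsElementaryAbelian 2 N ∧ Nonempty (G ⧸ N ≃* ↥(alternatingGroup (Fin 5)))

variable {G : Type u} [Group G] [Finite G]

theorem Full.range_eq (h : Full G) : Set.range (orderOf : G → ℕ) = ({1, 2, 3, 4, 5} : Set ℕ) := by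
  ext k
  simp only [Set.mem_range, Set.mem_insert_iff, Set.mem_singleton_iff]
  constructor
  · rintro ⟨g, rfl⟩
    have := h.five g
    have := orderOf_pos g
    omega
  · rintro (rfl | rfl | rfl | rfl | rfl)
    · exact ⟨1, orderOf_one⟩
    · obtain ⟨g, hg⟩ := h.four
      exact ⟨g ^ 2, by rw [orderOf_pow, hg]; rfl⟩
    · exact h.three
    · exact h.four
    · exact h.quint

theorem Full.of_range_eq (h : Set.range (orderOf : G → ℕ) = ({1, 2, 3, 4, 5} : Set ℕ)) : Full G := by
  have hm : ∀ k ∈ ({1, 2, 3, 4, 5} : Set ℕ), ∃ g : G, orderOf g = k := fun k hk => (Set.ext_iff.mp h k).mpr hk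
  refine ⟨fun g => ?_, hm 3 (by simp), hm 4 (by simp), hm 5 (by simp)⟩
  have : orderOf g ∈ Set.range (orderOf : G → ℕ) := ⟨g, rfl⟩
  rw [h] at this
  simp only [Set.mem_insert_iff, Set.mem_singleton_iff] at this
  omega

theorem primes_dvd_of_not_solvable (h : Five G) (hns : ¬ Group.IsSolvable G) :
    2 ∣ Nat.card G ∧ 3 ∣ Nat.card G ∧ 5 ∣ Nat.card G := by
  refine ⟨?_, ?_, ?_⟩ <;> by_contra hd <;>
    exact hns (solvable_of_two_primes h (by norm_num) hd)

theorem exists_order_of_dvd {p : ℕ} (hp : p.Prime) (hd : p ∣ Nat.card G) : ∃ g : G, orderOf g = p := by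
  haveI : Fact p.Prime := ⟨hp⟩
  exact exists_prime_orderOf_dvd_card' p hd

theorem full_of_not_solvable (h : Five G) (hns : ¬ Group.IsSolvable G) (h4 : ∃ g : G, orderOf g = 4) :
    Full G :=
  ⟨h, exists_order_of_dvd Nat.prime_three (primes_dvd_of_not_solvable h hns).2.1, h4,
    exists_order_of_dvd Nat.prime_five (primes_dvd_of_not_solvable h hns).2.2⟩

theorem exists_abelian_normal [Group.IsSolvable G] [Nontrivial G] :
    ∃ (q : ℕ) (V : Subgroup G), q.Prime ∧ V.Normal ∧ V ≠ ⊥ ∧ (∀ a ∈ V, ∀ b ∈ V, a * b = b * a) ∧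
      (∀ a ∈ V, a ^ q = 1) := by
  classical
  obtain ⟨A, hAn, hA1, hAc⟩ : ∃ A : Subgroup G, A.Normal ∧ A ≠ ⊥ ∧ ∀ a ∈ A, ∀ b ∈ A, a * b = b * a := by
    obtain ⟨n, hn⟩ := ‹Group.IsSolvable G›.solvable
    induction n with
    | zero => exact absurd (show (⊤ : Subgroup G) = ⊥ from hn) top_ne_bot
    | succ k ih =>
      by_cases hk : derivedSeries G k = ⊥
      · exact ih hk
      · refine ⟨derivedSeries G k, derivedSeries_normal G k, hk, fun a ha b hb => ?_⟩
        have := Subgroup.commutator_mem_commutator ha hb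
        rw [← derivedSeries_succ, hn, mem_bot, commutatorElement_eq_one_iff_mul_comm] at this
        exact this
  haveI := hAn
  set q := (Nat.card A).minFac with hq
  have hA2 : 1 < Nat.card A := (Subgroup.one_lt_card_iff_ne_bot A).mpr hA1
  have hqp : q.Prime := Nat.minFac_prime hA2.ne'
  let V : Subgroup G :=
    { carrier := {a | a ∈ A ∧ a ^ q = 1}
      one_mem' := ⟨one_mem _, one_pow _⟩
      mul_mem' := fun {a b} ha hb => ⟨mul_mem ha.1 hb.1, by
        rw [(show Commute a b from hAc a ha.1 b hb.1).mul_pow, ha.2, hb.2, one_mul]⟩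
      inv_mem' := fun {a} ha => ⟨inv_mem ha.1, by rw [inv_pow, ha.2, inv_one]⟩ }
  refine ⟨q, V, hqp, ⟨fun a ha g => ⟨hAn.conj_mem a ha.1 g, by rw [conj_pow, ha.2]; group⟩⟩, ?_,
    fun a ha b hb => hAc a ha.1 b hb.1, fun a ha => ha.2⟩
  intro hV
  haveI : Fact q.Prime := ⟨hqp⟩
  obtain ⟨a, ha⟩ := exists_prime_orderOf_dvd_card' (G := ↥A) q (Nat.minFac_dvd _)
  have : (a : G) ∈ V := ⟨a.2, by rw [← ha, ← Subgroup.orderOf_coe, pow_orderOf_eq_one]⟩
  rw [hV, mem_bot] at this
  rw [← Subgroup.orderOf_coe, this, orderOf_one] at ha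
  exact hqp.ne_one ha.symm

theorem isPGroup_of_pow {q : ℕ} {V : Subgroup G} (hV : ∀ a ∈ V, a ^ q = 1) : IsPGroup q ↥V :=
  fun x => ⟨1, Subtype.ext (by simpa using hV x x.2)⟩

theorem not_dvd_of_pow {q p : ℕ} (hq : q.Prime) (hp : p.Prime) (hne : p ≠ q) {V : Subgroup G}
    (hV : ∀ a ∈ V, a ^ q = 1) : ¬ p ∣ Nat.card V := fun hd => by
  haveI : Fact q.Prime := ⟨hq⟩
  obtain ⟨k, hk⟩ := IsPGroup.iff_card.mp (isPGroup_of_pow hV)
  rw [hk] at hd
  exact hne ((Nat.prime_dvd_prime_iff_eq hp hq).mp (hp.dvd_of_dvd_pow hd))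

theorem not_three_primes_aux : ∀ (n : ℕ) (G : Type u) [Group G] [Finite G], Nat.card G = n →
    Five G → Group.IsSolvable G → 2 ∣ Nat.card G → 3 ∣ Nat.card G → 5 ∣ Nat.card G → False := by
  intro n
  induction n using Nat.strong_induction_on with
  | _ n ih =>
  intro G _ _ hn h hs h2 h3 h5
  haveI : Nontrivial G := Finite.one_lt_card_iff_nontrivial.mp
    (lt_of_lt_of_le one_lt_two (Nat.le_of_dvd Nat.card_pos h2))
  obtain ⟨q, V, hq, hVn, hV1, hVc, hVq⟩ := exists_abelian_normal (G := G)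
  haveI := hVn
  haveI : Fact q.Prime := ⟨hq⟩
  have hV2 : 1 < Nat.card V := (Subgroup.one_lt_card_iff_ne_bot V).mpr hV1
  have hidx : Nat.card (G ⧸ V) = V.index := (Subgroup.index_eq_card V).symm
  have hmul := V.card_mul_index
  obtain ⟨k, hk⟩ := IsPGroup.iff_card.mp (isPGroup_of_pow hVq)
  have hk0 : k ≠ 0 := fun e => by rw [hk, e, pow_zero] at hV2; omega
  have hqd : q ∣ Nat.card G := by rw [← hmul, hk]; exact dvd_mul_of_dvd_left (dvd_pow_self q hk0) _
  have hall : ∀ r : ℕ, r.Prime → r ≠ q → r ∣ Nat.card G → r ∣ V.index := by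
    intro r hr hne hd
    rw [← hmul] at hd
    exact (hr.dvd_mul.mp hd).resolve_left (not_dvd_of_pow hq hr hne hVq)
  have hqi : ¬ q ∣ V.index := by
    intro hqi
    have key : ∀ r : ℕ, r.Prime → r ∣ Nat.card G → r ∣ Nat.card (G ⧸ V) := fun r hr hd => by
      rw [hidx]
      by_cases e : r = q
      · exact e ▸ hqi
      · exact hall r hr e hd
    refine ih _ ?_ (G ⧸ V) rfl (h.of_surjective (QuotientGroup.mk' V) (QuotientGroup.mk'_surjective V))
      inferInstance (key 2 Nat.prime_two h2) (key 3 Nat.prime_three h3) (key 5 Nat.prime_five h5)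
    rw [← hn, ← hmul, hidx]
    exact lt_mul_of_one_lt_left (Nat.pos_of_ne_zero Subgroup.index_ne_zero_of_finite) hV2
  obtain ⟨K, hK⟩ := Subgroup.exists_right_complement'_of_coprime (N := V)
    (by rw [hk]; exact (hq.coprime_iff_not_dvd.mpr hqi).pow_left k)
  have hKc : Nat.card K = V.index := hK.symm.index_eq_card.symm
  obtain ⟨r₀, hr₀, hr₀q, hr₀d⟩ : ∃ r : ℕ, r.Prime ∧ r ≠ q ∧ r ∣ Nat.card G := by
    by_cases e : 2 = q
    · exact ⟨3, Nat.prime_three, by omega, h3⟩
    · exact ⟨2, Nat.prime_two, e, h2⟩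
  haveI : Nontrivial ↥K := Finite.one_lt_card_iff_nontrivial.mp (by
    rw [hKc]
    exact lt_of_lt_of_le hr₀.one_lt (Nat.le_of_dvd (Nat.pos_of_ne_zero Subgroup.index_ne_zero_of_finite)
      (hall r₀ hr₀ hr₀q hr₀d)))
  obtain ⟨p, A₀, hp, hA₀n, hA₀1, hA₀c, hA₀p⟩ := exists_abelian_normal (G := ↥K)
  haveI : Fact p.Prime := ⟨hp⟩
  set A := A₀.map K.subtype with hA
  have hAp : ∀ a ∈ A, a ^ p = 1 := by
    rintro _ ⟨a, ha, rfl⟩
    rw [← map_pow, hA₀p a ha, map_one]
  have hA1 : A ≠ ⊥ := fun e => hA₀1 ((Subgroup.map_eq_bot_iff_of_injective _ K.subtype_injective).mp e)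
  have hpK : p ∣ Nat.card K := by
    have h1 : 1 < Nat.card A₀ := (Subgroup.one_lt_card_iff_ne_bot A₀).mpr hA₀1
    obtain ⟨j, hj⟩ := IsPGroup.iff_card.mp (isPGroup_of_pow (G := ↥K) hA₀p)
    have hj0 : j ≠ 0 := fun e => by rw [hj, e, pow_zero] at h1; omega
    exact ((dvd_pow_self p hj0).trans (dvd_of_eq hj.symm)).trans (card_subgroup_dvd_card A₀)
  have hpq : p ≠ q := fun e => hqi (e ▸ hKc ▸ hpK)
  haveI : IsMulCommutative A := ⟨⟨by
    rintro ⟨_, a, ha, rfl⟩ ⟨_, b, hb, rfl⟩
    exact Subtype.ext (show K.subtype a * K.subtype b = K.subtype b * K.subtype a by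
      rw [← map_mul, hA₀c a ha b hb, map_mul])⟩⟩
  have hAV : A ≤ normalizer (V : Set G) := by rw [Subgroup.normalizer_eq_top]; exact le_top
  have hAcop : (Nat.card A).Coprime (Nat.card V) := by
    obtain ⟨j, hj⟩ := IsPGroup.iff_card.mp (isPGroup_of_pow hAp)
    rw [hj, hk]
    exact ((Nat.coprime_primes hp hq).mpr hpq).pow j k
  have hAcard : Nat.card A = p := by
    have hcyc : IsCyclic ↥A := by
      by_contra hc
      exact no_noncyclic_fpf h hV1 hc hAV hAcop
    obtain ⟨g, hg⟩ := IsCyclic.exists_ofOrder_eq_natCard (α := ↥A)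
    have h1 : Nat.card A ∣ p := hg ▸ orderOf_dvd_of_pow_eq_one (Subtype.ext (by simpa using hAp g g.2))
    exact ((Nat.dvd_prime hp).mp h1).resolve_left fun e => hA1 (Subgroup.card_eq_one.mp e)
  obtain ⟨r, hr, hrp, hrq, hrd⟩ : ∃ r : ℕ, r.Prime ∧ r ≠ p ∧ r ≠ q ∧ r ∣ Nat.card G := by
    by_cases e2 : 2 ≠ p ∧ 2 ≠ q
    · exact ⟨2, Nat.prime_two, e2.1, e2.2, h2⟩
    by_cases e3 : 3 ≠ p ∧ 3 ≠ q
    · exact ⟨3, Nat.prime_three, e3.1, e3.2, h3⟩
    exact ⟨5, Nat.prime_five, by omega, by omega, h5⟩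
  haveI : Fact r.Prime := ⟨hr⟩
  obtain ⟨y₀, hy₀⟩ := exists_prime_orderOf_dvd_card' (G := ↥K) r (hKc ▸ hall r hr hrq hrd)
  set y := (y₀ : G) with hy
  have hyo : orderOf y = r := by rw [hy, Subgroup.orderOf_coe, hy₀]
  have hyA : y ∈ normalizer (A : Set G) := by
    rw [mem_normalizer_iff]
    intro x
    constructor
    · rintro ⟨a, ha, rfl⟩
      exact ⟨y₀ * a * y₀⁻¹, hA₀n.conj_mem a ha y₀, rfl⟩
    · rintro ⟨a, ha, hax⟩
      refine ⟨y₀⁻¹ * a * y₀⁻¹⁻¹, hA₀n.conj_mem a ha y₀⁻¹, ?_⟩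
      rw [map_mul, map_mul, map_inv, map_inv, map_inv, hax, inv_inv]
      show y⁻¹ * (y * x * y⁻¹) * y = x
      group
  have hmod := card_modEq_one h hyo hyA (by
    rw [hAcard]; exact fun hd => hrp ((Nat.prime_dvd_prime_iff_eq hr hp).mp hd))
  rw [hAcard] at hmod
  -- so `r = 2` and both `y` and a conjugate invert `V`
  have hr2 : r = 2 := by
    rcases prime_cases h hr hrd with e | e | e
    · exact e
    all_goals
      exfalso
      subst e
      have := prime_cases h hp ((hAcard ▸ Subgroup.card_subgroup_dvd_card A))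
      rcases this with e | e | e <;> subst e <;> first | omega | exact absurd hmod (by decide)
  have hinv : ∀ w : G, orderOf w = 2 → ∀ v ∈ V, w * v * w⁻¹ = v⁻¹ := by
    intro w hw v hv
    have hmem : v * (w * v * w⁻¹) ∈ V := mul_mem hv (hVn.conj_mem v hv w)
    have hq2 : q ≠ 2 := by omega
    by_contra hne
    refine not_commute h (a := w) (b := v * (w * v * w⁻¹))
      (Involutions.invol_ne_one hw) (fun e => hne (eq_inv_of_mul_eq_one_right e)) ?_ ?_
    · rw [hw]
      refine Nat.Coprime.coprime_dvd_right (V.orderOf_dvd_natCard hmem) ?_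
      rw [hk]
      exact ((Nat.coprime_primes Nat.prime_two hq).mpr hq2.symm).pow_right k
    · have hw2 := Involutions.invol_mul_self hw
      calc w * (v * (w * v * w⁻¹)) = w * v * w⁻¹ * (w * w) * v * w⁻¹ := by group
        _ = (w * v * w⁻¹) * v * w := by rw [hw2, Involutions.invol_inv hw]; group
        _ = v * (w * v * w⁻¹) * w := by rw [hVc _ (hVn.conj_mem v hv w) v hv]
  obtain ⟨a, ha, ha1⟩ : ∃ a ∈ A, a ≠ 1 := A.bot_or_exists_ne_one.resolve_left hA1
  have hap : orderOf a = p := orderOf_eq_prime (hAp a ha) ha1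
  set c := y * (a * y⁻¹ * a⁻¹) with hc
  have hcA : c ∈ A := by
    have : c = (y * a * y⁻¹) * a⁻¹ := by rw [hc]; group
    rw [this]
    exact mul_mem ((mem_normalizer_iff.mp hyA a).mp ha) (inv_mem ha)
  have hy2 : orderOf y = 2 := hyo.trans hr2
  have hy'2 : orderOf (a * y⁻¹ * a⁻¹) = 2 := by
    rw [Involutions.orderOf_conj_eq, orderOf_inv, hy2]
  obtain ⟨v, hv, hv1⟩ : ∃ v ∈ V, v ≠ 1 := V.bot_or_exists_ne_one.resolve_left hV1
  by_cases hc1 : c = 1
  · refine not_commute h (a := y) (b := a) (Involutions.invol_ne_one hy2) ha1 (by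
      rw [hyo, hap]; exact (Nat.coprime_primes hr hp).mpr hrp) ?_
    rw [hc] at hc1
    calc y * a = (y * (a * y⁻¹ * a⁻¹)) * (a * y) := by group
      _ = a * y := by rw [hc1, one_mul]
  · refine not_commute h (a := c) (b := v) hc1 hv1 ?_ ?_
    · exact (hAcop.coprime_dvd_left (A.orderOf_dvd_natCard hcA)).coprime_dvd_right (V.orderOf_dvd_natCard hv)
    · have h1 := hinv _ hy'2 v hv
      have h2 := hinv _ hy2 _ (inv_mem hv)
      rw [inv_inv] at h2
      apply mul_inv_eq_iff_eq_mul.mp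
      calc c * v * c⁻¹ = y * (a * y⁻¹ * a⁻¹ * v * (a * y⁻¹ * a⁻¹)⁻¹) * y⁻¹ := by rw [hc]; group
        _ = v := by rw [h1, h2]

theorem Full.not_solvable (h : Full G) : ¬ Group.IsSolvable G := fun hs => by
  obtain ⟨a, ha⟩ := h.three
  obtain ⟨b, hb⟩ := h.four
  obtain ⟨c, hc⟩ := h.quint
  exact not_three_primes_aux _ G rfl h.five hs
    ((show 2 ∣ 4 by norm_num).trans (hb ▸ orderOf_dvd_natCard b)) (ha ▸ orderOf_dvd_natCard a)
    (hc ▸ orderOf_dvd_natCard c)

set_option maxRecDepth 100000 in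
theorem A5_no_four (a : ↥(alternatingGroup (Fin 5))) : orderOf a ≠ 4 := by
  have key : ∀ a : ↥(alternatingGroup (Fin 5)), a ^ 4 = 1 → a ^ 2 = 1 := by decide +kernel
  intro h4
  have h2 := orderOf_dvd_of_pow_eq_one (key a (h4 ▸ pow_orderOf_eq_one a))
  rw [h4] at h2
  norm_num at h2

/-- The case of Sylow `3`-subgroups of order three. -/
theorem selfThree_case (h : Full G) (h9 : ¬ 9 ∣ Nat.card G) : HasType G := by
  haveI : Fact (Nat.Prime 3) := ⟨Nat.prime_three⟩
  obtain ⟨x, hx⟩ := h.three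
  have hX : Nat.card (zpowers x) = 3 := by rw [Nat.card_zpowers, hx]
  have hC : centralizer ((zpowers x : Subgroup G) : Set G) = zpowers x := by
    have h1 : centralizer ((zpowers x : Subgroup G) : Set G) = centralizer ({x} : Set G) := by
      refine le_antisymm (centralizer_le (by simp)) fun y hy v hv => ?_
      obtain ⟨i, rfl⟩ := mem_zpowers_iff.mp hv
      exact ((show Commute x y from (mem_centralizer_singleton_iff.mp hy).symm).zpow_left i).eq
    rw [h1]
    refine (eq_of_le_of_card_ge (zpowers_le.mpr (mem_centralizer_singleton_iff.mpr rfl)) ?_).symm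
    obtain ⟨k, hk⟩ := IsPGroup.iff_card.mp (centralizer_isPGroup h.five Nat.prime_three hx)
    have h2 : k ≤ 1 := by
      by_contra hk2
      exact h9 ((pow_dvd_pow 3 (show 2 ≤ k by omega)).trans (hk ▸ card_subgroup_dvd_card _))
    rw [hk, hX]
    calc 3 ^ k ≤ 3 ^ 1 := Nat.pow_le_pow_right (by norm_num) h2
      _ = 3 := by norm_num
  rcases Cfsg.Agent.S3331.result (zpowers x) hX hC with ⟨N, hN, hnil, -, hq⟩ | ⟨N, hN, hc, hn, hA⟩ | ⟨⟨e⟩⟩
  · exfalso
    apply h.not_solvable
    haveI := hN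
    haveI : Group.IsNilpotent N := hnil
    haveI : Group.IsSolvable (G ⧸ N) := by
      rcases hq with e | ⟨⟨e⟩⟩
      · haveI : Group.IsNilpotent (G ⧸ N) := (IsPGroup.of_card (p := 3) (n := 1) (by rw [e, pow_one])).isNilpotent
        infer_instance
      · refine Characters.isSolvable_of_card_eq_pow_mul_pow (p := 2) (q := 3) (a := 1) (b := 1)
          Nat.prime_two Nat.prime_three ?_
        rw [Nat.card_congr e.toEquiv, Nat.card_perm, Nat.card_fin]
        rfl
    exact Group.isSolvable_of_ker_le_range N.subtype (QuotientGroup.mk' N)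
      (by rw [QuotientGroup.ker_mk', Subgroup.range_subtype])
  · exact ⟨N, hN, ⟨hc, hn⟩, hA⟩
  · exfalso
    haveI : Fact (Nat.Prime 7) := ⟨by norm_num⟩
    have hd : 7 ∣ Nat.card G := by
      rw [Nat.card_congr e.toEquiv]
      have h1 := Geometry.Dickson.card_PSL2 (F := ZMod 7)
      rw [ZMod.card, show Nat.gcd 2 (7 - 1) = 2 by decide] at h1
      omega
    rcases prime_cases h.five (show Nat.Prime 7 by norm_num) hd with e | e | e <;> omega

/-- A normal abelian subgroup of prime exponent leads to an extension of `A₅`. -/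
theorem of_normal_abelian (h : Full G) {q : ℕ} (hq : q.Prime) {V : Subgroup G} (hVn : V.Normal)
    (hV1 : V ≠ ⊥) (hVq : ∀ a ∈ V, a ^ q = 1) : HasType G := by
  haveI := hVn
  haveI : Fact q.Prime := ⟨hq⟩
  have hnorm : ∀ P : Subgroup G, P ≤ normalizer (V : Set G) := fun P => by
    rw [Subgroup.normalizer_eq_top]; exact le_top
  by_cases hq2 : q = 2
  · refine selfThree_case h fun h9 => ?_
    haveI : Fact (Nat.Prime 3) := ⟨Nat.prime_three⟩
    let P : Sylow 3 G := default
    have h1 := card_dvd_of_fpf h.five (p := 3) (by norm_num) P.2 hV1 (hnorm _)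
      (not_dvd_of_pow hq Nat.prime_three (by omega) hVq)
    have h2 := P.pow_dvd_card_of_pow_dvd_card (n := 2) (by simpa using h9)
    have := Nat.le_of_dvd (by norm_num) (h2.trans h1)
    norm_num at this
  · exfalso
    refine h.not_solvable (solvable_of_rank_one h.five fun E hE =>
      no_klein_fpf h.five hE hV1 (hnorm _) ?_)
    obtain ⟨k, hk⟩ := IsPGroup.iff_card.mp (isPGroup_of_pow hVq)
    rw [hk]
    exact (hq.odd_of_ne_two hq2).pow

theorem hasType_or_no_solvable (h : Full G) :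
    HasType G ∨ ∀ V : Subgroup G, V.Normal → Group.IsSolvable ↥V → V = ⊥ := by
  by_cases hex : ∃ V : Subgroup G, V.Normal ∧ Group.IsSolvable ↥V ∧ V ≠ ⊥
  · left
    obtain ⟨V, hV, hVs, hV1⟩ := hex
    haveI := hV
    haveI := hVs
    haveI : Nontrivial ↥V := (nontrivial_iff_ne_bot V).mpr hV1
    -- a characteristic subgroup of prime exponent
    obtain ⟨n, hn⟩ := hVs.solvable
    obtain ⟨A, hAn, hA1, hAc⟩ : ∃ A : Subgroup G, A.Normal ∧ A ≠ ⊥ ∧ ∀ a ∈ A, ∀ b ∈ A, a * b = b * a := by
      clear hVs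
      induction n with
      | zero => exact absurd (show (⊤ : Subgroup ↥V) = ⊥ from hn) top_ne_bot
      | succ k ih =>
        by_cases hk : derivedSeries ↥V k = ⊥
        · exact ih hk
        · refine ⟨(derivedSeries ↥V k).map V.subtype, inferInstance,
            fun e => hk ((Subgroup.map_eq_bot_iff_of_injective _ V.subtype_injective).mp e), ?_⟩
          rintro _ ⟨a, ha, rfl⟩ _ ⟨b, hb, rfl⟩
          have := Subgroup.commutator_mem_commutator ha hb
          rw [← derivedSeries_succ, hn, mem_bot, commutatorElement_eq_one_iff_mul_comm] at this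
          rw [← map_mul, this, map_mul]
    haveI := hAn
    set q := (Nat.card A).minFac with hqdef
    have hA2 : 1 < Nat.card A := (Subgroup.one_lt_card_iff_ne_bot A).mpr hA1
    have hqp : q.Prime := Nat.minFac_prime hA2.ne'
    haveI : Fact q.Prime := ⟨hqp⟩
    let W : Subgroup G :=
      { carrier := {a | a ∈ A ∧ a ^ q = 1}
        one_mem' := ⟨one_mem _, one_pow _⟩
        mul_mem' := fun {a b} ha hb => ⟨mul_mem ha.1 hb.1, by
          rw [(show Commute a b from hAc a ha.1 b hb.1).mul_pow, ha.2, hb.2, one_mul]⟩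
        inv_mem' := fun {a} ha => ⟨inv_mem ha.1, by rw [inv_pow, ha.2, inv_one]⟩ }
    refine of_normal_abelian h hqp (V := W) ⟨fun a ha g => ⟨hAn.conj_mem a ha.1 g, by rw [conj_pow, ha.2]; group⟩⟩ ?_
      fun a ha => ha.2
    intro hW
    obtain ⟨a, ha⟩ := exists_prime_orderOf_dvd_card' (G := ↥A) q (Nat.minFac_dvd _)
    have : (a : G) ∈ W := ⟨a.2, by rw [← ha, ← Subgroup.orderOf_coe, pow_orderOf_eq_one]⟩
    rw [hW, mem_bot] at this
    rw [← Subgroup.orderOf_coe, this, orderOf_one] at ha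
    exact hqp.ne_one ha.symm
  · right
    push Not at hex
    exact hex

/-- A proper nontrivial normal subgroup contains elements of order four. -/
theorem normal_full (h : Full G) (h9 : 9 ∣ Nat.card G)
    (hsolv : ∀ V : Subgroup G, V.Normal → Group.IsSolvable ↥V → V = ⊥) {T : Subgroup G}
    (hT : T.Normal) (hT1 : T ≠ ⊥) : Full ↥T := by
  haveI := hT
  haveI : Fact (Nat.Prime 2) := ⟨Nat.prime_two⟩
  haveI : Fact (Nat.Prime 3) := ⟨Nat.prime_three⟩
  have hns : ¬ Group.IsSolvable ↥T := fun hs => hT1 (hsolv T hT hs)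
  have hTf := h.five.subgroup T
  refine full_of_not_solvable hTf hns ?_
  by_contra h4
  push Not at h4
  obtain ⟨e⟩ := equiv_A5 hTf h4 hns fun V hV hVp => by
    haveI := hV
    have hle : V.map T.subtype ≤ (Cfsg.pCore 2 ↥T).map T.subtype := map_mono (Cores.le_pCore hV hVp)
    have h1 : (Cfsg.pCore 2 ↥T).map T.subtype = ⊥ := hsolv _ inferInstance (by
      haveI : Group.IsNilpotent ↥((Cfsg.pCore 2 ↥T).map T.subtype) :=
        ((Cores.pCore_isPGroup 2 ↥T).map T.subtype).isNilpotent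
      infer_instance)
    exact (Subgroup.map_eq_bot_iff_of_injective _ T.subtype_injective).mp (le_bot_iff.mp (h1 ▸ hle))
  have hT60 : Nat.card T = 60 := by
    rw [Nat.card_congr e.toEquiv, Nat.card_eq_fintype_card]; rfl
  -- Frattini argument
  let S : Sylow 2 ↥T := default
  have hFr := Sylow.normalizer_sup_eq_top S
  set W := (S : Subgroup ↥T).map T.subtype with hWdef
  have hScard : Nat.card (S : Subgroup ↥T) = 4 := by
    rw [Sylow.card_eq_multiplicity, hT60, show (60 : ℕ) = 2 ^ 2 * 15 by norm_num,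
      Nat.factorization_mul (by norm_num) (by norm_num), Nat.prime_two.factorization_pow,
      Finsupp.add_apply, Nat.factorization_eq_zero_of_not_dvd (by norm_num : ¬ 2 ∣ 15)]
    simp
  have hW1 : W ≠ ⊥ := fun e' => by
    have := card_map_of_injective (K := (S : Subgroup ↥T)) T.subtype_injective
    rw [← hWdef, e', card_bot, hScard] at this
    omega
  set NW := normalizer (W : Set G) with hNW
  have h27 : ¬ 9 ∣ Nat.card NW := by
    intro hd
    let P : Sylow 3 ↥NW := default
    have h2 := P.pow_dvd_card_of_pow_dvd_card (n := 2) (by simpa using hd)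
    have hPp : IsPGroup 3 ↥((P : Subgroup ↥NW).map NW.subtype) := P.2.map _
    have h1 := card_dvd_of_fpf h.five (p := 3) (by norm_num) hPp hW1 (map_subtype_le _) (by
      rw [hWdef, card_map_of_injective T.subtype_injective, hScard]; norm_num)
    rw [card_map_of_injective NW.subtype_injective] at h1
    have := Nat.le_of_dvd (by norm_num) (h2.trans h1)
    norm_num at this
  have hprod := Cores.card_sup_mul_card_inf NW T
  rw [hFr, card_top, hT60] at hprod
  -- the intersection has order divisible by three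
  have h3 : 3 ∣ Nat.card (NW ⊓ T : Subgroup G) := by
    have hmap : (normalizer ((S : Subgroup ↥T) : Set ↥T)).map T.subtype ≤ NW ⊓ T :=
      le_inf (le_normalizer_map _) (map_subtype_le _)
    refine dvd_trans ?_ (card_dvd_of_le hmap)
    rw [card_map_of_injective T.subtype_injective]
    have hn2 : Nat.card (Sylow 2 ↥T) = (normalizer ((S : Subgroup ↥T) : Set ↥T)).index := S.card_eq_index_normalizer
    have hmul := (normalizer ((S : Subgroup ↥T) : Set ↥T)).card_mul_index
    rw [hT60, ← hn2] at hmul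
    by_contra h3
    have h3' : 3 ∣ Nat.card (Sylow 2 ↥T) :=
      (Nat.prime_three.dvd_mul.mp (hmul ▸ (by norm_num : 3 ∣ 60))).resolve_left h3
    -- an element of order three normalises a Sylow 2-subgroup of `A₅`
    set U : Subgroup ↥T := (InvChar.SelfThree.FiveData.fourSub 3 (Or.inl rfl)).comap e.toMonoidHom with hU
    have hUc : Nat.card U = 4 := by
      rw [hU, show (InvChar.SelfThree.FiveData.fourSub 3 (Or.inl rfl)).comap e.toMonoidHom =
        (InvChar.SelfThree.FiveData.fourSub 3 (Or.inl rfl)).map e.symm.toMonoidHom from comap_equiv_eq_map_symm' e _,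
        card_map_of_injective e.symm.injective, InvChar.SelfThree.FiveData.card_fourSub]
    have hUp : IsPGroup 2 ↥U := IsPGroup.of_card (n := 2) (by rw [hUc]; norm_num)
    obtain ⟨R, hR⟩ := hUp.exists_le_sylow
    have hRc : Nat.card (R : Subgroup ↥T) = 4 := by
      rw [Sylow.card_eq_multiplicity, ← Sylow.card_eq_multiplicity S]; exact hScard
    have hRU : (R : Subgroup ↥T) = U := (eq_of_le_of_card_ge hR (by omega)).symm
    set c := e.symm InvChar.SelfThree.AFive.c with hcdef
    have hco : orderOf c = 3 := by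
      rw [hcdef, MulEquiv.orderOf_eq]
      exact orderOf_eq_prime InvChar.SelfThree.AFive.c_facts.1 InvChar.SelfThree.AFive.c_facts.2
    have hcN : c ∈ normalizer ((R : Subgroup ↥T) : Set ↥T) := by
      rw [hRU]
      refine InvChar.SelfThree.mem_normalizer_of_forall fun x hx => ?_
      rw [hU, mem_comap] at hx ⊢
      have := (InvChar.SelfThree.FiveData.inv_fourSub 3 (Or.inl rfl)).conj _ hx
      rw [hcdef]
      simpa using this
    have hR3 : 3 ∣ Nat.card (normalizer ((R : Subgroup ↥T) : Set ↥T)) := hco ▸ Subgroup.orderOf_dvd_natCard _ hcN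
    have hn3 : Nat.card (Sylow 2 ↥T) = (normalizer ((R : Subgroup ↥T) : Set ↥T)).index := R.card_eq_index_normalizer
    have hmul' := (normalizer ((R : Subgroup ↥T) : Set ↥T)).card_mul_index
    rw [hT60, ← hn3] at hmul'
    have h9' := mul_dvd_mul hR3 h3'
    rw [hmul'] at h9'
    norm_num at h9'
  have : 9 * 3 ∣ 60 * Nat.card NW := by
    rw [mul_comm 60, ← hprod]
    exact mul_dvd_mul h9 h3
  obtain ⟨c, hc⟩ := this
  have : 9 ∣ Nat.card NW * 20 := ⟨c, by omega⟩
  exact h27 ((Nat.Coprime.dvd_mul_right (by norm_num)).mp this)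

end Cfsg.Agent.Lib.InvChar.OrdersFive
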