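import Cfsg.Agent.Lib.InvChar.OrdersFive.Red

/-!
No solvable strongly embedded subgroup when the Sylow `3`-subgroup has order at least nine.
-/

set_option autoImplicit false
set_option linter.unusedSectionVars false
set_option linter.style.haveILetI false

namespace Cfsg.Agent.Lib.InvChar.OrdersFive

open Subgroup Cfsg.Agent.Lib.Involutions

universe u

variable {G : Type u} [Group G] [Finite G]

theorem false_of_se (h : Five G) (hns : ¬ Group.IsSolvable G) (h9 : 9 ∣ Nat.card G) {K : Subgroup G}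
    (hK : Cfsg.IsStronglyEmbedded K) (hKs : Group.IsSolvable ↥K) : False := by
  classical
  haveI : Fact (Nat.Prime 2) := ⟨Nat.prime_two⟩
  haveI : Fact (Nat.Prime 3) := ⟨Nat.prime_three⟩
  -- every involution centraliser is a Sylow 2-subgroup
  obtain ⟨E, hE⟩ : ∃ E : Subgroup G, IsKleinFour E := by
    by_contra hc
    push Not at hc
    exact hns (solvable_of_rank_one h hc)
  let S : Sylow 2 G := default
  have hSne : Nontrivial ↥(S : Subgroup G) := by
    rw [nontrivial_iff_ne_bot]
    exact S.ne_bot_of_dvd_card (primes_dvd_of_not_solvable h hns).1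
  haveI := hSne
  haveI := S.2.center_nontrivial
  obtain ⟨⟨⟨z, hzS⟩, hzc⟩, hz⟩ := exists_prime_orderOf_dvd_card' (G := center ↥(S : Subgroup G)) 2
    ((S.2.to_subgroup _).card_eq_or_dvd.resolve_left (by have := Finite.one_lt_card (α := center ↥(S : Subgroup G)); omega))
  have hzo : orderOf z = 2 := by rw [← hz, ← Subgroup.orderOf_coe, ← Subgroup.orderOf_coe]
  have hCz : centralizer ({z} : Set G) = S := S.is_maximal' (centralizer_isPGroup h Nat.prime_two hzo)
    fun s hs => mem_centralizer_singleton_iff.mpr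
      (congrArg Subtype.val (mem_center_iff.mp hzc ⟨s, hs⟩))
  have hCcard : ∀ i : G, orderOf i = 2 → Nat.card (centralizer ({i} : Set G)) = Nat.card S := by
    intro i hi
    obtain ⟨g, rfl⟩ := isConj_iff.1 (se_all_conj hK hzo hi)
    rw [show centralizer ({g * z * g⁻¹} : Set G) = (centralizer ({z} : Set G)).map (MulAut.conj g).toMonoidHom by
      ext x
      rw [mem_centralizer_singleton_iff, mem_map_equiv, MulAut.conj_symm_apply, mem_centralizer_singleton_iff]
      constructor
      · intro hx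
        calc g⁻¹ * x * g * z = g⁻¹ * (x * (g * z * g⁻¹)) * g := by group
          _ = z * (g⁻¹ * x * g) := by rw [hx]; group
      · intro hx
        calc x * (g * z * g⁻¹) = g * (g⁻¹ * x * g * z) * g⁻¹ := by group
          _ = g * z * g⁻¹ * x := by rw [hx]; group,
      card_map_of_injective (MulAut.conj g).injective, hCz]
  obtain ⟨t₀, ht₀⟩ := exists_prime_orderOf_dvd_card' (G := ↥K) 2 hK.2.1.two_dvd
  have ht₀' : orderOf (t₀ : G) = 2 := by rw [Subgroup.orderOf_coe, ht₀]
  have hCK := centralizer_le_of_se hK ht₀' t₀.2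
  obtain ⟨e, hKe⟩ : Nat.card S ∣ Nat.card K := hCcard _ ht₀' ▸ card_dvd_of_le hCK
  have he2 : ¬ 2 ∣ e := by
    intro hd
    obtain ⟨k, hk⟩ := IsPGroup.iff_card.mp S.2
    have h1 : 2 ^ (k + 1) ∣ Nat.card G := by
      refine dvd_trans ?_ (card_subgroup_dvd_card K)
      rw [hKe, show Nat.card S = 2 ^ k from hk, pow_succ]
      exact mul_dvd_mul_left _ hd
    have h2 := S.pow_dvd_card_of_pow_dvd_card h1
    change 2 ^ (k + 1) ∣ Nat.card (S : Subgroup G) at h2
    rw [hk] at h2
    have := (Nat.pow_dvd_pow_iff_le_right (by norm_num)).mp h2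
    omega
  -- a Sylow 2-subgroup and a four-group inside `K`
  obtain ⟨gS, hgS⟩ : ∃ S' : Sylow 2 G, (S' : Subgroup G) ≤ K := by
    have hp := centralizer_isPGroup h Nat.prime_two ht₀'
    obtain ⟨S', hS'⟩ := hp.exists_le_sylow
    refine ⟨S', ?_⟩
    rw [← eq_of_le_of_card_ge hS' (by rw [hCcard _ ht₀', Sylow.card_eq_multiplicity, Sylow.card_eq_multiplicity])]
    exact hCK
  obtain ⟨E', hE', hE'K⟩ : ∃ E' : Subgroup G, IsKleinFour E' ∧ E' ≤ K := by
    haveI := hE
    obtain ⟨S₁, hS₁⟩ := (IsPGroup.of_card (p := 2) (n := 2)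
      (show Nat.card ↥E = 2 ^ 2 by rw [IsKleinFour.card_four]; norm_num)).exists_le_sylow
    obtain ⟨g, hg⟩ := MulAction.exists_smul_eq G S₁ gS
    refine ⟨E.map (MulAut.conj g).toMonoidHom, ⟨?_, ?_⟩, ?_⟩
    · rw [card_map_of_injective (MulAut.conj g).injective, IsKleinFour.card_four]
    · rw [← Monoid.exponent_eq_of_mulEquiv (E.equivMapOfInjective _ (MulAut.conj g).injective),
        IsKleinFour.exponent_two]
    · refine le_trans (map_mono hS₁) (le_trans (le_of_eq ?_) hgS)
      rw [← hg]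
      rfl
  -- an abelian normal 2-subgroup of `K`
  haveI := hKs
  haveI : Nontrivial ↥K := ⟨⟨t₀, 1, invol_ne_one ht₀⟩⟩
  obtain ⟨q, V₀, hq, hV₀n, hV₀1, hV₀c, hV₀q⟩ := exists_abelian_normal (G := ↥K)
  set V := V₀.map K.subtype with hV
  have hV1 : V ≠ ⊥ := fun e' => hV₀1 ((Subgroup.map_eq_bot_iff_of_injective _ K.subtype_injective).mp e')
  have hVK : V ≤ K := map_subtype_le _
  have hKV : K ≤ normalizer (V : Set G) := by
    intro k hk
    rw [mem_normalizer_iff]
    intro x
    constructor
    · rintro ⟨a, ha, rfl⟩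
      exact ⟨⟨k, hk⟩ * a * ⟨k, hk⟩⁻¹, hV₀n.conj_mem a ha _, rfl⟩
    · rintro ⟨a, ha, hax⟩
      refine ⟨(⟨k, hk⟩ : ↥K)⁻¹ * a * (⟨k, hk⟩ : ↥K), by simpa using hV₀n.conj_mem a ha (⟨k, hk⟩ : ↥K)⁻¹, ?_⟩
      rw [map_mul, map_mul, map_inv, hax]
      show k⁻¹ * (k * x * k⁻¹) * k = x
      group
  have hVq : ∀ a ∈ V, a ^ q = 1 := by
    rintro _ ⟨a, ha, rfl⟩
    rw [← map_pow, hV₀q a ha, map_one]
  have hq2 : q = 2 := by
    by_contra hq2
    haveI : Fact q.Prime := ⟨hq⟩
    refine no_klein_fpf h hE' hV1 (hE'K.trans hKV) ?_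
    obtain ⟨k, hk⟩ := IsPGroup.iff_card.mp (isPGroup_of_pow hVq)
    rw [hk]
    exact (hq.odd_of_ne_two hq2).pow
  subst hq2
  -- the involutions of `K` form `V \ {1}`
  obtain ⟨v, hv, hv1⟩ : ∃ v ∈ V, v ≠ 1 := V.bot_or_exists_ne_one.resolve_left hV1
  have hVo : ∀ a ∈ V, a ≠ 1 → orderOf a = 2 := fun a ha ha1 => orderOf_eq_prime (hVq a ha) ha1
  have hinV : ∀ i ∈ K, orderOf i = 2 → i ∈ V := by
    intro i hi hio
    obtain ⟨g, rfl⟩ := isConj_iff.1 (se_all_conj hK (hVo v hv hv1) hio)
    exact (mem_normalizer_iff.mp (hKV (mem_of_conj_mem hK (hVo v hv hv1) (hVK hv) hi)) v).mp hv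
  have hev : Nat.card V - 1 = e := by
    letI : MulAction ↥K {w : ↥V // w ≠ 1} :=
      { smul := fun g w => ⟨⟨(g : G) * w.1 * (g : G)⁻¹, (mem_normalizer_iff.mp (hKV g.2) _).mp w.1.2⟩,
          fun e' => w.2 (Subtype.ext (conj_eq_one_iff.mp (congrArg Subtype.val e')))⟩
        one_smul := fun w => Subtype.ext (Subtype.ext (show ((1 : ↥K) : G) * (w.1 : G) * ((1 : ↥K) : G)⁻¹ = w.1 by simp))
        mul_smul := fun g g' w => Subtype.ext (Subtype.ext
          (show ((g * g' : ↥K) : G) * (w.1 : G) * ((g * g' : ↥K) : G)⁻¹ =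
            (g : G) * ((g' : G) * w.1 * (g' : G)⁻¹) * (g : G)⁻¹ by rw [Subgroup.coe_mul]; group)) }
    let v' : {w : ↥V // w ≠ 1} := ⟨⟨v, hv⟩, fun e' => hv1 (congrArg Subtype.val e')⟩
    have horb : MulAction.orbit ↥K v' = Set.univ := Set.eq_univ_of_forall fun w => by
      have hwo := hVo (w.1 : G) w.1.2 (fun e' => w.2 (Subtype.ext e'))
      obtain ⟨g, hg⟩ := isConj_iff.1 (se_all_conj hK (hVo v hv hv1) hwo)
      exact ⟨⟨g, mem_of_conj_mem hK (hVo v hv hv1) (hVK hv) (hg ▸ hVK w.1.2)⟩, Subtype.ext (Subtype.ext hg)⟩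
    have hst : MulAction.stabilizer ↥K v' = (centralizer ({v} : Set G)).subgroupOf K := by
      ext g
      rw [MulAction.mem_stabilizer_iff, mem_subgroupOf, mem_centralizer_singleton_iff]
      constructor
      · intro hg
        exact mul_inv_eq_iff_eq_mul.mp (congrArg (fun w => ((w.1 : ↥V) : G)) hg : (g : G) * v * (g : G)⁻¹ = v)
      · intro hg
        exact Subtype.ext (Subtype.ext (mul_inv_eq_iff_eq_mul.mpr hg : (g : G) * v * (g : G)⁻¹ = v))
    have h1 := MulAction.index_stabilizer ↥K v'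
    rw [horb, hst, Set.ncard_univ] at h1
    have h2 : Nat.card {w : ↥V // w ≠ 1} = Nat.card V - 1 := by
      haveI := Fintype.ofFinite ↥V
      rw [Nat.card_eq_fintype_card, Nat.card_eq_fintype_card, Fintype.card_subtype_compl, Fintype.card_subtype_eq]
    have h3 := ((centralizer ({v} : Set G)).subgroupOf K).card_mul_index
    rw [Nat.card_congr (subgroupOfEquivOfLe (centralizer_le_of_se hK (hVo v hv hv1) (hVK hv))).toEquiv,
      hCcard v (hVo v hv hv1), hKe] at h3
    rw [← h2, ← h1]
    exact Nat.eq_of_mul_eq_mul_left Nat.card_pos h3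
  have hV3 : 4 ≤ Nat.card V := by
    have hle : E' ≤ V := by
      intro a ha
      by_cases ha1 : a = 1
      · exact ha1 ▸ one_mem _
      · haveI := hE'
        refine hinV a (hE'K ha) (orderOf_eq_prime ?_ ha1)
        have h1 : (⟨a, ha⟩ : ↥E') ^ Monoid.exponent ↥E' = 1 := Monoid.pow_exponent_eq_one _
        rw [IsKleinFour.exponent_two] at h1
        exact congrArg Subtype.val h1
    haveI := hE'
    exact (IsKleinFour.card_four (G := ↥E')).symm.le.trans (Subgroup.card_le_of_le hle)
  obtain ⟨m, hm⟩ := IsPGroup.iff_card.mp (isPGroup_of_pow hVq)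
  -- `e = 3`
  have hpart : ∀ p : ℕ, p.Prime → p ≠ 2 → e.factorization p ≤ 1 := by
    intro p hp hp2
    haveI : Fact p.Prime := ⟨hp⟩
    let R : Sylow p ↥K := default
    have hRp : IsPGroup p ↥((R : Subgroup ↥K).map K.subtype) := R.2.map _
    have h1 := card_dvd_of_fpf h hp2 hRp hV1 ((map_subtype_le _).trans hKV)
      (not_dvd_of_pow Nat.prime_two hp hp2 hVq)
    rw [card_map_of_injective K.subtype_injective] at h1
    change Nat.card R ∣ p at h1
    rw [Sylow.card_eq_multiplicity, hKe, Nat.factorization_mul Nat.card_pos.ne' (by omega), Finsupp.add_apply] at h1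
    have := (Nat.pow_dvd_pow_iff_le_right hp.one_lt).mp (h1.trans (dvd_of_eq (pow_one p).symm))
    omega
  have he3 : e = 3 := by
    have h35 : 3 ∣ Nat.card K → 5 ∣ Nat.card K → False := fun h3 h5 =>
      not_three_primes_aux _ ↥K rfl (h.subgroup K) hKs hK.2.1.two_dvd h3 h5
    have hprimes : ∀ p, p.Prime → p ∣ e → p = 3 ∨ p = 5 := fun p hp hd => by
      rcases prime_cases h hp ((hd.trans ⟨Nat.card S, by rw [hKe, mul_comm]⟩).trans (card_subgroup_dvd_card K)) with e' | e' | e'
      · exact absurd (e' ▸ hd) he2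
      · exact Or.inl e'
      · exact Or.inr e'
    have hd15 : e ∣ 15 := by
      rw [← Nat.factorization_le_iff_dvd (by omega) (by norm_num)]
      intro p
      by_cases hp : p ∈ e.primeFactors
      · rw [Nat.mem_primeFactors] at hp
        have h1 := hprimes p hp.1 hp.2.1
        refine (hpart p hp.1 (by omega)).trans ?_
        apply Nat.Prime.factorization_pos_of_dvd hp.1 (by norm_num)
        rcases h1 with rfl | rfl <;> norm_num
      · rw [← Nat.support_factorization] at hp
        rw [Finsupp.notMem_support_iff.mp hp]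
        exact Nat.zero_le _
    have hm4 : m ≤ 4 := by
      by_contra hlt
      have h5 : 2 ^ 5 ≤ 2 ^ m := Nat.pow_le_pow_right two_pos (by omega)
      have := Nat.le_of_dvd (by norm_num) hd15
      omega
    interval_cases m <;> simp only [Nat.reducePow] at hm <;> first
      | omega
      | (exfalso
         have : e = 7 := by omega
         rw [this] at hd15; norm_num at hd15)
      | (exfalso
         have : e = 15 := by omega
         exact h35 (by rw [hKe, this]; exact dvd_mul_of_dvd_right (by norm_num) _)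
           (by rw [hKe, this]; exact dvd_mul_of_dvd_right (by norm_num) _))
  -- points
  let x : G ⧸ K := QuotientGroup.mk 1
  have hstab : ∀ g : G, g • x = x ↔ g ∈ K := fun g => smul_one_eq_iff
  have hfix : (involMoving x x).ncard = 3 := by
    have : involMoving x x = Subtype.val '' (Set.univ : Set {w : G // w ∈ V ∧ w ≠ 1}) := by
      ext i
      constructor
      · rintro ⟨hi, hix⟩
        exact ⟨⟨i, hinV i ((hstab i).mp hix) hi, invol_ne_one hi⟩, trivial, rfl⟩
      · rintro ⟨⟨w, hw, hw1⟩, -, rfl⟩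
        exact ⟨hVo w hw hw1, (hstab w).mpr (hVK hw)⟩
    rw [this, Set.ncard_image_of_injective _ Subtype.val_injective, Set.ncard_univ]
    have h2 : Nat.card {w : G // w ∈ V ∧ w ≠ 1} = Nat.card {w : ↥V // w ≠ 1} :=
      Nat.card_congr
        { toFun := fun w => ⟨⟨w.1, w.2.1⟩, fun e' => w.2.2 (congrArg Subtype.val e')⟩
          invFun := fun w => ⟨w.1.1, w.1.2, fun e' => w.2 (Subtype.ext e')⟩
          left_inv := fun w => rfl
          right_inv := fun w => rfl }
    haveI := Fintype.ofFinite ↥V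
    rw [h2, Nat.card_eq_fintype_card, Fintype.card_subtype_compl, Fintype.card_subtype_eq,
      ← Nat.card_eq_fintype_card]
    omega
  obtain ⟨g, hg⟩ : ∃ g : G, g ∉ K := by
    by_contra hc
    push Not at hc
    exact hK.1 (eq_top_iff.mpr fun g _ => hc g)
  set y : G ⧸ K := g • x with hy
  have hxy : x ≠ y := fun e' => hg ((hstab g).mp e'.symm)
  obtain ⟨i, j, hi, hj, hij⟩ : ∃ i j, i ∈ involMoving x y ∧ j ∈ involMoving x y ∧ i ≠ j := by
    have := ncard_involMoving_eq hK hxy
    rw [hfix] at this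
    obtain ⟨i, j, hi, hj, hij⟩ := (Set.one_lt_ncard_iff (Set.toFinite _)).mp (show 1 < (involMoving x y).ncard by omega)
    exact ⟨i, j, hi, hj, hij⟩
  have hcardK3 : ∀ D : Subgroup G, D ≤ K → Odd (Nat.card D) → Nat.card D ∣ 3 := by
    intro D hD hDo
    have h1 := card_dvd_of_le hD
    rw [hKe, he3] at h1
    obtain ⟨k, hk⟩ := IsPGroup.iff_card.mp S.2
    rw [show Nat.card S = 2 ^ k from hk] at h1
    exact Nat.Coprime.dvd_of_dvd_mul_left ((Nat.coprime_two_right.mpr hDo).pow_right k) h1
  have hpair : ∀ z : G ⧸ K, z ≠ x → ∀ c : G, c • x = x → c • z = z → c ^ 3 = 1 := by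
    intro z hzx c hcx hcz
    obtain ⟨a, rfl⟩ := QuotientGroup.mk_surjective z
    have haK : a ∉ K := fun ha => hzx (QuotientGroup.eq.mpr (by simpa using K.inv_mem ha))
    have hmem : c ∈ K ⊓ K.map (MulAut.conj a).toMonoidHom := mem_inf_conj_iff.mpr ⟨hcx, hcz⟩
    have h1 := hcardK3 _ inf_le_left (hK.2.2 a haK)
    exact orderOf_dvd_iff_pow_eq_one.mp ((Subgroup.orderOf_dvd_natCard _ hmem).trans h1)
  set d := i * j with hd
  have hdx : d • x = x := by
    rw [hd, mul_smul, hj.2, ← hi.2, ← mul_smul, invol_mul_self hi.1, one_smul]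
  have hdy : d • y = y := by
    rw [hd, mul_smul, ← hj.2, ← mul_smul j j, invol_mul_self hj.1, one_smul, hi.2, hj.2]
  have hd1 : d ≠ 1 := fun e' => hij (by
    rw [hd, mul_eq_one_iff_eq_inv, invol_inv hj.1] at e'
    exact e')
  have hdo : orderOf d = 3 := orderOf_eq_prime (hpair y hxy.symm d hdx hdy) hd1
  have hid : i * d * i⁻¹ = d⁻¹ := conj_mul_left_invol hi.1 hj.1
  set C := centralizer ({d} : Set G) with hC
  -- inverting involutions
  let J := {k : G | orderOf k = 2 ∧ k * d * k⁻¹ = d⁻¹}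
  have hC3 : IsPGroup 3 ↥C := centralizer_isPGroup h Nat.prime_three hdo
  have hJC : J.ncard = Nat.card C := by
    rw [← Nat.card_coe_set_eq]
    refine Nat.card_congr
      { toFun := fun k => ⟨i * k.1, mem_centralizer_singleton_iff.mpr ?_⟩
        invFun := fun c => ⟨i * c.1, ?_⟩
        left_inv := fun k => Subtype.ext (show i * (i * k.1) = k.1 by
          rw [← mul_assoc, invol_mul_self hi.1, one_mul])
        right_inv := fun c => Subtype.ext (show i * (i * (c : G)) = c by
          rw [← mul_assoc, invol_mul_self hi.1, one_mul]) }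
    · have h1 : i * k.1 * d * (i * k.1)⁻¹ = d := by
        calc i * k.1 * d * (i * k.1)⁻¹ = i * (k.1 * d * k.1⁻¹) * i⁻¹ := by group
          _ = (i * d * i⁻¹)⁻¹ := by rw [k.2.2]; group
          _ = d := by rw [hid, inv_inv]
      exact mul_inv_eq_iff_eq_mul.mp h1
    · have hc := mem_centralizer_singleton_iff.mp c.2
      have hconj : i * (c : G) * d * (i * (c : G))⁻¹ = d⁻¹ := by
        calc i * (c : G) * d * (i * (c : G))⁻¹ = i * ((c : G) * d * (c : G)⁻¹) * i⁻¹ := by group
          _ = d⁻¹ := by rw [hc, mul_inv_cancel_right, hid]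
      refine ⟨?_, hconj⟩
      set w := i * (c : G) with hw
      have hw1 : w ≠ 1 := fun e' => by
        rw [e'] at hconj
        have : d * d = 1 := by
          rw [one_mul, inv_one, mul_one] at hconj
          nth_rw 1 [hconj]
          exact inv_mul_cancel d
        have := orderOf_dvd_of_pow_eq_one (show d ^ 2 = 1 by rw [sq, this])
        rw [hdo] at this
        norm_num at this
      have hww : w * w * d = d * (w * w) := by
        have h1 : w * d * w⁻¹ = d⁻¹ := hconj
        calc w * w * d = w * (w * d * w⁻¹) * w := by group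
          _ = w * d⁻¹ * w := by rw [h1]
          _ = (w * d * w⁻¹)⁻¹ * (w * w) := by group
          _ = d * (w * w) := by rw [h1, inv_inv]
      have hwwC : w * w ∈ C := mem_centralizer_singleton_iff.mpr hww
      obtain ⟨k, hk⟩ := hC3 ⟨w * w, hwwC⟩
      have hk' : w ^ (2 * 3 ^ k) = 1 := by
        rw [pow_mul, sq]; exact congrArg Subtype.val hk
      have hodd : ¬ Odd (orderOf w) := by
        intro ho
        obtain ⟨l, hl⟩ := ho
        -- an element of odd order inverting `d` centralises it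
        have h2 : w ^ (2 * l) * d = d * w ^ (2 * l) := by
          rw [pow_mul, sq]
          exact ((show Commute (w * w) d from hww).pow_left l).eq
        have hwpow : w * d = d * w := by
          have h3 : w = (w ^ (2 * l))⁻¹ := by
            rw [eq_inv_iff_mul_eq_one, ← pow_succ', ← hl, pow_orderOf_eq_one]
          rw [h3]
          exact ((show Commute (w ^ (2 * l)) d from h2).inv_left).eq
        rw [hwpow, mul_inv_cancel_right] at hconj
        have := orderOf_dvd_of_pow_eq_one (show d ^ 2 = 1 by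
          rw [sq]; nth_rw 1 [hconj]; exact inv_mul_cancel d)
        rw [hdo] at this
        norm_num at this
      have h5 := h w
      have h0 := orderOf_pos w
      have hd6 := orderOf_dvd_of_pow_eq_one hk'
      have hev' : 2 ∣ orderOf w := by
        rcases Nat.even_or_odd (orderOf w) with he' | ho
        · exact he'.two_dvd
        · exact absurd ho hodd
      have hn4 : orderOf w ≠ 4 := by
        intro e'
        rw [e'] at hd6
        have : 2 ∣ 3 ^ k := Nat.dvd_of_mul_dvd_mul_left two_pos (show 2 * 2 ∣ 2 * 3 ^ k from hd6)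
        exact absurd (Nat.prime_two.dvd_of_dvd_pow this) (by norm_num)
      omega
  -- fixed points of `d` other than `x`
  haveI := Fintype.ofFinite G
  haveI := Fintype.ofFinite (G ⧸ K)
  have hcount : J.ncard = 3 * ((Finset.univ : Finset (G ⧸ K)).filter fun z => z ≠ x ∧ d • z = z).card := by
    set J' := (Finset.univ : Finset G).filter fun k => orderOf k = 2 ∧ k * d * k⁻¹ = d⁻¹ with hJ'
    have hJJ : J.ncard = J'.card := by
      rw [← Set.ncard_coe_finset]
      congr 1
      ext k
      simp [J, hJ']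
    rw [hJJ, Finset.card_eq_sum_card_fiberwise (f := fun k : G => k • x)
      (t := (Finset.univ : Finset (G ⧸ K)).filter fun z => z ≠ x ∧ d • z = z) ?_]
    · rw [Finset.sum_const_nat (m := 3) ?_, mul_comm]
      intro z hz'
      obtain ⟨hzx, hdz⟩ := (Finset.mem_filter.mp hz').2
      rw [← hfix, ← ncard_involMoving_eq hK (Ne.symm hzx), ← Set.ncard_coe_finset]
      congr 1
      ext k
      simp only [Finset.coe_filter, Finset.mem_filter, Finset.mem_univ, true_and, Set.mem_setOf_eq, hJ', involMoving]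
      refine ⟨fun hk => ⟨hk.1.1, hk.2⟩, fun hk => ⟨⟨hk.1, ?_⟩, hk.2⟩⟩
      -- `k` normalises the two-point stabiliser
      have hkz : k • z = x := by rw [← hk.2, ← mul_smul, invol_mul_self hk.1, one_smul]
      set d' := k * d * k⁻¹ with hd'
      have h1 : d' • x = x := by
        rw [hd', mul_smul, mul_smul, invol_inv hk.1, hk.2, hdz, hkz]
      have h2 : d' • z = z := by
        rw [hd', mul_smul, mul_smul, invol_inv hk.1, hkz, hdx, hk.2]
      obtain ⟨a, rfl⟩ := QuotientGroup.mk_surjective z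
      have haK : a ∉ K := fun ha => hzx (QuotientGroup.eq.mpr (by simpa using K.inv_mem ha))
      set D := K ⊓ K.map (MulAut.conj a).toMonoidHom
      have hdD : d ∈ D := mem_inf_conj_iff.mpr ⟨hdx, hdz⟩
      have hd'D : d' ∈ D := mem_inf_conj_iff.mpr ⟨h1, h2⟩
      have hDz : zpowers d = D := by
        refine eq_of_le_of_card_ge (zpowers_le.mpr hdD) ?_
        rw [Nat.card_zpowers, hdo]
        exact Nat.le_of_dvd (by norm_num) (hcardK3 _ inf_le_left (hK.2.2 a haK))
      rw [← hDz] at hd'D
      obtain ⟨l, hl⟩ := mem_zpowers_iff.mp hd'D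
      rw [← zpow_mod_orderOf, hdo] at hl
      have h0 := Int.emod_nonneg l (show ((3 : ℕ) : ℤ) ≠ 0 by norm_num)
      have h3 := Int.emod_lt_of_pos l (show (0 : ℤ) < ((3 : ℕ) : ℤ) by norm_num)
      have hl' : l % ((3 : ℕ) : ℤ) = 0 ∨ l % ((3 : ℕ) : ℤ) = 1 ∨ l % ((3 : ℕ) : ℤ) = 2 := by omega
      rcases hl' with e' | e' | e' <;> rw [e'] at hl
      · exfalso
        rw [zpow_zero] at hl
        exact hd1 (conj_eq_one_iff.mp (hl.symm.trans rfl : k * d * k⁻¹ = 1))
      · exfalso
        rw [zpow_one] at hl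
        refine not_commute h (a := k) (b := d) (invol_ne_one hk.1) hd1 (by rw [hk.1, hdo]; norm_num) ?_
        exact mul_inv_eq_iff_eq_mul.mp hl.symm
      · have h6 : d ^ (2 : ℤ) = d⁻¹ := by
          rw [show (2 : ℤ) = ((2 : ℕ) : ℤ) from rfl, zpow_natCast, eq_inv_iff_mul_eq_one, ← pow_succ]
          exact orderOf_dvd_iff_pow_eq_one.mp (dvd_of_eq hdo)
        rw [← h6]
        exact hl.symm
    · intro k hk
      simp only [hJ', Finset.coe_filter, Finset.mem_univ, true_and, Set.mem_setOf_eq] at hk ⊢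
      refine ⟨fun e' => ?_, ?_⟩
      · have hkV := hinV k ((hstab k).mp e') hk.1
        have h1 : k * (d * k⁻¹ * d⁻¹) ∈ V :=
          mul_mem hkV ((mem_normalizer_iff.mp (hKV ((hstab d).mp hdx)) _).mp (V.inv_mem hkV))
        have h2 : k * (d * k⁻¹ * d⁻¹) = d⁻¹ * d⁻¹ := by
          rw [← mul_assoc, ← mul_assoc, hk.2]
        rw [h2] at h1
        have h3 := orderOf_dvd_of_pow_eq_one (hVq _ h1)
        have h4 : (d⁻¹ * d⁻¹) = d := by
          rw [← mul_inv_rev, inv_eq_iff_mul_eq_one, ← sq, ← pow_succ]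
          exact orderOf_dvd_iff_pow_eq_one.mp (dvd_of_eq hdo)
        rw [h4, hdo] at h3
        norm_num at h3
      · calc d • k • x = (d * k) • x := (mul_smul d k x).symm
          _ = (k * d⁻¹) • x := by
            congr 1
            rw [← hk.2]
            have := invol_mul_self hk.1
            calc d * k = (k * k) * d * k := by rw [this, one_mul]
              _ = k * (k * d * k⁻¹) := by rw [invol_inv hk.1]; group
          _ = k • x := by rw [mul_smul, inv_smul_eq_iff.mpr hdx.symm]
  -- `C` acts semiregularly modulo `⟨d⟩`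
  obtain ⟨b, hb⟩ := IsPGroup.iff_card.mp hC3
  rw [hJC, hb] at hcount
  have hb1 : b = 1 := by
    have hb0 : b ≠ 0 := fun e' => by
      rw [e', pow_zero] at hb
      have := Nat.le_of_dvd (by omega) (hb ▸ Subgroup.orderOf_dvd_natCard C (mem_centralizer_singleton_iff.mpr rfl : d ∈ C))
      omega
    by_contra hbne
    let Φ := {z : G ⧸ K // d • z = z}
    letI : MulAction ↥C Φ :=
      { smul := fun c z => ⟨(c : G) • z.1, by
          rw [← mul_smul, ← mem_centralizer_singleton_iff.mp c.2, mul_smul, z.2]⟩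
        one_smul := fun z => Subtype.ext (one_smul G z.1)
        mul_smul := fun c c' z => Subtype.ext (mul_smul (c : G) (c' : G) z.1) }
    have hnofix : IsEmpty (MulAction.fixedPoints ↥C Φ) := ⟨fun z => by
      obtain ⟨a, ha⟩ := QuotientGroup.mk_surjective z.1.1
      have hle : C ≤ K.map (MulAut.conj a).toMonoidHom := fun c hc => by
        have h1 : c • z.1.1 = z.1.1 := congrArg Subtype.val (z.2 ⟨c, hc⟩)
        rw [← ha, smul_mk_eq_iff] at h1
        exact mem_conj_map_iff.mpr h1
      have h2 := card_dvd_of_le hle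
      rw [card_map_of_injective (MulAut.conj a).injective, hb, hKe, he3] at h2
      have hcp : (3 ^ b).Coprime (Nat.card S) := by
        obtain ⟨k, hk⟩ := IsPGroup.iff_card.mp S.2
        rw [show Nat.card S = 2 ^ k from hk]
        exact (show Nat.Coprime 3 2 by norm_num).pow b k
      have h3 := Nat.le_of_dvd (by norm_num) (hcp.dvd_of_dvd_mul_left h2)
      have h4 : 3 ^ 2 ≤ 3 ^ b := Nat.pow_le_pow_right (by norm_num) (by omega)
      omega⟩
    have hmod := hC3.card_modEq_card_fixedPoints Φ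
    rw [Nat.card_eq_zero.mpr (Or.inl hnofix)] at hmod
    have hΦ : Nat.card Φ = ((Finset.univ : Finset (G ⧸ K)).filter fun z => z ≠ x ∧ d • z = z).card + 1 := by
      rw [Nat.card_eq_fintype_card, Fintype.card_subtype]
      rw [← Finset.card_insert_of_notMem (s := (Finset.univ : Finset (G ⧸ K)).filter fun z => z ≠ x ∧ d • z = z)
        (a := x) (by simp)]
      congr 1
      ext z
      simp only [Finset.mem_filter, Finset.mem_univ, true_and, Finset.mem_insert]
      by_cases hzx : z = x
      · simp [hzx, hdx]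
      · simp [hzx]
    rw [hΦ, Nat.modEq_zero_iff_dvd] at hmod
    have h9' : 3 * 3 ∣ 3 ^ b := by
      rw [← sq]; exact pow_dvd_pow 3 (by omega)
    rw [hcount] at h9'
    have := (Nat.dvd_add_right (Nat.dvd_of_mul_dvd_mul_left (by norm_num) h9')).mp hmod
    norm_num at this
  subst hb1
  -- hence `d` generates a Sylow 3-subgroup
  obtain ⟨P, hP⟩ := (IsPGroup.of_card (p := 3) (n := 1) (show Nat.card ↥(zpowers d) = 3 ^ 1 by
    rw [Nat.card_zpowers, hdo, pow_one])).exists_le_sylow
  have hdP : d ∈ (P : Subgroup G) := hP (mem_zpowers d)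
  have hP9 := P.pow_dvd_card_of_pow_dvd_card (n := 2) (by simpa using h9)
  haveI : Nontrivial ↥(P : Subgroup G) := ⟨⟨⟨d, hdP⟩, 1, fun e' => hd1 (congrArg Subtype.val e')⟩⟩
  haveI := P.2.center_nontrivial
  obtain ⟨c, hc1⟩ := exists_ne (1 : center ↥(P : Subgroup G))
  have hcC : ((c : ↥(P : Subgroup G)) : G) ∈ C := mem_centralizer_singleton_iff.mpr
    (congrArg Subtype.val ((mem_center_iff.mp c.2 ⟨d, hdP⟩).symm))
  have hCd : zpowers d = C := eq_of_le_of_card_ge (zpowers_le.mpr (mem_centralizer_singleton_iff.mpr rfl))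
    (by rw [hb, Nat.card_zpowers, hdo, pow_one])
  rw [← hCd] at hcC
  obtain ⟨l, hl⟩ := mem_zpowers_iff.mp hcC
  have hco : orderOf (((c : ↥(P : Subgroup G)) : G)) = 3 := by
    have h1 : orderOf (((c : ↥(P : Subgroup G)) : G)) ∣ 3 := by
      apply orderOf_dvd_of_pow_eq_one
      rw [← hl, ← zpow_natCast, zpow_comm, zpow_natCast, ← hdo, pow_orderOf_eq_one, one_zpow]
    exact ((Nat.dvd_prime Nat.prime_three).mp h1).resolve_left fun e' =>
      hc1 (Subtype.ext (Subtype.ext (orderOf_eq_one_iff.mp e')))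
  have hdc : d ∈ zpowers (((c : ↥(P : Subgroup G)) : G)) := by
    rw [eq_of_le_of_card_ge (zpowers_le.mpr hcC) (by rw [Nat.card_zpowers, Nat.card_zpowers, hco, hdo])]
    exact mem_zpowers d
  have hPC : (P : Subgroup G) ≤ C := by
    intro w hw
    obtain ⟨l', hl'⟩ := mem_zpowers_iff.mp hdc
    have hwc : Commute w ((c : ↥(P : Subgroup G)) : G) := congrArg Subtype.val (mem_center_iff.mp c.2 ⟨w, hw⟩)
    rw [mem_centralizer_singleton_iff, ← hl']
    exact (hwc.zpow_right l').eq
  have h12 := hP9.trans (card_dvd_of_le hPC)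
  rw [hb] at h12
  norm_num at h12

end Cfsg.Agent.Lib.InvChar.OrdersFive
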