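import Cfsg.Agent.Lib.InvChar.OrdersFive.Red
import Cfsg.Agent.S3261

/-!
Two maximal `2`-local subgroups isomorphic to `S₄` meeting in a group of order eight.
-/

set_option autoImplicit false
set_option linter.unusedSectionVars false
set_option linter.style.haveILetI false

namespace Cfsg.Agent.Lib.InvChar.OrdersFive

open Subgroup Cfsg.Agent.Lib.Involutions
open Equiv (Perm)

universe u

theorem v4_mul : ∀ a b : Perm (Fin 4), a * a = 1 → Perm.sign a = 1 → b * b = 1 → Perm.sign b = 1 →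
    a * b * (a * b) = 1 ∧ Perm.sign (a * b) = 1 := by decide +kernel

theorem v4_cent : ∀ g : Perm (Fin 4), (∀ a, a * a = 1 → Perm.sign a = 1 → g * a = a * g) →
    g * g = 1 ∧ Perm.sign g = 1 := by decide +kernel

theorem v4_card : Nat.card {a : Perm (Fin 4) // a * a = 1 ∧ Perm.sign a = 1} = 4 := by
  rw [Nat.card_eq_fintype_card]; decide +kernel

variable {G : Type u} [Group G]

/-- The normal four-subgroup of a subgroup isomorphic to `S₄`. -/
theorem exists_four [Finite G] {M : Subgroup G} (ψ : ↥M ≃* Perm (Fin 4)) :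
    ∃ V : Subgroup G, V ≤ M ∧ Nat.card V = 4 ∧ (∀ v ∈ V, v * v = 1) ∧
      (∀ m ∈ M, ∀ v ∈ V, m * v * m⁻¹ ∈ V) ∧ (∀ m ∈ M, (∀ v ∈ V, m * v = v * m) → m ∈ V) := by
  let V : Subgroup ↥M :=
    { carrier := {g | ψ g * ψ g = 1 ∧ Perm.sign (ψ g) = 1}
      one_mem' := by simp
      mul_mem' := fun {a b} ha hb => by
        rw [Set.mem_setOf_eq, map_mul]; exact v4_mul _ _ ha.1 ha.2 hb.1 hb.2
      inv_mem' := fun {a} ha => by
        rw [Set.mem_setOf_eq, map_inv, inv_eq_of_mul_eq_one_right ha.1]; exact ha }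
  refine ⟨V.map M.subtype, map_subtype_le _, ?_, ?_, ?_, ?_⟩
  · rw [card_map_of_injective M.subtype_injective, ← v4_card]
    exact Nat.card_congr (ψ.toEquiv.subtypeEquiv fun g => Iff.rfl)
  · rintro _ ⟨g, hg, rfl⟩
    rw [← map_mul, show g * g = 1 from ψ.injective (by rw [map_mul, map_one]; exact hg.1), map_one]
  · rintro m hm _ ⟨g, hg, rfl⟩
    refine ⟨⟨m, hm⟩ * g * ⟨m, hm⟩⁻¹, ⟨?_, ?_⟩, rfl⟩
    · rw [map_mul, map_mul, map_inv]
      calc ψ ⟨m, hm⟩ * ψ g * (ψ ⟨m, hm⟩)⁻¹ * (ψ ⟨m, hm⟩ * ψ g * (ψ ⟨m, hm⟩)⁻¹) =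
          ψ ⟨m, hm⟩ * (ψ g * ψ g) * (ψ ⟨m, hm⟩)⁻¹ := by group
        _ = 1 := by rw [hg.1]; group
    · rw [map_mul, map_mul, map_inv, map_mul, map_mul, map_inv, hg.2, mul_one, mul_inv_cancel]
  · intro m hm hc
    refine ⟨⟨m, hm⟩, v4_cent _ fun a ha ha' => ?_, rfl⟩
    obtain ⟨g, rfl⟩ := ψ.surjective a
    rw [← map_mul, ← map_mul]
    exact congrArg ψ (Subtype.ext (hc g ⟨g, ⟨ha, ha'⟩, rfl⟩))

variable [Finite G]

/-- A group generated by two involutions with product of order four. -/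
theorem exists_dihedral {a b : G} (ha : a * a = 1) (hb : b * b = 1) (hc : orderOf (a * b) = 4)
    (hab : a ∉ zpowers (a * b)) {D : Subgroup G} (haD : a ∈ D) (hbD : b ∈ D) (hD : Nat.card D = 8) :
    Nonempty (DihedralGroup 4 ≃* ↥D) := by
  set c : ↥D := ⟨a * b, mul_mem haD hbD⟩ with hcdef
  set a' : ↥D := ⟨a, haD⟩ with hadef
  have hcord : orderOf c = 4 := by rw [hcdef, Subgroup.orderOf_mk, hc]
  have hac : ∀ n : ℤ, a' * c ^ n = c ^ (-n) * a' := by
    intro n
    have h1 : a' * c * a'⁻¹ = c⁻¹ := Subtype.ext (by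
      show a * (a * b) * a⁻¹ = (a * b)⁻¹
      rw [mul_inv_rev, inv_eq_of_mul_eq_one_right ha, inv_eq_of_mul_eq_one_right hb, ← mul_assoc, ha, one_mul])
    have h2 := inverts_zpow h1 n
    rw [← h2, inv_mul_cancel_right]
  have hc4 : c ^ (4 : ℤ) = 1 := by
    rw [show (4 : ℤ) = ((4 : ℕ) : ℤ) from rfl, zpow_natCast, ← hcord, pow_orderOf_eq_one]
  have hmod : ∀ m n : ℤ, (m : ZMod 4) = (n : ZMod 4) → c ^ m = c ^ n := by
    intro m n hmn
    rw [ZMod.intCast_eq_intCast_iff_dvd_sub] at hmn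
    obtain ⟨k, hk⟩ := hmn
    have : n = m + ((4 : ℕ) : ℤ) * k := by omega
    rw [this, zpow_add, zpow_mul, show (((4 : ℕ) : ℤ)) = 4 from rfl, hc4, one_zpow, mul_one]
  have ha2 : a' * a' = 1 := Subtype.ext ha
  let f : DihedralGroup 4 →* ↥D :=
    MonoidHom.mk' (fun u => match u with
      | .r i => c ^ (i.val : ℤ)
      | .sr i => a' * c ^ (i.val : ℤ)) (by
      rintro (i | i) (j | j) <;> simp only [DihedralGroup.r_mul_r, DihedralGroup.r_mul_sr,
        DihedralGroup.sr_mul_r, DihedralGroup.sr_mul_sr]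
      · rw [← zpow_add]; exact hmod _ _ (by simp)
      · rw [← mul_assoc (c ^ (i.val : ℤ)), show c ^ (i.val : ℤ) * a' = a' * c ^ (-(i.val : ℤ)) by
          rw [hac, neg_neg], mul_assoc, ← zpow_add]
        · refine congrArg (a' * ·) (hmod _ _ ?_); simp [sub_eq_neg_add]
      · rw [mul_assoc, ← zpow_add]; refine congrArg (a' * ·) (hmod _ _ ?_); simp
      · rw [mul_assoc, ← mul_assoc (c ^ (i.val : ℤ)), show c ^ (i.val : ℤ) * a' = a' * c ^ (-(i.val : ℤ)) by
          rw [hac, neg_neg], mul_assoc, ← mul_assoc, ha2, one_mul, ← zpow_add]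
        exact hmod _ _ (by simp [sub_eq_neg_add]))
  have hinj : Function.Injective f := by
    rw [injective_iff_map_eq_one]
    rintro (i | i) hu
    · have h1 : c ^ i.val = 1 := by rw [← zpow_natCast]; exact hu
      have h0 := orderOf_dvd_of_pow_eq_one h1
      rw [hcord] at h0
      have h2 := Nat.eq_zero_of_dvd_of_lt h0 (ZMod.val_lt i)
      rw [(ZMod.val_eq_zero i).mp h2, DihedralGroup.r_zero]
    · exfalso
      have h1 : a' = (c ^ (i.val : ℤ))⁻¹ := eq_inv_of_mul_eq_one_left hu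
      rw [← zpow_neg] at h1
      exact hab ⟨-(i.val : ℤ), (congrArg Subtype.val h1).symm.trans rfl⟩
  exact ⟨MulEquiv.ofBijective f ((Nat.bijective_iff_injective_and_card _).mpr
    ⟨hinj, by rw [DihedralGroup.nat_card, hD]⟩)⟩

set_option maxHeartbeats 1000000 in
theorem equiv_A6_of_sym_four [IsSimpleGroup G] (hns : ¬ Group.IsSolvable G) (h : Five G)
    {M₁ M₂ : Subgroup G} (hne : M₁ ≠ M₂) (hM₁ : Cfsg.IsMaximalTwoLocal M₁)
    (hM₂ : Cfsg.IsMaximalTwoLocal M₂) (hψ₁ : Nonempty (↥M₁ ≃* Perm (Fin 4)))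
    (hψ₂ : Nonempty (↥M₂ ≃* Perm (Fin 4))) (hD : Nat.card ↥(M₁ ⊓ M₂) = 8) :
    Nonempty (G ≃* ↥(alternatingGroup (Fin 6))) := by
  haveI : Fact (Nat.Prime 2) := ⟨Nat.prime_two⟩
  obtain ⟨ψ₁⟩ := hψ₁
  obtain ⟨ψ₂⟩ := hψ₂
  obtain ⟨V₁, hV₁M, hV₁c, hV₁e, hV₁n, hV₁C⟩ := exists_four ψ₁
  obtain ⟨V₂, hV₂M, hV₂c, hV₂e, hV₂n, hV₂C⟩ := exists_four ψ₂
  have hM24 : ∀ {M : Subgroup G}, (↥M ≃* Perm (Fin 4)) → Nat.card M = 24 := fun e => by
    rw [Nat.card_congr e.toEquiv, Nat.card_perm, Nat.card_fin]; rfl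
  set D := M₁ ⊓ M₂ with hDdef
  have hDp : IsPGroup 2 ↥D := IsPGroup.of_card (n := 3) (by rw [hD]; norm_num)
  have hVp : ∀ {V : Subgroup G}, Nat.card V = 4 → IsPGroup 2 ↥V := fun hc =>
    IsPGroup.of_card (n := 2) (by rw [hc]; norm_num)
  -- `Mᵢ` is the normaliser of its four-group
  have hnorm : ∀ {M V : Subgroup G}, Cfsg.IsMaximalTwoLocal M → Nat.card V = 4 →
      (∀ m ∈ M, ∀ v ∈ V, m * v * m⁻¹ ∈ V) → normalizer (V : Set G) = M := fun {M V} hM hc hn =>
    hM.2 _ ⟨V, hVp hc, fun e => by rw [e, card_bot] at hc; omega, rfl⟩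
      fun m hm => InvChar.SelfThree.mem_normalizer_of_forall (hn m hm)
  have hN₁ := hnorm hM₁ hV₁c hV₁n
  have hN₂ := hnorm hM₂ hV₂c hV₂n
  have hVD : ∀ {M V : Subgroup G}, (↥M ≃* Perm (Fin 4)) → V ≤ M → Nat.card V = 4 →
      normalizer (V : Set G) = M → D ≤ M → V ≤ D := by
    intro M V e hVM hc hN hDM
    have hp : IsPGroup 2 ↥(V ⊔ D : Subgroup G) := (hVp hc).to_sup_of_normal_left' hDp (hN ▸ hDM)
    obtain ⟨k, hk⟩ := IsPGroup.iff_card.mp hp
    have h1 : 2 ^ k ∣ 24 := hM24 e ▸ hk ▸ card_dvd_of_le (sup_le hVM hDM)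
    have h2 : 2 ^ k ∣ 2 ^ 3 := Nat.Coprime.dvd_of_dvd_mul_right
      ((show Nat.Coprime 2 3 by norm_num).pow_left k) (show 2 ^ k ∣ 2 ^ 3 * 3 by norm_num; exact h1)
    have h3 : (V ⊔ D : Subgroup G) = D := (eq_of_le_of_card_ge le_sup_right (by
      rw [hD, hk]; exact Nat.le_of_dvd (by norm_num) h2)).symm
    exact h3 ▸ le_sup_left
  have hV₁D := hVD ψ₁ hV₁M hV₁c hN₁ inf_le_left
  have hV₂D := hVD ψ₂ hV₂M hV₂c hN₂ inf_le_right
  have hV12 : V₁ ≠ V₂ := fun e => hne (hN₁.symm.trans ((congrArg (fun V : Subgroup G => normalizer (V : Set G)) e).trans hN₂))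
  obtain ⟨a, haV, ha2⟩ : ∃ a ∈ V₁, a ∉ V₂ := by
    by_contra hc
    push Not at hc
    exact hV12 (eq_of_le_of_card_ge hc (by omega))
  obtain ⟨b, hbV, hab⟩ : ∃ b ∈ V₂, a * b ≠ b * a := by
    by_contra hc
    push Not at hc
    exact ha2 (hV₂C a (hV₁D haV).2 hc)
  have haa := hV₁e a haV
  have hbb := hV₂e b hbV
  set r := a * b with hr
  have hrr : r * r ∈ V₁ ∧ r * r ∈ V₂ := by
    have hra : r * r = a * (b * a * b⁻¹) := by
      rw [hr, inv_eq_of_mul_eq_one_right hbb]; group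
    have hrb : r * r = (a * b * a⁻¹) * b := by
      rw [hr, inv_eq_of_mul_eq_one_right haa]; group
    exact ⟨hra ▸ mul_mem haV (hV₁n b (hV₂D hbV).1 a haV), hrb ▸ mul_mem (hV₂n a (hV₁D haV).2 b hbV) hbV⟩
  set z := r * r with hz
  have hz1 : z ≠ 1 := fun e => hab (by
    calc a * b = (r * r) * (b⁻¹ * a⁻¹) := by rw [hr]; group
      _ = b * a := by rw [← hz, e, one_mul, inv_eq_of_mul_eq_one_right hbb, inv_eq_of_mul_eq_one_right haa])
  have hzz : z * z = 1 := hV₁e z hrr.1
  have hr4 : orderOf r = 4 := by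
    have h1 : orderOf r ∣ 2 ^ 2 := orderOf_dvd_of_pow_eq_one (by
      rw [show (2 : ℕ) ^ 2 = 2 * 2 by norm_num, pow_mul, sq, sq, ← hz, hzz])
    obtain ⟨k, hk, hk'⟩ := (Nat.dvd_prime_pow Nat.prime_two).mp h1
    have : k = 2 := by
      by_contra hk2
      apply hz1
      rw [hz, ← sq]
      apply orderOf_dvd_iff_pow_eq_one.mp
      rw [hk']
      exact (pow_dvd_pow 2 (show k ≤ 1 by omega)).trans (by rw [pow_one])
    rw [hk', this]; norm_num
  have har : a ∉ zpowers r := by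
    intro hm
    obtain ⟨i, hi⟩ := mem_zpowers_iff.mp hm
    have : Commute a r := hi ▸ (Commute.refl r).zpow_left i
    apply hab
    calc a * b = a * (a * b) * a⁻¹ := by
          rw [show a * (a * b) = (a * b) * a from this]; group
      _ = b * a := by rw [← mul_assoc, haa, one_mul, inv_eq_of_mul_eq_one_right haa]
  obtain ⟨ι⟩ := exists_dihedral haa hbb hr4 har (hV₁D haV) (hV₂D hbV) hD
  -- `D` is a Sylow 2-subgroup
  obtain ⟨S, hDS⟩ := hDp.exists_le_sylow
  have hSD : (S : Subgroup G) = D := by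
    by_contra hne'
    haveI : Group.IsNilpotent ↥(S : Subgroup G) := S.2.isNilpotent
    have hlt : D.subgroupOf (S : Subgroup G) < ⊤ := by
      rw [lt_top_iff_ne_top, Ne, subgroupOf_eq_top]
      exact fun hle => hne' (le_antisymm hle hDS)
    obtain ⟨g₀, hg₀, hg₀'⟩ := Set.exists_of_ssubset (Group.normalizerCondition_of_isNilpotent _ hlt)
    obtain ⟨g, hgS, hgN, hgD, hg2⟩ : ∃ g : G, g ∈ (S : Subgroup G) ∧
        g ∈ normalizer (D : Set G) ∧ g ∉ D ∧ g * g ∈ D := by
      have hN : (g₀ : G) ∈ normalizer (D : Set G) := by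
        refine InvChar.SelfThree.mem_normalizer_of_forall fun x hx => ?_
        exact ((mem_normalizer_iff.mp hg₀) ⟨x, hDS hx⟩).mp hx
      by_cases h2 : (g₀ : G) * g₀ ∈ D
      · exact ⟨g₀, g₀.2, hN, hg₀', h2⟩
      · refine ⟨g₀ * g₀, mul_mem g₀.2 g₀.2, mul_mem hN hN, h2, ?_⟩
        have h4 := orderOf_two_power h (x := (g₀ : G)) (S.2.to_le (zpowers_le.mpr g₀.2))
        rw [show (g₀ : G) * g₀ * (g₀ * g₀) = (g₀ : G) ^ 4 by simp [pow_succ, mul_assoc], h4]
        exact one_mem _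
    have hconjD : ∀ x ∈ D, g * x * g⁻¹ ∈ D := fun x hx => (mem_normalizer_iff.mp hgN x).mp hx
    -- `g` does not normalise `V₁`
    have hgV : g ∉ normalizer (V₁ : Set G) := by
      intro hgn
      rw [hN₁] at hgn
      have hp : IsPGroup 2 ↥(zpowers g ⊔ D : Subgroup G) :=
        S.2.to_le (sup_le (zpowers_le.mpr hgS) hDS)
      obtain ⟨k, hk⟩ := IsPGroup.iff_card.mp hp
      have h1 : 2 ^ k ∣ 24 := hM24 ψ₁ ▸ hk ▸ card_dvd_of_le (sup_le (zpowers_le.mpr hgn) inf_le_left)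
      have h2 : 2 ^ k ∣ 2 ^ 3 := Nat.Coprime.dvd_of_dvd_mul_right
        ((show Nat.Coprime 2 3 by norm_num).pow_left k) (show 2 ^ k ∣ 2 ^ 3 * 3 by norm_num; exact h1)
      have h3 : D = zpowers g ⊔ D := eq_of_le_of_card_ge le_sup_right (by
        rw [hD, hk]; exact Nat.le_of_dvd (by norm_num) h2)
      exact hgD (h3.symm ▸ mem_sup_left (mem_zpowers g))
    -- the other four-group
    set W := V₁.map (MulAut.conj g).toMonoidHom with hW
    have hWc : Nat.card W = 4 := by rw [hW, card_map_of_injective (MulAut.conj g).injective, hV₁c]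
    have hWD : W ≤ D := by
      rintro _ ⟨x, hx, rfl⟩
      exact hconjD x (hV₁D hx)
    have hWne : W ≠ V₁ := fun e => hgV (InvChar.SelfThree.mem_normalizer_of_forall fun x hx =>
      e ▸ ⟨x, hx, rfl⟩)
    have hWe : ∀ w ∈ W, w * w = 1 := by
      rintro _ ⟨x, hx, rfl⟩
      rw [← map_mul, hV₁e x hx, map_one]
    have hWn : ∀ m ∈ D, ∀ w ∈ W, m * w * m⁻¹ ∈ W := by
      rintro m hm _ ⟨x, hx, rfl⟩
      have hm' : g⁻¹ * m * g ∈ D := by
        have h1 := (mem_normalizer_iff.mp ((normalizer (D : Set G)).inv_mem hgN) m).mp hm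
        rwa [inv_inv] at h1
      refine ⟨(g⁻¹ * m * g) * x * (g⁻¹ * m * g)⁻¹, hV₁n _ hm'.1 x hx, ?_⟩
      simp only [MulEquiv.coe_toMonoidHom, MulAut.conj_apply]
      group
    obtain ⟨s, hsV, hsW⟩ : ∃ s ∈ V₁, s ∉ W := by
      by_contra hc
      push Not at hc
      exact hWne (eq_of_le_of_card_ge hc (by omega)).symm
    set t := g * s * g⁻¹ with ht
    have htW : t ∈ W := ⟨s, hsV, rfl⟩
    -- `g` maps `W` back to `V₁`
    have hgW : ∀ w ∈ W, g * w * g⁻¹ ∈ V₁ := by
      rintro _ ⟨x, hx, rfl⟩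
      have := hV₁n (g * g) (hg2).1 x hx
      rw [show g * g * x * (g * g)⁻¹ = g * (g * x * g⁻¹) * g⁻¹ by group] at this
      exact this
    set d := g * g with hd
    have hdfix : g * d * g⁻¹ = d := by rw [hd]; group
    have hs2 := hV₁e s hsV
    have ht2 := hWe t htW
    have htV : t ∉ V₁ := by
      intro htv
      have hn : g ∈ normalizer ((V₁ ⊓ W : Subgroup G) : Set G) :=
        InvChar.SelfThree.mem_normalizer_of_forall fun x hx => ⟨hgW x hx.2, ⟨x, hx.1, rfl⟩⟩
      exact hsW ((mem_normalizer_iff.mp hn s).mpr ⟨htv, htW⟩).2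
    obtain ⟨c, hcV, hcW, hc1⟩ : ∃ c ∈ V₁, c ∈ W ∧ c ≠ 1 := by
      by_contra hc
      push Not at hc
      have h1 : Function.Injective (fun q : ↥V₁ × ↥W => (⟨(q.1 : G) * q.2, mul_mem (hV₁D q.1.2) (hWD q.2.2)⟩ : ↥D)) := by
        rintro ⟨v, w⟩ ⟨v', w'⟩ he
        have he' : (v : G) * w = v' * w' := congrArg Subtype.val he
        have h2 : (v' : G)⁻¹ * v = w' * (w : G)⁻¹ := by
          calc (v' : G)⁻¹ * v = (v' : G)⁻¹ * ((v : G) * w) * (w : G)⁻¹ := by group
            _ = w' * (w : G)⁻¹ := by rw [he']; group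
        have h3 := hc _ (mul_mem (inv_mem v'.2) v.2) (h2 ▸ mul_mem w'.2 (inv_mem w.2))
        have h4 := h2 ▸ h3
        exact Prod.ext (Subtype.ext (inv_mul_eq_one.mp h3).symm) (Subtype.ext (mul_inv_eq_one.mp h4).symm)
      have h2 := Nat.card_le_card_of_injective _ h1
      rw [Nat.card_prod, hV₁c, hWc, hD] at h2
      omega
    have hst : s * t ≠ t * s := by
      intro hst
      apply htV
      refine hV₁C t (hWD htW).1 fun v hv => ?_
      set K := centralizer ({t} : Set G) ⊓ V₁ with hK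
      have hsK : s ∈ K := ⟨mem_centralizer_singleton_iff.mpr hst, hsV⟩
      have hcK : c ∈ K := ⟨mem_centralizer_singleton_iff.mpr (by
        have := hWe (c * t) (mul_mem hcW htW)
        calc c * t = (c * t)⁻¹ := (inv_eq_of_mul_eq_one_right this).symm
          _ = t * c := by rw [mul_inv_rev, inv_eq_of_mul_eq_one_right ht2,
              inv_eq_of_mul_eq_one_right (hWe c hcW)]), hcV⟩
      have hK3 : 2 < Nat.card K := by
        have h1 : ({1, s, c} : Set G) ⊆ (K : Set G) := by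
          rintro y (rfl | rfl | rfl)
          · exact one_mem _
          · exact hsK
          · exact hcK
        have h2 := Set.ncard_le_ncard h1 (Set.toFinite _)
        rw [Set.ncard_eq_three.mpr ⟨1, s, c, fun e => hsW (e ▸ one_mem _), hc1.symm,
          fun e => hsW (e ▸ hcW), rfl⟩, ← Nat.card_coe_set_eq] at h2
        exact h2
      have hKe : K = V₁ := by
        refine eq_of_le_of_card_ge inf_le_right ?_
        have h1 := card_dvd_of_le (inf_le_right : K ≤ V₁)
        rw [hV₁c, show (4 : ℕ) = 2 ^ 2 by norm_num] at h1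
        obtain ⟨k, hk, hk'⟩ := (Nat.dvd_prime_pow Nat.prime_two).mp h1
        rw [hV₁c, hk']
        have : k = 2 := by
          by_contra hk2
          have : 2 ^ k ≤ 2 ^ 1 := Nat.pow_le_pow_right two_pos (by omega)
          have hK3' : 2 < 2 ^ k := lt_of_lt_of_le hK3 hk'.le
          omega
        rw [this]; norm_num
      exact (mem_centralizer_singleton_iff.mp (hKe.symm ▸ hv : v ∈ K).1).symm
    have hd1 : d * d = 1 := by
      have h4 := orderOf_two_power h (x := g) (S.2.to_le (zpowers_le.mpr hgS))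
      rw [← h4, hd]
      simp [pow_succ, mul_assoc]
    have key : ∀ x y u : DihedralGroup 4, x * x = 1 → y * y = 1 → u * u = 1 → x * y ≠ y * x →
        u = 1 ∨ u = x ∨ u = y ∨ u = (x * y) * (x * y) ∨ u = x * ((x * y) * (x * y)) ∨
          u = y * ((x * y) * (x * y)) := by decide
    have hst2 : (s * t) * (s * t) ∈ V₁ ∧ (s * t) * (s * t) ∈ W := by
      have hra : (s * t) * (s * t) = s * (t * s * t⁻¹) := by
        rw [inv_eq_of_mul_eq_one_right ht2]; group
      have hrb : (s * t) * (s * t) = (s * t * s⁻¹) * t := by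
        rw [inv_eq_of_mul_eq_one_right hs2]; group
      exact ⟨hra ▸ mul_mem hsV (hV₁n t (hWD htW).1 s hsV), hrb ▸ mul_mem (hWn s (hV₁D hsV) t htW) htW⟩
    have hdV : d ∈ V₁ ∧ d ∈ W := by
      obtain ⟨x, hx⟩ := ι.surjective ⟨s, hV₁D hsV⟩
      obtain ⟨y, hy⟩ := ι.surjective ⟨t, hWD htW⟩
      obtain ⟨u, hu⟩ := ι.surjective ⟨d, hg2⟩
      have hxv : (ι x : G) = s := congrArg Subtype.val hx
      have hyv : (ι y : G) = t := congrArg Subtype.val hy
      have huv : (ι u : G) = d := congrArg Subtype.val hu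
      have tr : ∀ p q : DihedralGroup 4, p = q ↔ (ι p : G) = (ι q : G) := fun p q =>
        ⟨fun e => by rw [e], fun e => ι.injective (Subtype.ext e)⟩
      have hor : d ∈ V₁ ∨ d ∈ W := by
        rcases key x y u
          (by rw [tr]; simpa [hxv] using hs2) (by rw [tr]; simpa [hyv] using ht2)
          (by rw [tr]; simpa [huv] using hd1)
          (by rw [Ne, tr]; simpa [hxv, hyv] using hst) with e | e | e | e | e | e <;>
          rw [tr, huv] at e <;> simp only [map_mul, map_one, Subgroup.coe_mul, Subgroup.coe_one, hxv, hyv] at e <;>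
          rw [e]
        · exact Or.inl (one_mem _)
        · exact Or.inl hsV
        · exact Or.inr htW
        · exact Or.inl hst2.1
        · exact Or.inl (mul_mem hsV hst2.1)
        · exact Or.inr (mul_mem htW hst2.2)
      rcases hor with e | e
      · exact ⟨e, hdfix ▸ ⟨d, e, rfl⟩⟩
      · exact ⟨hdfix ▸ hgW d e, e⟩
    have hds : d * s = s * d := by
      calc d * s = (d * s)⁻¹ := (inv_eq_of_mul_eq_one_right (hV₁e _ (mul_mem hdV.1 hsV))).symm
        _ = s * d := by rw [mul_inv_rev, inv_eq_of_mul_eq_one_right hs2, inv_eq_of_mul_eq_one_right hd1]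
    have hdt : d * t = t * d := by
      calc d * t = (d * t)⁻¹ := (inv_eq_of_mul_eq_one_right (hWe _ (mul_mem hdV.2 htW))).symm
        _ = t * d := by rw [mul_inv_rev, inv_eq_of_mul_eq_one_right ht2, inv_eq_of_mul_eq_one_right hd1]
    have hgs : g * s * (g * s) = d * (t * s) := by
      calc g * s * (g * s) = (g * s * g⁻¹) * (g * g) * s := by group
        _ = t * d * s := by rw [← ht, ← hd]
        _ = d * (t * s) := by rw [← hdt, mul_assoc]
    have h4 := orderOf_two_power h (x := g * s)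
      (S.2.to_le (zpowers_le.mpr (mul_mem hgS (hDS (hV₁D hsV)))))
    rw [show (g * s) ^ 4 = (g * s * (g * s)) * (g * s * (g * s)) by simp [pow_succ, mul_assoc], hgs,
      show d * (t * s) * (d * (t * s)) = (d * d) * ((t * s) * (t * s)) by
        calc d * (t * s) * (d * (t * s)) = d * (t * (s * d)) * (t * s) := by group
          _ = d * (t * (d * s)) * (t * s) := by rw [hds]
          _ = d * ((t * d) * s) * (t * s) := by group
          _ = d * ((d * t) * s) * (t * s) := by rw [hdt]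
          _ = (d * d) * ((t * s) * (t * s)) := by group,
      hd1, one_mul, mul_eq_one_iff_eq_inv, mul_inv_rev, inv_eq_of_mul_eq_one_right hs2,
      inv_eq_of_mul_eq_one_right ht2] at h4
    exact hst h4.symm
  have hS8 : Nat.card (S : Subgroup G) = 8 := by rw [hSD, hD]
  obtain ⟨α, hα, hαS, hαc, hCα⟩ : ∃ α : G, orderOf α = 2 ∧ α ∈ (S : Subgroup G) ∧
      (∀ s ∈ (S : Subgroup G), s * α = α * s) ∧ centralizer ({α} : Set G) = D := by
    refine ⟨ι (DihedralGroup.r 2), ?_, hSD.symm.le (ι (DihedralGroup.r 2)).2, ?_, ?_⟩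
    · rw [Subgroup.orderOf_coe, MulEquiv.orderOf_eq]
      exact orderOf_eq_prime (by decide) (by decide)
    · intro s hs
      obtain ⟨u, hu⟩ := ι.surjective ⟨s, hSD ▸ hs⟩
      have h1 : ι (u * DihedralGroup.r 2) = ι (DihedralGroup.r 2 * u) :=
        congrArg ι ((show ∀ u : DihedralGroup 4, u * DihedralGroup.r 2 = DihedralGroup.r 2 * u by decide) u)
      rw [map_mul, map_mul, hu] at h1
      exact congrArg Subtype.val h1
    · refine Eq.trans ?_ hSD
      refine S.is_maximal' (centralizer_isPGroup h Nat.prime_two ?_) fun s hs => mem_centralizer_singleton_iff.mpr ?_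
      · rw [Subgroup.orderOf_coe, MulEquiv.orderOf_eq]
        exact orderOf_eq_prime (by decide) (by decide)
      · obtain ⟨u, hu⟩ := ι.surjective ⟨s, hSD ▸ hs⟩
        have h1 : ι (u * DihedralGroup.r 2) = ι (DihedralGroup.r 2 * u) :=
          congrArg ι ((show ∀ u : DihedralGroup 4, u * DihedralGroup.r 2 = DihedralGroup.r 2 * u by decide) u)
        rw [map_mul, map_mul, hu] at h1
        exact congrArg Subtype.val h1
  let αt : ↥(alternatingGroup (Fin 6)) := ⟨Cfsg.Agent.S3261.base, Equiv.Perm.mem_alternatingGroup.mpr (by decide +kernel)⟩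
  have hαt : orderOf αt = 2 := orderOf_eq_prime (by decide +kernel) (by decide +kernel)
  have hsupp : (αt : Perm (Fin 6)).support.card = 4 := by decide +kernel
  obtain ⟨κ⟩ := Cfsg.Agent.S3261.nonempty_centralizer_iso αt hαt hsupp
  have hidx : ∀ H : Subgroup G, H.index ≠ 2 := fun H hH => by
    haveI := Subgroup.normal_of_index_eq_two hH
    rcases (inferInstance : H.Normal).eq_bot_or_eq_top with e | e
    · rw [e, index_bot] at hH
      exact hns (Characters.isSolvable_of_card_eq_pow_mul_pow (p := 2) (q := 3) (a := 1) (b := 0)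
        Nat.prime_two Nat.prime_three (by rw [hH]; norm_num))
    · rw [e, index_top] at hH; omega
  rcases Cfsg.Agent.S3261.result hidx αt hαt hsupp α hα S hαS hαc
      ((MulEquiv.subgroupCongr hCα).trans (ι.symm.trans κ.symm)) with h6 | ⟨F, _, _, hF, ⟨e⟩⟩
  · exact h6
  · exfalso
    have hd7 : 7 ∣ Nat.card G := by
      rw [Nat.card_congr e.toEquiv]
      have h1 := Geometry.Dickson.card_PSL2 (F := F)
      rw [hF, show Nat.gcd 2 (7 - 1) = 2 by decide] at h1
      omega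
    rcases prime_cases h (show Nat.Prime 7 by norm_num) hd7 with e' | e' | e' <;> omega

end Cfsg.Agent.Lib.InvChar.OrdersFive
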