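import Cfsg.Agent.Lib.InvChar.OrdersFive.SE
import Cfsg.Agent.Lib.InvChar.OrdersFive.TwoSym
import Cfsg.Agent.S0518

/-!
Simple groups with element orders `1, 2, 3, 4, 5`.
-/

set_option autoImplicit false
set_option linter.unusedSectionVars false
set_option linter.style.haveILetI false

namespace Cfsg.Agent.Lib.InvChar.OrdersFive

open Subgroup

universe u

variable {G : Type u} [Group G] [Finite G]

theorem isCharacteristicTwoType (h : Five G) (he : Even (Nat.card G)) : Cfsg.IsCharacteristicTwoType G := by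
  haveI : Fact (Nat.Prime 2) := ⟨Nat.prime_two⟩
  refine ⟨he, fun T hT hT1 => ?_⟩
  set N := normalizer (T : Set G)
  obtain ⟨t, ht⟩ := exists_prime_orderOf_dvd_card' (G := ↥T) 2 ((hT.card_eq_or_dvd).resolve_left (fun e => hT1 (card_eq_one.mp e)))
  have hTN : T.subgroupOf N ≤ Cfsg.pCore 2 ↥N :=
    Cores.le_pCore normal_in_normalizer hT.comap_subtype
  have htmem : (⟨(t : G), le_normalizer t.2⟩ : ↥N) ∈ Cfsg.pCore 2 ↥N := hTN (mem_subgroupOf.mpr t.2)
  have hp : IsPGroup 2 ↥(centralizer (Cfsg.pCore 2 ↥N : Set ↥N)) := by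
    have h1 : IsPGroup 2 ↥((centralizer ({(t : G)} : Set G)).subgroupOf N) :=
      (centralizer_isPGroup h Nat.prime_two (by rw [Subgroup.orderOf_coe, ht])).comap_subtype
    refine h1.to_le fun x hx => ?_
    rw [mem_subgroupOf, mem_centralizer_singleton_iff]
    exact (congrArg Subtype.val (hx _ htmem)).symm
  exact Cores.le_pCore inferInstance hp

theorem equiv_A6 [IsSimpleGroup G] (h : Full G) (h9 : 9 ∣ Nat.card G)
    (hN : ∀ N : Subgroup G, Cfsg.IsTwoLocal N → Group.IsSolvable N)
    (hK : ∀ K : Subgroup G, Cfsg.IsStronglyEmbedded K → Group.IsSolvable K) :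
    Nonempty (G ≃* ↥(alternatingGroup (Fin 6))) := by
  haveI : Fact (Nat.Prime 2) := ⟨Nat.prime_two⟩
  have hns := h.not_solvable
  have he : Even (Nat.card G) := even_iff_two_dvd.mpr (primes_dvd_of_not_solvable h.five hns).1
  have hO : Cfsg.pCore 2 G = ⊥ := by
    rcases (inferInstance : (Cfsg.pCore 2 G).Normal).eq_bot_or_eq_top with e | e
    · exact e
    · exfalso
      apply hns
      haveI : Group.IsNilpotent G := (Cores.pCore_eq_top_iff.mp e).isNilpotent
      infer_instance
  have hZ : ∀ S : Sylow 2 G,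
      Subgroup.centralizer {z : G | z ∈ (S : Subgroup G) ∧ z ^ 2 = 1 ∧ ∀ s ∈ (S : Subgroup G), s * z = z * s} ≤
        Subgroup.normalizer ((S : Subgroup G) : Set G) := by
    intro S
    haveI : Nontrivial ↥(S : Subgroup G) := by
      rw [nontrivial_iff_ne_bot]
      exact S.ne_bot_of_dvd_card he.two_dvd
    haveI := S.2.center_nontrivial
    obtain ⟨⟨⟨z, hzS⟩, hzc⟩, hz⟩ := exists_prime_orderOf_dvd_card' (G := center ↥(S : Subgroup G)) 2
      ((S.2.to_subgroup _).card_eq_or_dvd.resolve_left (by have := Finite.one_lt_card (α := center ↥(S : Subgroup G)); omega))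
    have hzo : orderOf z = 2 := by rw [← hz, ← Subgroup.orderOf_coe, ← Subgroup.orderOf_coe]
    have hzcomm : ∀ s ∈ (S : Subgroup G), s * z = z * s := fun s hs =>
      congrArg Subtype.val (mem_center_iff.mp hzc ⟨s, hs⟩)
    have hCz : centralizer ({z} : Set G) = S := S.is_maximal' (centralizer_isPGroup h.five Nat.prime_two hzo)
      fun s hs => mem_centralizer_singleton_iff.mpr (hzcomm s hs)
    refine le_trans (centralizer_le (s := {z}) ?_) (hCz.le.trans le_normalizer)
    rw [Set.singleton_subset_iff]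
    exact ⟨hzS, by rw [sq]; exact Involutions.invol_mul_self hzo, hzcomm⟩
  set H := Subgroup.closure {g : G | Odd (orderOf g)} with hH
  have hHtop : H = ⊤ := by
    haveI : H.Normal := by
      refine ⟨fun x hx g => ?_⟩
      have : H ≤ H.comap (MulAut.conj g).toMonoidHom := by
        rw [hH, closure_le]
        intro y hy
        refine subset_closure (show Odd (orderOf (MulAut.conj g y)) from ?_)
        rw [MulEquiv.orderOf_eq]
        exact hy
      exact this hx
    refine (inferInstance : H.Normal).eq_bot_or_eq_top.resolve_left fun e => ?_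
    obtain ⟨x, hx⟩ := h.three
    have : x ∈ H := subset_closure (show Odd (orderOf x) by rw [hx]; decide)
    rw [e, mem_bot] at this
    rw [this, orderOf_one] at hx
    omega
  rcases Cfsg.Agent.S0518.result (isCharacteristicTwoType h.five he) hO hN hZ H rfl with ⟨K, hKse⟩ | ⟨M₁, M₂, hne, h1, h2, e1, e2, h8⟩
  · exact (false_of_se h.five hns h9 hKse (hK K hKse)).elim
  · have eHG : ↥H ≃* G := (MulEquiv.subgroupCongr hHtop).trans Subgroup.topEquiv
    haveI : IsSimpleGroup ↥H := eHG.isSimpleGroup
    obtain ⟨φ⟩ := equiv_A6_of_sym_four (fun hs => hns (by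
      haveI := hs
      exact solvable_of_surjective (f := eHG.toMonoidHom) eHG.surjective)) (h.five.subgroup H) hne h1 h2 e1 e2 h8
    exact ⟨eHG.symm.trans φ⟩

end Cfsg.Agent.Lib.InvChar.OrdersFive
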