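import Cfsg.Agent.Lib.InvChar.OrdersFive.Main
import Cfsg.Agent.Lib.InvChar.OrdersFive.Local
import Cfsg.Agent.Lib.InvChar.OrdersFive.NormalSix
import Cfsg.Agent.Lib.InvChar.OrdersFive.Critical

/-!
The structure of groups with element orders `1, 2, 3, 4, 5`.
-/

set_option autoImplicit false
set_option linter.unusedSectionVars false
set_option linter.style.haveILetI false

namespace Cfsg.Agent.Lib.InvChar.OrdersFive

open Subgroup Cfsg.Agent.Lib.Involutions
open Equiv (Perm)

universe u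

set_option maxRecDepth 100000 in
theorem A6_invol_support : ∀ a : ↥(alternatingGroup (Fin 6)), a * a = 1 → a ≠ 1 →
    (a : Perm (Fin 6)).support.card = 4 := by decide +kernel

variable {G : Type u} [Group G] [Finite G]

/-- An involution outside the kernel. -/
theorem exists_invol_outside (h : Five G) (π : G →* ↥(alternatingGroup (Fin 5))) (hπ : Function.Surjective π)
    (hsq : ∀ a ∈ π.ker, a * a = 1) : ∃ t : G, t * t = 1 ∧ π t ≠ 1 := by
  haveI : Fact (Nat.Prime 3) := ⟨Nat.prime_three⟩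
  obtain ⟨c, s, hc3, hc1, hs2, hs1, hsc⟩ := A5_inverted
  obtain ⟨x, hx⟩ := hπ c
  obtain ⟨g, hg⟩ := hπ s
  have hxo : orderOf x = 3 := by
    have h1 : 3 ∣ orderOf x := orderOf_eq_prime hc3 hc1 ▸ hx ▸ orderOf_map_dvd π x
    have h3 := orderOf_pos x
    have h4 := h x
    omega
  have hfree : ∀ m ∈ π.ker, x * m = m * x → m = 1 := fun m hm hxm => by
    by_contra hm1
    refine not_commute h (a := x) (b := m) (fun e => ?_) hm1 ?_ hxm
    · rw [e, orderOf_one] at hxo; omega
    · rw [orderOf_eq_two_of_mul_self (hsq m hm) hm1, hxo]; decide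
  let F : ↥π.ker → ↥π.ker := fun m => ⟨m * x * (m : G)⁻¹ * x⁻¹, by
    rw [MonoidHom.mem_ker, map_mul, map_mul, map_mul, map_inv, map_inv, MonoidHom.mem_ker.mp m.2]
    group⟩
  have hF : Function.Injective F := fun m n e => by
    have e' : (m : G) * x * (m : G)⁻¹ = n * x * (n : G)⁻¹ := mul_right_cancel (congrArg Subtype.val e)
    refine Subtype.ext (inv_mul_eq_one.mp ?_).symm
    refine hfree _ (mul_mem (inv_mem n.2) m.2) ?_
    calc x * ((n : G)⁻¹ * m) = (n : G)⁻¹ * (n * x * (n : G)⁻¹) * m := by group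
      _ = (n : G)⁻¹ * m * x := by rw [← e']; group
  obtain ⟨m, hm⟩ := Finite.surjective_of_injective hF ⟨g * x⁻¹ * g⁻¹ * x⁻¹, by
    rw [MonoidHom.mem_ker, map_mul, map_mul, map_mul, map_inv, map_inv, hg, hx,
      inv_eq_of_mul_eq_one_right hs2]
    have : s * c⁻¹ * s = c := by
      rw [← hsc]
      calc s * (s * c * s) * s = (s * s) * c * (s * s) := by group
        _ = c := by rw [hs2, one_mul, mul_one]
    rw [this, mul_inv_cancel]⟩
  have hm' : (m : G) * x * (m : G)⁻¹ = g * x⁻¹ * g⁻¹ := mul_right_cancel (congrArg Subtype.val hm)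
  refine ⟨(m : G)⁻¹ * g, ?_, by rw [map_mul, map_inv, MonoidHom.mem_ker.mp m.2, inv_one, one_mul, hg]; exact hs1⟩
  set t := (m : G)⁻¹ * g with ht
  have htx : t * x⁻¹ * t⁻¹ = x := by
    rw [ht]
    calc (m : G)⁻¹ * g * x⁻¹ * ((m : G)⁻¹ * g)⁻¹ = (m : G)⁻¹ * (g * x⁻¹ * g⁻¹) * m := by group
      _ = x := by rw [← hm']; group
  refine hfree _ ?_ ?_
  · rw [MonoidHom.mem_ker, ht, map_mul, map_mul, map_inv, MonoidHom.mem_ker.mp m.2, inv_one, one_mul, hg, hs2]
  · calc x * (t * t) = t * x⁻¹ * t⁻¹ * (t * t) := by rw [htx]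
      _ = t * x⁻¹ * t := by group
      _ = t * (t * x⁻¹ * t⁻¹)⁻¹ * t := by rw [htx]
      _ = t * t * x := by group

theorem equiv_A6_of_se [IsSimpleGroup G] (h : Five G) (hns : ¬ Group.IsSolvable G) {K : Subgroup G}
    (hK : Cfsg.IsStronglyEmbedded K) (φ : ↥K ≃* ↥(alternatingGroup (Fin 6))) :
    Nonempty (G ≃* ↥(alternatingGroup (Fin 6))) := by
  haveI : Fact (Nat.Prime 2) := ⟨Nat.prime_two⟩
  obtain ⟨α, hα⟩ := exists_invol_of_even (G := K) hK.2.1
  have hαo : orderOf (α : G) = 2 := by rw [Subgroup.orderOf_coe, hα]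
  set αt := φ α with hαtdef
  have hαt : orderOf αt = 2 := by rw [hαtdef, MulEquiv.orderOf_eq, hα]
  have hsupp := A6_invol_support αt (invol_mul_self hαt) (invol_ne_one hαt)
  have hCK : centralizer ({(α : G)} : Set G) ≤ K := centralizer_le_of_se hK hαo α.2
  let e : ↥(centralizer ({(α : G)} : Set G)) ≃* ↥(centralizer ({αt} : Set ↥(alternatingGroup (Fin 6)))) :=
    { toFun := fun c => ⟨φ ⟨c, hCK c.2⟩, mem_centralizer_singleton_iff.mpr (by
        rw [hαtdef, ← map_mul, ← map_mul]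
        exact congrArg φ (Subtype.ext (mem_centralizer_singleton_iff.mp c.2)))⟩
      invFun := fun y => ⟨(φ.symm y : G), mem_centralizer_singleton_iff.mpr (by
        have h1 := congrArg φ.symm (mem_centralizer_singleton_iff.mp y.2)
        rw [map_mul, map_mul, show φ.symm αt = α from φ.symm_apply_apply α] at h1
        exact congrArg Subtype.val h1)⟩
      left_inv := fun c => Subtype.ext (by
        show ((φ.symm (φ ⟨(c : G), hCK c.2⟩)) : G) = c
        rw [MulEquiv.symm_apply_apply])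
      right_inv := fun y => Subtype.ext (φ.apply_symm_apply _)
      map_mul' := fun c d => Subtype.ext (map_mul φ ⟨c, hCK c.2⟩ ⟨d, hCK d.2⟩) }
  obtain ⟨κ⟩ := Cfsg.Agent.S3261.nonempty_centralizer_iso αt hαt hsupp
  obtain ⟨S, hS⟩ := (centralizer_isPGroup h Nat.prime_two hαo).exists_le_sylow
  have hαC : (α : G) ∈ centralizer ({(α : G)} : Set G) := mem_centralizer_singleton_iff.mpr rfl
  haveI : Nontrivial ↥(S : Subgroup G) :=
    ⟨⟨⟨α, hS hαC⟩, 1, fun e' => invol_ne_one hαo (congrArg Subtype.val e')⟩⟩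
  haveI := S.2.center_nontrivial
  obtain ⟨⟨⟨z, hzS⟩, hzc⟩, hz⟩ := exists_prime_orderOf_dvd_card' (G := center ↥(S : Subgroup G)) 2
    ((S.2.to_subgroup _).card_eq_or_dvd.resolve_left (by have := Finite.one_lt_card (α := center ↥(S : Subgroup G)); omega))
  have hzo : orderOf z = 2 := by rw [← hz, ← Subgroup.orderOf_coe, ← Subgroup.orderOf_coe]
  have hzcomm : ∀ s ∈ (S : Subgroup G), s * z = z * s := fun s hs =>
    congrArg Subtype.val (mem_center_iff.mp hzc ⟨s, hs⟩)
  have hzC : z ∈ centralizer ({(α : G)} : Set G) :=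
    mem_centralizer_singleton_iff.mpr (hzcomm _ (hS hαC)).symm
  have hzα : z = (α : G) := by
    set ι := e.trans κ
    have key : ∀ p : DihedralGroup 4, (∀ u, u * p = p * u) → p = 1 ∨ p = DihedralGroup.r 2 := by decide
    have hcz : ∀ u, u * ι ⟨z, hzC⟩ = ι ⟨z, hzC⟩ * u := fun u => by
      obtain ⟨c, rfl⟩ := ι.surjective u
      rw [← map_mul, ← map_mul]
      exact congrArg ι (Subtype.ext (hzcomm _ (hS c.2)))
    have hcα : ∀ u, u * ι ⟨α, hαC⟩ = ι ⟨α, hαC⟩ * u := fun u => by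
      obtain ⟨c, rfl⟩ := ι.surjective u
      rw [← map_mul, ← map_mul]
      exact congrArg ι (Subtype.ext (mem_centralizer_singleton_iff.mp c.2))
    rcases key _ hcz with e1 | e1
    · exact absurd (congrArg Subtype.val (ι.injective (e1.trans (map_one ι).symm))) (invol_ne_one hzo)
    rcases key _ hcα with e2 | e2
    · exact absurd (congrArg Subtype.val (ι.injective (e2.trans (map_one ι).symm))) (invol_ne_one hαo)
    exact congrArg Subtype.val (ι.injective (e1.trans e2.symm))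
  have hidx : ∀ H : Subgroup G, H.index ≠ 2 := fun H hH => by
    haveI := Subgroup.normal_of_index_eq_two hH
    rcases (inferInstance : H.Normal).eq_bot_or_eq_top with e' | e'
    · rw [e', index_bot] at hH
      exact hns (Characters.isSolvable_of_card_eq_pow_mul_pow (p := 2) (q := 3) (a := 1) (b := 0)
        Nat.prime_two Nat.prime_three (by rw [hH]; norm_num))
    · rw [e', index_top] at hH; omega
  rcases Cfsg.Agent.S3261.result hidx αt hαt hsupp (α : G) hαo S (hS hαC)
      (fun s hs => hzα ▸ hzcomm s hs) e with h6 | ⟨F, _, _, hF, ⟨e'⟩⟩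
  · exact h6
  · exfalso
    have hd7 : 7 ∣ Nat.card G := by
      rw [Nat.card_congr e'.toEquiv]
      have h1 := Geometry.Dickson.card_PSL2 (F := F)
      rw [hF, show Nat.gcd 2 (7 - 1) = 2 by decide] at h1
      omega
    rcases prime_cases h (show Nat.Prime 7 by norm_num) hd7 with e | e | e <;> omega

theorem classify : ∀ (n : ℕ) (G : Type u) [Group G] [Finite G], Nat.card G = n → Full G →
    HasType G ∨ Nonempty (G ≃* ↥(alternatingGroup (Fin 6))) := by
  intro n
  induction n using Nat.strong_induction_on with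
  | _ n ih =>
  intro G _ _ hn h
  haveI : Fact (Nat.Prime 2) := ⟨Nat.prime_two⟩
  have hsub : ∀ H : Subgroup G, H ≠ ⊤ → Full ↥H → HasType ↥H ∨ Nonempty (↥H ≃* ↥(alternatingGroup (Fin 6))) :=
    fun H hH hF => ih _ (by
      rw [← hn]
      exact lt_of_le_of_ne (Nat.le_of_dvd Nat.card_pos (card_subgroup_dvd_card H))
        fun e => hH (eq_top_of_card_eq H e)) ↥H rfl hF
  rcases hasType_or_no_solvable h with ht | hsolv
  · exact Or.inl ht
  right
  have h9 := not_nine_of_no_solvable h hsolv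
  have hns := h.not_solvable
  haveI : Nontrivial G := by
    obtain ⟨x, hx⟩ := h.three
    exact ⟨x, 1, fun e => by rw [e, orderOf_one] at hx; omega⟩
  haveI : IsSimpleGroup G := ⟨fun T hT => by
    by_cases hT1 : T = ⊥
    · exact Or.inl hT1
    refine Or.inr (by_contra fun hne => ?_)
    haveI := hT
    have hTf := normal_full h h9 hsolv hT hT1
    rcases hsub T hne hTf with ⟨N, hN, hNe, ⟨e⟩⟩ | ⟨⟨φ⟩⟩
    · haveI := hN
      have hle : N.map T.subtype ≤ (Cfsg.pCore 2 ↥T).map T.subtype :=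
        map_mono (Cores.le_pCore hN (isPGroup_of_pow hNe.2))
      have h1 : (Cfsg.pCore 2 ↥T).map T.subtype = ⊥ := hsolv _ inferInstance (by
        haveI : Group.IsNilpotent ↥((Cfsg.pCore 2 ↥T).map T.subtype) :=
          ((Cores.pCore_isPGroup 2 ↥T).map T.subtype).isNilpotent
        infer_instance)
      have hN1 : N = ⊥ := (Subgroup.map_eq_bot_iff_of_injective _ T.subtype_injective).mp (le_bot_iff.mp (h1 ▸ hle))
      subst hN1
      obtain ⟨x, hx⟩ := hTf.four
      refine A5_no_four (e (QuotientGroup.mk x)) ?_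
      rw [MulEquiv.orderOf_eq, ← hx]
      exact (MulEquiv.orderOf_eq (QuotientGroup.quotientBot (G := ↥T)).symm x)
    · exact false_of_six h.five T hne φ⟩
  by_cases hse : ∃ K : Subgroup G, Cfsg.IsStronglyEmbedded K ∧ ¬ Group.IsSolvable ↥K
  · obtain ⟨K, hK, hKs⟩ := hse
    obtain ⟨x, hx⟩ := h.four
    obtain ⟨t, ht⟩ := exists_invol_of_even (G := K) hK.2.1
    have hto : orderOf (t : G) = 2 := by rw [Subgroup.orderOf_coe, ht]
    have hx2 : orderOf (x ^ 2) = 2 := by rw [orderOf_pow, hx]; rfl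
    obtain ⟨g, hg⟩ := isConj_iff.1 (se_all_conj hK hx2 hto)
    have hgx : g * x * g⁻¹ ∈ K := mem_of_conj_mem hK hto t.2 (by
      have : g * x * g⁻¹ * (t : G) * (g * x * g⁻¹)⁻¹ = (t : G) := by rw [← hg]; group
      rw [this]; exact t.2)
    have hKf : Full ↥K := full_of_not_solvable (h.five.subgroup _) hKs
      ⟨⟨_, hgx⟩, by rw [Subgroup.orderOf_mk, ← MulAut.conj_apply g x, MulEquiv.orderOf_eq, hx]⟩
    rcases hsub K hK.1 hKf with ⟨N, hN, hNe, ⟨e⟩⟩ | ⟨⟨φ⟩⟩
    · exfalso
      haveI := hN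
      set π := e.toMonoidHom.comp (QuotientGroup.mk' N) with hπdef
      have hπs : Function.Surjective π := e.surjective.comp (QuotientGroup.mk'_surjective N)
      have hker : ∀ a, π a = 1 ↔ a ∈ N := fun a => by
        rw [hπdef, MonoidHom.comp_apply, MulEquiv.coe_toMonoidHom, MulEquiv.map_eq_one_iff,
          QuotientGroup.mk'_apply, QuotientGroup.eq_one_iff]
      obtain ⟨u, hu2, hu1⟩ := exists_invol_outside (h.five.subgroup K) π hπs
        fun a ha => by rw [← sq]; exact hNe.2 a ((hker a).mp ha)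
      have huo : orderOf (u : G) = 2 := by
        rw [Subgroup.orderOf_coe]
        exact orderOf_eq_two_of_mul_self hu2 fun e' => hu1 (by rw [e', map_one])
      obtain ⟨y, hy⟩ := hKf.four
      have hyN : y ^ 2 ∈ N := (hker _).mp (by
        have h1 : orderOf (π y) ∣ 2 ^ 2 := by
          rw [show (2 : ℕ) ^ 2 = 4 by norm_num, ← hy]; exact orderOf_map_dvd π y
        obtain ⟨j, hj, hj'⟩ := (Nat.dvd_prime_pow Nat.prime_two).mp h1
        have hj2 : j ≠ 2 := fun e' => A5_no_four (π y) (by rw [hj', e']; norm_num)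
        rw [map_pow]
        apply orderOf_dvd_iff_pow_eq_one.mp
        rw [hj']
        exact (pow_dvd_pow 2 (show j ≤ 1 by omega)).trans (by rw [pow_one]))
      have hyo : orderOf ((y ^ 2 : ↥K) : G) = 2 := by
        rw [Subgroup.orderOf_coe, orderOf_pow, hy]; rfl
      obtain ⟨a, ha⟩ := isConj_iff.1 (se_all_conj hK hyo huo)
      have haK : a ∈ K := mem_of_conj_mem hK hyo (y ^ 2).2 (ha ▸ u.2)
      apply hu1
      rw [hker]
      have : u = ⟨a, haK⟩ * y ^ 2 * ⟨a, haK⟩⁻¹ := Subtype.ext ha.symm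
      rw [this]
      exact hN.conj_mem _ hyN _
    · exact equiv_A6_of_se h.five hns hK φ
  push Not at hse
  refine equiv_A6 h h9 ?_ hse
  intro N₀ hN₀
  by_contra hN₀s
  obtain ⟨N, ⟨hN, hNs⟩, hmax⟩ : ∃ N : Subgroup G, (Cfsg.IsTwoLocal N ∧ ¬ Group.IsSolvable ↥N) ∧
      ∀ N' : Subgroup G, (Cfsg.IsTwoLocal N' ∧ ¬ Group.IsSolvable ↥N') → Nat.card N' ≤ Nat.card N := by
    haveI : Nonempty {N : Subgroup G // Cfsg.IsTwoLocal N ∧ ¬ Group.IsSolvable ↥N} := ⟨⟨N₀, hN₀, hN₀s⟩⟩
    obtain ⟨⟨N, hN⟩, hm⟩ := Finite.exists_max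
      fun N : {N : Subgroup G // Cfsg.IsTwoLocal N ∧ ¬ Group.IsSolvable ↥N} => Nat.card ↥N.1
    exact ⟨N, hN, fun N' hN' => hm ⟨N', hN'⟩⟩
  have hproper : ∀ T : Subgroup G, IsPGroup 2 ↥T → T ≠ ⊥ → normalizer (T : Set G) ≠ ⊤ := fun T hT hT1 e => by
    rcases (normalizer_eq_top_iff.mp e).eq_bot_or_eq_top with h0 | h0
    · exact hT1 h0
    · apply hns
      haveI : Group.IsNilpotent G := (IsPGroup.of_equiv (h0 ▸ hT) Subgroup.topEquiv).isNilpotent
      infer_instance
  obtain ⟨T, hT, hT1, rfl⟩ := hN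
  have hne := hproper T hT hT1
  have hNf : Full ↥(normalizer (T : Set G)) := by
    by_cases h4 : ∀ g ∈ normalizer (T : Set G), orderOf g ≠ 4
    · exact absurd (twoLocal_solvable_of_no_four h.five hT hT1 h4) hNs
    · push Not at h4
      obtain ⟨g, hg, hg4⟩ := h4
      exact full_of_not_solvable (h.five.subgroup _) hNs ⟨⟨g, hg⟩, by rw [Subgroup.orderOf_mk, hg4]⟩
  set M := normalizer (T : Set G) with hM
  rcases hsub M hne hNf with ⟨E, hE, hEe, ⟨e⟩⟩ | ⟨⟨φ⟩⟩
  · haveI := hE
    set π := e.toMonoidHom.comp (QuotientGroup.mk' E) with hπdef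
    have hker : π.ker = E := by
      ext g
      rw [MonoidHom.mem_ker, hπdef, MonoidHom.comp_apply, MulEquiv.coe_toMonoidHom, MulEquiv.map_eq_one_iff,
        QuotientGroup.mk'_apply, QuotientGroup.eq_one_iff]
    have hE1 : E ≠ ⊥ := fun e' => by
      subst e'
      obtain ⟨x, hx⟩ := hNf.four
      refine A5_no_four (e (QuotientGroup.mk x)) ?_
      rw [MulEquiv.orderOf_eq, ← hx]
      exact (MulEquiv.orderOf_eq (QuotientGroup.quotientBot (G := ↥M)).symm x)
    set E₁ := E.map M.subtype with hE₁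
    have hE₁1 : E₁ ≠ ⊥ := fun e' => hE1 ((Subgroup.map_eq_bot_iff_of_injective _ M.subtype_injective).mp e')
    have hE₁p : IsPGroup 2 ↥E₁ := (isPGroup_of_pow hEe.2).map _
    have hle : M ≤ normalizer (E₁ : Set G) := fun g hg =>
      InvChar.SelfThree.mem_normalizer_of_forall fun x hx => by
        obtain ⟨a, ha, rfl⟩ := hx
        exact ⟨⟨g, hg⟩ * a * ⟨g, hg⟩⁻¹, hE.conj_mem a ha _, rfl⟩
    have hns' : ¬ Group.IsSolvable ↥(normalizer (E₁ : Set G)) := fun hs => hNs (by
      haveI := hs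
      exact Group.isSolvable_of_isSolvable_injective (f := inclusion hle) (inclusion_injective hle))
    have heq : normalizer (E₁ : Set G) = M :=
      (eq_of_le_of_card_ge hle (hmax _ ⟨⟨E₁, hE₁p, hE₁1, rfl⟩, hns'⟩)).symm
    exact false_of_local h.five hns h9 M π (e.surjective.comp (QuotientGroup.mk'_surjective E))
      (fun a ha => by rw [← sq]; exact hEe.2 a (hker ▸ ha)) (hker.symm ▸ hE1)
      (by rw [hker, ← hE₁]; exact heq)
  · haveI : IsSimpleGroup ↥(alternatingGroup (Fin 6)) := alternatingGroup.isSimpleGroup (by simp)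
    set V := (T.subgroupOf M).map φ.toMonoidHom
    haveI : (T.subgroupOf M).Normal := normal_in_normalizer
    haveI hVn : V.Normal := (inferInstance : (T.subgroupOf M).Normal).map _ φ.surjective
    have hV1 : V ≠ ⊥ := fun e' => hT1 (by
      have := (Subgroup.map_eq_bot_iff_of_injective _ φ.injective).mp e'
      rw [subgroupOf_eq_bot, disjoint_iff, inf_eq_left.mpr le_normalizer] at this
      exact this)
    have hVp : IsPGroup 2 ↥V := (hT.comap_subtype).map _
    rw [hVn.eq_bot_or_eq_top.resolve_left hV1] at hVp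
    obtain ⟨x, hx⟩ := hNf.three
    obtain ⟨k, hk⟩ := IsPGroup.iff_orderOf.mp hVp ⟨φ x, mem_top _⟩
    rw [Subgroup.orderOf_mk, MulEquiv.orderOf_eq, hx] at hk
    have : (3 : ℕ) ∣ 2 ^ k := dvd_of_eq hk
    exact absurd (Nat.prime_three.dvd_of_dvd_pow this) (by norm_num)

end Cfsg.Agent.Lib.InvChar.OrdersFive
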