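import Cfsg.Agent.Lib.InvChar.OrdersFive.TwoSym

/-!
An element exchanging the two four-groups of a dihedral group of order eight gives an element of order eight.
-/

set_option autoImplicit false
set_option linter.unusedSectionVars false
set_option linter.style.haveILetI false

namespace Cfsg.Agent.Lib.InvChar.OrdersFive

open Subgroup Cfsg.Agent.Lib.Involutions

universe u

variable {G : Type u} [Group G] [Finite G]

theorem false_of_swap (h : Five G) {D V₁ S : Subgroup G} (hS : IsPGroup 2 ↥S) (hDS : D ≤ S)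
    (ι : DihedralGroup 4 ≃* ↥D) (hV₁D : V₁ ≤ D) (hV₁c : Nat.card V₁ = 4) (hV₁e : ∀ v ∈ V₁, v * v = 1)
    (hV₁n : ∀ m ∈ D, ∀ v ∈ V₁, m * v * m⁻¹ ∈ V₁) (hV₁C : ∀ m ∈ D, (∀ v ∈ V₁, m * v = v * m) → m ∈ V₁)
    {g : G} (hgS : g ∈ S) (hgN : g ∈ normalizer (D : Set G)) (hg2 : g * g ∈ D)
    (hgV : g ∉ normalizer (V₁ : Set G)) : False := by
  haveI : Fact (Nat.Prime 2) := ⟨Nat.prime_two⟩
  have hD : Nat.card D = 8 := by rw [← Nat.card_congr ι.toEquiv, DihedralGroup.nat_card]
  have hconjD : ∀ x ∈ D, g * x * g⁻¹ ∈ D := fun x hx => (mem_normalizer_iff.mp hgN x).mp hx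
  set W := V₁.map (MulAut.conj g).toMonoidHom with hW
  have hWc : Nat.card W = 4 := by rw [hW, card_map_of_injective (MulAut.conj g).injective, hV₁c]
  have hWD : W ≤ D := by
    rintro _ ⟨x, hx, rfl⟩
    exact hconjD x (hV₁D hx)
  have hWne : W ≠ V₁ := fun e => hgV (InvChar.SelfThree.mem_normalizer_of_forall fun x hx =>
    e ▸ ⟨x, hx, rfl⟩)
  have hWe : ∀ w ∈ W, w * w = 1 := by
    rintro _ ⟨x, hx, rfl⟩
    rw [← map_mul, hV₁e x hx, map_one]
  have hWn : ∀ m ∈ D, ∀ w ∈ W, m * w * m⁻¹ ∈ W := by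
    rintro m hm _ ⟨x, hx, rfl⟩
    have hm' : g⁻¹ * m * g ∈ D := by
      have h1 := (mem_normalizer_iff.mp ((normalizer (D : Set G)).inv_mem hgN) m).mp hm
      rwa [inv_inv] at h1
    refine ⟨(g⁻¹ * m * g) * x * (g⁻¹ * m * g)⁻¹, hV₁n _ hm' x hx, ?_⟩
    simp only [MulEquiv.coe_toMonoidHom, MulAut.conj_apply]
    group
  obtain ⟨s, hsV, hsW⟩ : ∃ s ∈ V₁, s ∉ W := by
    by_contra hc
    push Not at hc
    exact hWne (eq_of_le_of_card_ge hc (by omega)).symm
  set t := g * s * g⁻¹ with ht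
  have htW : t ∈ W := ⟨s, hsV, rfl⟩
  -- `g` maps `W` back to `V₁`
  have hgW : ∀ w ∈ W, g * w * g⁻¹ ∈ V₁ := by
    rintro _ ⟨x, hx, rfl⟩
    have := hV₁n (g * g) hg2 x hx
    rw [show g * g * x * (g * g)⁻¹ = g * (g * x * g⁻¹) * g⁻¹ by group] at this
    exact this
  set d := g * g with hd
  have hdfix : g * d * g⁻¹ = d := by rw [hd]; group
  have hs2 := hV₁e s hsV
  have ht2 := hWe t htW
  have htV : t ∉ V₁ := by
    intro htv
    have hn : g ∈ normalizer ((V₁ ⊓ W : Subgroup G) : Set G) :=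
      InvChar.SelfThree.mem_normalizer_of_forall fun x hx => ⟨hgW x hx.2, ⟨x, hx.1, rfl⟩⟩
    exact hsW ((mem_normalizer_iff.mp hn s).mpr ⟨htv, htW⟩).2
  obtain ⟨c, hcV, hcW, hc1⟩ : ∃ c ∈ V₁, c ∈ W ∧ c ≠ 1 := by
    by_contra hc
    push Not at hc
    have h1 : Function.Injective (fun q : ↥V₁ × ↥W => (⟨(q.1 : G) * q.2, mul_mem (hV₁D q.1.2) (hWD q.2.2)⟩ : ↥D)) := by
      rintro ⟨v, w⟩ ⟨v', w'⟩ he
      have he' : (v : G) * w = v' * w' := congrArg Subtype.val he
      have h2 : (v' : G)⁻¹ * v = w' * (w : G)⁻¹ := by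
        calc (v' : G)⁻¹ * v = (v' : G)⁻¹ * ((v : G) * w) * (w : G)⁻¹ := by group
          _ = w' * (w : G)⁻¹ := by rw [he']; group
      have h3 := hc _ (mul_mem (inv_mem v'.2) v.2) (h2 ▸ mul_mem w'.2 (inv_mem w.2))
      have h4 := h2 ▸ h3
      exact Prod.ext (Subtype.ext (inv_mul_eq_one.mp h3).symm) (Subtype.ext (mul_inv_eq_one.mp h4).symm)
    have h2 := Nat.card_le_card_of_injective _ h1
    rw [Nat.card_prod, hV₁c, hWc, hD] at h2
    omega
  have hst : s * t ≠ t * s := by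
    intro hst
    apply htV
    refine hV₁C t (hWD htW) fun v hv => ?_
    set K := centralizer ({t} : Set G) ⊓ V₁ with hK
    have hsK : s ∈ K := ⟨mem_centralizer_singleton_iff.mpr hst, hsV⟩
    have hcK : c ∈ K := ⟨mem_centralizer_singleton_iff.mpr (by
      have := hWe (c * t) (mul_mem hcW htW)
      calc c * t = (c * t)⁻¹ := (inv_eq_of_mul_eq_one_right this).symm
        _ = t * c := by rw [mul_inv_rev, inv_eq_of_mul_eq_one_right ht2,
            inv_eq_of_mul_eq_one_right (hWe c hcW)]), hcV⟩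
    have hK3 : 2 < Nat.card K := by
      have h1 : ({1, s, c} : Set G) ⊆ (K : Set G) := by
        rintro y (rfl | rfl | rfl)
        · exact one_mem _
        · exact hsK
        · exact hcK
      have h2 := Set.ncard_le_ncard h1 (Set.toFinite _)
      rw [Set.ncard_eq_three.mpr ⟨1, s, c, fun e => hsW (e ▸ one_mem _), hc1.symm,
        fun e => hsW (e ▸ hcW), rfl⟩, ← Nat.card_coe_set_eq] at h2
      exact h2
    have hKe : K = V₁ := by
      refine eq_of_le_of_card_ge inf_le_right ?_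
      have h1 := card_dvd_of_le (inf_le_right : K ≤ V₁)
      rw [hV₁c, show (4 : ℕ) = 2 ^ 2 by norm_num] at h1
      obtain ⟨k, hk, hk'⟩ := (Nat.dvd_prime_pow Nat.prime_two).mp h1
      rw [hV₁c, hk']
      have : k = 2 := by
        by_contra hk2
        have : 2 ^ k ≤ 2 ^ 1 := Nat.pow_le_pow_right two_pos (by omega)
        have hK3' : 2 < 2 ^ k := lt_of_lt_of_le hK3 hk'.le
        omega
      rw [this]; norm_num
    exact (mem_centralizer_singleton_iff.mp (hKe.symm ▸ hv : v ∈ K).1).symm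
  have hd1 : d * d = 1 := by
    have h4 := orderOf_two_power h (x := g) (hS.to_le (zpowers_le.mpr hgS))
    rw [← h4, hd]
    simp [pow_succ, mul_assoc]
  have key : ∀ x y u : DihedralGroup 4, x * x = 1 → y * y = 1 → u * u = 1 → x * y ≠ y * x →
      u = 1 ∨ u = x ∨ u = y ∨ u = (x * y) * (x * y) ∨ u = x * ((x * y) * (x * y)) ∨
        u = y * ((x * y) * (x * y)) := by decide
  have hst2 : (s * t) * (s * t) ∈ V₁ ∧ (s * t) * (s * t) ∈ W := by
    have hra : (s * t) * (s * t) = s * (t * s * t⁻¹) := by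
      rw [inv_eq_of_mul_eq_one_right ht2]; group
    have hrb : (s * t) * (s * t) = (s * t * s⁻¹) * t := by
      rw [inv_eq_of_mul_eq_one_right hs2]; group
    exact ⟨hra ▸ mul_mem hsV (hV₁n t (hWD htW) s hsV), hrb ▸ mul_mem (hWn s (hV₁D hsV) t htW) htW⟩
  have hdV : d ∈ V₁ ∧ d ∈ W := by
    obtain ⟨x, hx⟩ := ι.surjective ⟨s, hV₁D hsV⟩
    obtain ⟨y, hy⟩ := ι.surjective ⟨t, hWD htW⟩
    obtain ⟨u, hu⟩ := ι.surjective ⟨d, hg2⟩
    have hxv : (ι x : G) = s := congrArg Subtype.val hx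
    have hyv : (ι y : G) = t := congrArg Subtype.val hy
    have huv : (ι u : G) = d := congrArg Subtype.val hu
    have tr : ∀ p q : DihedralGroup 4, p = q ↔ (ι p : G) = (ι q : G) := fun p q =>
      ⟨fun e => by rw [e], fun e => ι.injective (Subtype.ext e)⟩
    have hor : d ∈ V₁ ∨ d ∈ W := by
      rcases key x y u
        (by rw [tr]; simpa [hxv] using hs2) (by rw [tr]; simpa [hyv] using ht2)
        (by rw [tr]; simpa [huv] using hd1)
        (by rw [Ne, tr]; simpa [hxv, hyv] using hst) with e | e | e | e | e | e <;>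
        rw [tr, huv] at e <;> simp only [map_mul, map_one, Subgroup.coe_mul, Subgroup.coe_one, hxv, hyv] at e <;>
        rw [e]
      · exact Or.inl (one_mem _)
      · exact Or.inl hsV
      · exact Or.inr htW
      · exact Or.inl hst2.1
      · exact Or.inl (mul_mem hsV hst2.1)
      · exact Or.inr (mul_mem htW hst2.2)
    rcases hor with e | e
    · exact ⟨e, hdfix ▸ ⟨d, e, rfl⟩⟩
    · exact ⟨hdfix ▸ hgW d e, e⟩
  have hds : d * s = s * d := by
    calc d * s = (d * s)⁻¹ := (inv_eq_of_mul_eq_one_right (hV₁e _ (mul_mem hdV.1 hsV))).symm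
      _ = s * d := by rw [mul_inv_rev, inv_eq_of_mul_eq_one_right hs2, inv_eq_of_mul_eq_one_right hd1]
  have hdt : d * t = t * d := by
    calc d * t = (d * t)⁻¹ := (inv_eq_of_mul_eq_one_right (hWe _ (mul_mem hdV.2 htW))).symm
      _ = t * d := by rw [mul_inv_rev, inv_eq_of_mul_eq_one_right ht2, inv_eq_of_mul_eq_one_right hd1]
  have hgs : g * s * (g * s) = d * (t * s) := by
    calc g * s * (g * s) = (g * s * g⁻¹) * (g * g) * s := by group
      _ = t * d * s := by rw [← ht, ← hd]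
      _ = d * (t * s) := by rw [← hdt, mul_assoc]
  have h4 := orderOf_two_power h (x := g * s)
    (hS.to_le (zpowers_le.mpr (mul_mem hgS (hDS (hV₁D hsV)))))
  rw [show (g * s) ^ 4 = (g * s * (g * s)) * (g * s * (g * s)) by simp [pow_succ, mul_assoc], hgs,
    show d * (t * s) * (d * (t * s)) = (d * d) * ((t * s) * (t * s)) by
      calc d * (t * s) * (d * (t * s)) = d * (t * (s * d)) * (t * s) := by group
        _ = d * (t * (d * s)) * (t * s) := by rw [hds]
        _ = d * ((t * d) * s) * (t * s) := by group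
        _ = d * ((d * t) * s) * (t * s) := by rw [hdt]
        _ = (d * d) * ((t * s) * (t * s)) := by group,
    hd1, one_mul, mul_eq_one_iff_eq_inv, mul_inv_rev, inv_eq_of_mul_eq_one_right hs2,
    inv_eq_of_mul_eq_one_right ht2] at h4
  exact hst h4.symm

end Cfsg.Agent.Lib.InvChar.OrdersFive
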